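import Cfsg.Agent.H66.UFour.Code

/-! Facts about pairs of elements of `SL(2,3)` modulo the common sign, checked on codes. -/

set_option autoImplicit false
set_option maxRecDepth 10000
set_option synthInstance.maxSize 4000
set_option synthInstance.maxHeartbeats 400000

namespace Cfsg.Agent.H66.UFour

/-- membership in `Q8` -/
def isQ (a : ℕ) : Bool := Nat.beq (sm (sm a a) (sm a a)) 0

/-- equality of pairs modulo the common sign -/
def peq (a b c d : ℕ) : Bool :=
  (Nat.beq a c && Nat.beq b d) || (Nat.beq a (sn c) && Nat.beq b (sn d))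

/-- two pairs commute -/
def pcom (a b c d : ℕ) : Bool := peq (sm a c) (sm b d) (sm c a) (sm d b)

theorem isQ_list : ∀ a < 24, isQ a = true → a ∈ [0, 5, 8, 11, 12, 17, 20, 23] := by decide +kernel

theorem q_closed : ∀ a < 24, isQ a = true → ∀ b < 24, isQ b = true →
    isQ (sm a b) = true ∧ isQ (si a) = true ∧ isQ (sn a) = true := by decide +kernel

theorem q_normal : ∀ a < 24, isQ a = true → ∀ k < 24, isQ (sm (sm k a) (si k)) = true := by
  decide +kernel

theorem pair_sq_z : ∀ a < 24, isQ a = true → ∀ b < 24, isQ b = true →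
    peq (sm a a) (sm b b) 12 0 = true → (a = 0 ∨ a = 12) ∨ (b = 0 ∨ b = 12) := by decide +kernel

theorem commute_two : ∀ a < 24, isQ a = true → ∀ c < 24, isQ c = true → sm a c ≠ sm c a →
    ∀ d < 24, sm d a = sm a d → sm d c = sm c d → d = 0 ∨ d = 12 := by decide +kernel

theorem pair_four : ∀ a < 24, ∀ b < 24,
    peq (sm (sm a a) (sm a a)) (sm (sm b b) (sm b b)) 0 0 = true →
      isQ a = true ∧ isQ b = true := by decide +kernel

theorem pair_invol : ∀ a < 24, ∀ b < 24, peq (sm a a) (sm b b) 0 0 = true → peq a b 0 0 = false →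
    peq a b 12 0 = false → sm a a = 12 ∧ sm b b = 12 ∧ isQ a = true ∧ isQ b = true := by
  decide +kernel

theorem q_sq : ∀ a < 24, isQ a = true → sm a a = 0 ∨ sm a a = 12 := by decide +kernel

theorem anticomm : ∀ a < 24, sm a a = 12 →
    ∃ a' < 24, isQ a' = true ∧ sm a' a' = 12 ∧ sm a a' = sn (sm a' a) ∧ sm a a' ≠ sm a' a := by
  decide +kernel

theorem count_cent : ∀ a < 24, sm a a = 12 → ∀ b < 24, sm b b = 12 →
    cntB 288 (fun k => isQ (Nat.div k 24) && isQ (Nat.mod k 24) &&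
      pcom (Nat.div k 24) (Nat.mod k 24) a b) = 16 := by decide +kernel

theorem cent_invol : ∀ a < 24, sm a a = 12 → ∀ b < 24, sm b b = 12 →
    ∃ c < 24, ∃ d < 24, isQ c = true ∧ isQ d = true ∧ pcom c d a b = true ∧
      peq (sm c c) (sm d d) 0 0 = true ∧ peq c d 0 0 = false ∧ peq c d 12 0 = false ∧
      peq c d a b = false ∧ peq c d a (sn b) = false := by decide +kernel

theorem sign_inner : ∀ a < 24, isQ a = true → ∀ c < 24, isQ c = true → sm a c ≠ sm c a →
    ∀ s < 2, ∀ t < 2, ∃ y < 24, isQ y = true ∧ sm y a = snk s (sm a y) ∧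
      sm y c = snk t (sm c y) := by decide +kernel

theorem q_gen : ∀ a < 24, isQ a = true → ∀ c < 24, isQ c = true → sm a c ≠ sm c a →
    ∀ x < 24, isQ x = true → x = 0 ∨ x = sm a a ∨ x = a ∨ x = c ∨ x = sm a c ∨ x = sm c a ∨
      x = sm (sm a a) a ∨ x = sm (sm a a) c := by decide +kernel

theorem auto_images : ∀ A < 24, A ≠ 0 → sm A (sm A A) = 0 → ∀ B < 24, sm B B = 12 →
    sm (sm B A) (sm (sm B A) (sm B A)) = 0 →
    (∃ k < 24, sm A k = sm k 1 ∧ sm B k = sm k 5) ∨
      ∃ k < 24, sm A k = sm k (sg 1) ∧ sm B k = sm k (sg 5) := by decide +kernel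

theorem no_inner : ∀ a < 24, isQ a = true → ∀ c < 24, isQ c = true → sm a c ≠ sm c a →
    ∀ k < 24, (sm k a = sm a k ∨ sm k a = sn (sm a k)) →
      ¬(sm k c = sm (sm a c) k ∨ sm k c = sn (sm (sm a c) k)) := by decide +kernel

theorem comm_gens : ∀ d < 24, sm d 5 = sm 5 d → sm d 8 = sm 8 d → d = 0 ∨ d = 12 := by
  decide +kernel

theorem q5 : isQ 5 = true ∧ isQ 8 = true ∧ sm 5 8 ≠ sm 8 5 ∧ sm 5 5 = 12 ∧ sm 8 8 = 12 := by
  decide +kernel

theorem three_five : sm 5 (sm (si 1) (si 5)) = 3 := by decide +kernel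

end Cfsg.Agent.H66.UFour
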