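import Mathlib

/-!
A group of odd order whose order is divisible by five and seven just once has commuting elements of
these orders.
-/

set_option autoImplicit false

namespace Cfsg.Agent.H66.UFour

theorem commute_of_norm {D : Type*} [Group D] [Finite D] {p : ℕ} [Fact p.Prime] {n y : D}
    (hy : orderOf y = p) (hn : n * y * n⁻¹ ∈ Subgroup.zpowers y)
    (hc : Nat.Coprime (orderOf n) (p - 1)) : n * y = y * n := by
  obtain ⟨k, hk⟩ := (mem_powers_iff_mem_zpowers.2 hn : n * y * n⁻¹ ∈ Submonoid.powers y)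
  change y ^ k = n * y * n⁻¹ at hk
  have hiter : ∀ m : ℕ, n ^ m * y * (n ^ m)⁻¹ = y ^ k ^ m := by
    intro m
    induction m with
    | zero => simp
    | succ m ih =>
      calc n ^ (m + 1) * y * (n ^ (m + 1))⁻¹ = n * (n ^ m * y * (n ^ m)⁻¹) * n⁻¹ := by group
        _ = n * y ^ k ^ m * n⁻¹ := by rw [ih]
        _ = (n * y * n⁻¹) ^ k ^ m := conj_pow.symm
        _ = _ := by rw [← hk, ← pow_mul, ← pow_succ']
  have h1 := hiter (orderOf n)
  rw [pow_orderOf_eq_one, one_mul, inv_one, mul_one] at h1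
  have hmod : k ^ orderOf n ≡ 1 [MOD p] := by
    rw [← hy]
    refine pow_eq_pow_iff_modEq.1 ?_
    rw [← h1, pow_one]
  have hz : (k : ZMod p) ^ orderOf n = 1 := by
    have h := (ZMod.natCast_eq_natCast_iff _ _ _).2 hmod
    push_cast at h
    exact h
  have hk0 : (k : ZMod p) ≠ 0 := by
    intro h
    rw [h, zero_pow (orderOf_pos n).ne'] at hz
    exact zero_ne_one hz
  have hk1 : (k : ZMod p) = 1 := by
    rw [← orderOf_eq_one_iff]
    exact Nat.eq_one_of_dvd_coprimes hc (orderOf_dvd_of_pow_eq_one hz)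
      (orderOf_dvd_of_pow_eq_one (ZMod.pow_card_sub_one_eq_one hk0))
  have : y ^ k = y := by
    conv_rhs => rw [← pow_one y]
    rw [pow_eq_pow_iff_modEq, hy, ← ZMod.natCast_eq_natCast_iff, hk1, Nat.cast_one]
  rw [this] at hk
  exact mul_inv_eq_iff_eq_mul.1 hk.symm

theorem card_sylow_prime {D : Type*} [Group D] [Finite D] {p : ℕ} [Fact p.Prime] (P : Sylow p D)
    (h1 : p ∣ Nat.card D) (h2 : ¬ p ^ 2 ∣ Nat.card D) : Nat.card P = p := by
  have hp := Fact.out (p := p.Prime)
  rw [P.card_eq_multiplicity]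
  have : Nat.factorization (Nat.card D) p = 1 := by
    apply le_antisymm
    · by_contra h
      exact h2 ((hp.pow_dvd_iff_le_factorization Nat.card_pos.ne').2 (by omega))
    · exact (hp.pow_dvd_iff_le_factorization Nat.card_pos.ne').1 (by rwa [pow_one])
  rw [this, pow_one]

theorem exists_commuting {D : Type*} [Group D] [Finite D] (hodd : Odd (Nat.card D))
    (h5 : 5 ∣ Nat.card D) (h7 : 7 ∣ Nat.card D) (n5 : ¬ 5 ^ 2 ∣ Nat.card D)
    (n7 : ¬ 7 ^ 2 ∣ Nat.card D) : ∃ x y : D, orderOf x = 5 ∧ orderOf y = 7 ∧ x * y = y * x := by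
  haveI : Fact (Nat.Prime 5) := ⟨by norm_num⟩
  haveI : Fact (Nat.Prime 7) := ⟨by norm_num⟩
  obtain ⟨P⟩ : Nonempty (Sylow 5 D) := inferInstance
  have cP := card_sylow_prime P h5 n5
  obtain ⟨⟨g, hgP⟩, hg⟩ := exists_prime_orderOf_dvd_card' (G := (P : Subgroup D)) 5 (by
    show 5 ∣ Nat.card P
    rw [cP])
  have hg5 : orderOf g = 5 := by rwa [Subgroup.orderOf_mk] at hg
  have hPg : Subgroup.zpowers g = (P : Subgroup D) :=
    Subgroup.eq_of_le_of_card_ge (Subgroup.zpowers_le.2 hgP) (by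
      rw [Nat.card_zpowers, hg5]; exact cP.le)
  have hNC : Subgroup.normalizer ((P : Subgroup D) : Set D) ≤
      Subgroup.centralizer ((P : Subgroup D) : Set D) := by
    intro n hn
    have hodd_n : Nat.Coprime (orderOf n) (5 - 1) := by
      have := Odd.of_dvd_nat hodd (orderOf_dvd_natCard n)
      exact (Nat.Coprime.pow_right 2 (Nat.coprime_two_right.2 this) : Nat.Coprime _ (2 ^ 2))
    have hmem : n * g * n⁻¹ ∈ Subgroup.zpowers g := by
      rw [hPg]; exact (Subgroup.mem_normalizer_iff.1 hn g).1 hgP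
    have hc : n * g = g * n := commute_of_norm hg5 hmem hodd_n
    rw [Subgroup.mem_centralizer_iff]
    intro x hx
    rw [← hPg] at hx
    obtain ⟨k, rfl⟩ := Subgroup.mem_zpowers_iff.1 hx
    exact ((show Commute g n from hc.symm).zpow_left k).eq
  set φ := MonoidHom.transferSylow P hNC
  have hcompl := MonoidHom.ker_transferSylow_isComplement' P hNC
  set M := φ.ker
  have hM : Nat.card M * 5 = Nat.card D := by
    rw [← hcompl.card_mul]
    congr 1
    exact cP.symm
  have h7M : 7 ∣ Nat.card M := by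
    rw [← hM] at h7
    exact (Nat.Coprime.dvd_of_dvd_mul_right (by norm_num) h7)
  have n7M : ¬ 7 ^ 2 ∣ Nat.card M := fun h => n7 (h.trans ⟨5, hM.symm⟩)
  obtain ⟨R⟩ : Nonempty (Sylow 7 M) := inferInstance
  have cR := card_sylow_prime R h7M n7M
  set R' : Subgroup D := (R : Subgroup M).map M.subtype
  have cR' : Nat.card R' = 7 := by
    rw [Subgroup.card_map_of_injective M.subtype_injective]; exact cR
  have hfr := Sylow.normalizer_sup_eq_top R
  have h5N : 5 ∣ Nat.card (Subgroup.normalizer (R' : Set D)) := by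
    by_contra hnot
    have hle : Subgroup.normalizer (R' : Set D) ≤ M := by
      intro n hn
      have h1 : orderOf (φ n) ∣ 5 := by
        have := orderOf_dvd_natCard (φ n)
        exact this.trans (dvd_of_eq cP)
      have h2 : orderOf (φ n) ∣ Nat.card (Subgroup.normalizer (R' : Set D)) :=
        (orderOf_map_dvd φ n).trans (Subgroup.orderOf_dvd_natCard _ hn)
      rcases (Nat.dvd_prime (by norm_num)).1 h1 with h | h
      · exact MonoidHom.mem_ker.2 (orderOf_eq_one_iff.1 h)
      · rw [h] at h2; exact absurd h2 hnot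
    have htop : M = ⊤ := by
      rw [eq_top_iff, ← hfr]
      exact sup_le hle le_rfl
    rw [htop, Subgroup.card_top] at hM
    have : 0 < Nat.card D := Nat.card_pos
    omega
  obtain ⟨⟨x, hxN⟩, hx⟩ := exists_prime_orderOf_dvd_card' (G := Subgroup.normalizer (R' : Set D)) 5 h5N
  have hx5 : orderOf x = 5 := by
    rwa [Subgroup.orderOf_mk] at hx
  obtain ⟨⟨y, hyR⟩, hy⟩ := exists_prime_orderOf_dvd_card' (G := R') 7 (dvd_of_eq cR'.symm)
  have hy7 : orderOf y = 7 := by rwa [Subgroup.orderOf_mk] at hy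
  have hRy : Subgroup.zpowers y = R' :=
    Subgroup.eq_of_le_of_card_ge (Subgroup.zpowers_le.2 hyR) (by rw [Nat.card_zpowers, hy7, cR'])
  refine ⟨x, y, hx5, hy7, commute_of_norm hy7 ?_ ?_⟩
  · rw [hRy]; exact (Subgroup.mem_normalizer_iff.1 hxN y).1 hyR
  · rw [hx5]; decide

end Cfsg.Agent.H66.UFour
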