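import Cfsg.Agent.H66.UFour.Gen
import Cfsg.Agent.H66.UFour.OddPart
import Cfsg.Agent.H26.StronglyEmbedded
import Cfsg.Agent.S1225

/-!
A group of U4(3) type is the generated subgroup.
-/

set_option autoImplicit false
set_option synthInstance.maxSize 4000
set_option synthInstance.maxHeartbeats 400000

namespace Cfsg.Agent.H66.UFour

theorem index_orbit {G : Type*} [Group G] [Finite G] {z : G} (L : Subgroup G) (I : Set G)
    (h1 : ∀ l ∈ L, l * z * l⁻¹ ∈ I) (h2 : ∀ t ∈ I, ∃ l ∈ L, l * z * l⁻¹ = t) :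
    ((Subgroup.centralizer ({z} : Set G)).subgroupOf L).index = Nat.card I := by
  set S := (Subgroup.centralizer ({z} : Set G)).subgroupOf L
  have hS : ∀ l m : L, l⁻¹ * m ∈ S ↔ (l : G) * z * (l : G)⁻¹ = m * z * (m : G)⁻¹ := by
    intro l m
    rw [Subgroup.mem_subgroupOf, Subgroup.mem_centralizer_singleton_iff]
    push_cast
    constructor
    · intro h
      calc (l : G) * z * (l : G)⁻¹ = l * (z * ((l : G)⁻¹ * m)) * (m : G)⁻¹ := by group
        _ = l * ((l : G)⁻¹ * m * z) * (m : G)⁻¹ := by rw [h]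
        _ = _ := by group
    · intro h
      calc (l : G)⁻¹ * m * z = (l : G)⁻¹ * (m * z * (m : G)⁻¹) * m := by group
        _ = (l : G)⁻¹ * (l * z * (l : G)⁻¹) * m := by rw [h]
        _ = _ := by group
  let f : L ⧸ S → I := fun q => Quotient.liftOn' q (fun l => ⟨(l : G) * z * (l : G)⁻¹, h1 _ l.2⟩)
    (fun l m h => Subtype.ext ((hS l m).1 (QuotientGroup.leftRel_apply.1 h)))
  rw [Subgroup.index_eq_card]
  refine Nat.card_congr (Equiv.ofBijective f ⟨?_, ?_⟩)
  · intro p q
    induction p using QuotientGroup.induction_on with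
    | _ l =>
    induction q using QuotientGroup.induction_on with
    | _ m =>
    intro h
    exact QuotientGroup.eq.2 ((hS l m).2 (Subtype.ext_iff.1 h))
  · rintro ⟨t, ht⟩
    obtain ⟨l, hl, e⟩ := h2 t ht
    exact ⟨QuotientGroup.mk ⟨l, hl⟩, Subtype.ext e⟩

namespace Hyp

variable {G : Type*} [Group G] [Finite G] {z : G} (K : Hyp z)

include K in
theorem card_cent : Nat.card (Subgroup.centralizer ({z} : Set G)) = 1152 := by
  have hb : Function.Bijective (fun n : Fin 1152 => (⟨K.p n, Subgroup.mem_centralizer_singleton_iff.2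
      (K.p_comm_z _)⟩ : Subgroup.centralizer ({z} : Set G))) := by
    constructor
    · intro m n h
      exact Fin.ext (K.p_inj m.2 n.2 (Subtype.ext_iff.1 h))
    · rintro ⟨g, hg⟩
      obtain ⟨n, hn, rfl⟩ := K.surj (Subgroup.mem_centralizer_singleton_iff.1 hg)
      exact ⟨⟨n, hn⟩, rfl⟩
  rw [← Nat.card_congr (Equiv.ofBijective _ hb), Nat.card_fin]

include K in
/-- the identification -/
theorem ident : Nat.card G = 2 ^ 7 * 3 ^ 6 * 5 * 7 ∧
    (∀ x y : G, orderOf x = 2 → orderOf y = 2 → IsConj x y) ∧ Nonempty (Model.grp ≃* G) := by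
  classical
  obtain ⟨T, b, c, C⟩ := K.exists_coords
  have hA1 : K.p cA1 ≠ 1 := fun h => absurd
    (K.p_inj levi_facts.1.2.2.1 (by norm_num) (h.trans K.p_zero.symm)) (by decide +kernel)
  obtain ⟨e⟩ := exists_iso (K.rel C) hA1
  change Model.grp ≃* K.G1 C at e
  have hcard : Nat.card (K.G1 C) = 3265920 := by rw [← Nat.card_congr e.toEquiv, Model.card_grp]
  set Hz := Subgroup.centralizer ({z} : Set G) with hHz
  have hz2 : orderOf z = 2 := orderOf_eq_prime (by rw [pow_two]; exact K.raw.z_sq) K.raw.z_ne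
  have hzG : z ∈ K.G1 C := K.cent_le C (Subgroup.mem_centralizer_singleton_iff.2 rfl)
  -- one class of involutions in the subgroup
  have hfus : ∀ t ∈ K.G1 C, orderOf t = 2 → ∃ g ∈ K.G1 C, g * z * g⁻¹ = t := by
    intro t ht ht2
    haveI : Fact (Nat.Prime 2) := ⟨Nat.prime_two⟩
    have cS : Nat.card (Hz.subgroupOf (K.G1 C)) = 2 ^ 7 * 9 := by
      rw [Nat.card_congr (Subgroup.subgroupOfEquivOfLe (K.cent_le C)).toEquiv, K.card_cent]
      norm_num
    obtain ⟨P, hPc⟩ := Sylow.exists_subgroup_card_pow_prime 2 (n := 7)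
      (show 2 ^ 7 ∣ Nat.card (Hz.subgroupOf (K.G1 C)) from ⟨9, cS⟩)
    have hfac : Nat.factorization 3265920 2 = 7 := by
      have hp : Nat.Prime 2 := Nat.prime_two
      apply le_antisymm
      · by_contra h
        have := (hp.pow_dvd_iff_le_factorization (k := 8) (n := 3265920) (by norm_num)).2 (by omega)
        norm_num at this
      · exact (hp.pow_dvd_iff_le_factorization (k := 7) (n := 3265920) (by norm_num)).1 (by norm_num)
    let P0 : Sylow 2 (K.G1 C) := Sylow.ofCard (P.map (Hz.subgroupOf (K.G1 C)).subtype) (by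
      rw [Subgroup.card_map_of_injective (Subgroup.subtype_injective _), hPc, hcard, hfac])
    have hz : IsPGroup 2 (Subgroup.zpowers (⟨t, ht⟩ : K.G1 C)) :=
      IsPGroup.of_card (n := 1) (by rw [Nat.card_zpowers, Subgroup.orderOf_mk, ht2, pow_one])
    obtain ⟨x, hx⟩ := H39.exists_conj_le_sylow hz P0
    have hmem := hx _ (Subgroup.mem_zpowers _)
    have hH : (x : G) * t * (x : G)⁻¹ ∈ Hz := by
      obtain ⟨⟨y, hy⟩, -, e⟩ := hmem
      have e' : (y : G) = (x : G) * t * (x : G)⁻¹ := congrArg Subtype.val e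
      rw [← e']
      exact hy
    have hinv : (x : G) * t * (x : G)⁻¹ * ((x : G) * t * (x : G)⁻¹) = 1 := by
      have : t * t = 1 := by rw [← pow_two, ← ht2, pow_orderOf_eq_one]
      calc (x : G) * t * (x : G)⁻¹ * ((x : G) * t * (x : G)⁻¹) = x * (t * t) * (x : G)⁻¹ := by group
        _ = 1 := by rw [this]; group
    have hne : (x : G) * t * (x : G)⁻¹ ≠ 1 := fun h => by
      have : t = 1 := by
        calc t = (x : G)⁻¹ * ((x : G) * t * (x : G)⁻¹) * x := by group
          _ = 1 := by rw [h]; group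
      rw [this, orderOf_one] at ht2
      norm_num at ht2
    obtain ⟨g, hg, eg⟩ := K.conj_z_of_invol C (Subgroup.mem_centralizer_singleton_iff.1 hH) hinv hne
    exact ⟨(x : G)⁻¹ * g, mul_mem (inv_mem x.2) hg, by
      calc (x : G)⁻¹ * g * z * ((x : G)⁻¹ * g)⁻¹ = (x : G)⁻¹ * (g * z * g⁻¹) * x := by group
        _ = t := by rw [eg]; group⟩
  have ocz : ∀ g : G, orderOf (g * z * g⁻¹) = 2 := fun g => by rw [H26.orderOf_conj_eq, hz2]
  by_cases htop : K.G1 C = ⊤
  · refine ⟨?_, fun x y hx hy => ?_, ⟨e.trans ((MulEquiv.subgroupCongr htop).trans Subgroup.topEquiv)⟩⟩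
    · rw [← Subgroup.card_top (G := G), ← htop, hcard]
      norm_num
    · obtain ⟨g, -, eg⟩ := hfus x (htop ▸ Subgroup.mem_top _) hx
      obtain ⟨h, -, eh⟩ := hfus y (htop ▸ Subgroup.mem_top _) hy
      exact (isConj_iff.2 ⟨g, eg⟩).symm.trans (isConj_iff.2 ⟨h, eh⟩)
  exfalso
  have heven : Even (Nat.card (K.G1 C)) := by rw [hcard]; exact ⟨1632960, by norm_num⟩
  have hSE : Cfsg.IsStronglyEmbedded (K.G1 C) := by
    rw [H26.isStronglyEmbedded_iff_involution _ htop heven]
    intro t ht ht2 g hg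
    obtain ⟨p, hp, ep⟩ := hfus t ht ht2
    obtain ⟨q, hq, eq⟩ := hfus _ hg (by rw [H26.orderOf_conj_eq, ht2])
    have hk : q⁻¹ * g * p ∈ Hz := by
      rw [hHz, Subgroup.mem_centralizer_singleton_iff]
      calc q⁻¹ * g * p * z = q⁻¹ * (g * (p * z * p⁻¹) * g⁻¹) * g * p := by group
        _ = q⁻¹ * (q * z * q⁻¹) * g * p := by rw [ep, eq]
        _ = _ := by group
    have := mul_mem (mul_mem hq (K.cent_le C hk)) (inv_mem hp)
    rwa [show q * (q⁻¹ * g * p) * p⁻¹ = g by group] at this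
  obtain ⟨u, hu, huG⟩ : ∃ u : G, orderOf u = 2 ∧ u ∉ K.G1 C := by
    by_contra h
    push Not at h
    apply htop
    rw [eq_top_iff]
    intro g _
    obtain ⟨q, hq, eq⟩ := hfus _ (h _ (ocz g)) (ocz g)
    have hk : q⁻¹ * g ∈ Hz := by
      rw [hHz, Subgroup.mem_centralizer_singleton_iff]
      calc q⁻¹ * g * z = q⁻¹ * (g * z * g⁻¹) * g := by group
        _ = q⁻¹ * (q * z * q⁻¹) * g := by rw [eq]
        _ = _ := by group
    have := mul_mem hq (K.cent_le C hk)
    rwa [mul_inv_cancel_left] at this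
  set D := K.G1 C ⊓ (K.G1 C).map (MulAut.conj u).toMonoidHom with hD
  have hDodd : Odd (Nat.card D) := hSE.2.2 u huG
  set I : Set G := {t | t ∈ K.G1 C ∧ orderOf t = 2} with hI
  have hconjI : ∀ g ∈ K.G1 C, g * z * g⁻¹ ∈ I := fun g hg =>
    ⟨mul_mem (mul_mem hg hzG) (inv_mem hg), ocz g⟩
  have cI : Nat.card I = 2835 := by
    rw [← index_orbit (K.G1 C) I hconjI (fun t ht => hfus t ht.1 ht.2)]
    have h := (Hz.subgroupOf (K.G1 C)).card_mul_index
    rw [Nat.card_congr (Subgroup.subgroupOfEquivOfLe (K.cent_le C)).toEquiv, K.card_cent, hcard] at h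
    show (Hz.subgroupOf (K.G1 C)).index = 2835
    omega
  have hdvd : 2835 ∣ Nat.card D := by
    rw [← cI, ← index_orbit D I (fun d hd => hconjI d hd.1) (fun t ht => ?_)]
    · exact Subgroup.index_dvd_card _
    · exact (Cfsg.Agent.S1225.result _ hSE u hu huG z t hz2 hzG ht.2 ht.1).1
  have hDG : Nat.card D ∣ 3265920 := hcard ▸ Subgroup.card_dvd_of_le inf_le_left
  obtain ⟨x, y, hx, hy, hxy⟩ := exists_commuting hDodd
    ((show 5 ∣ 2835 by norm_num).trans hdvd) ((show 7 ∣ 2835 by norm_num).trans hdvd)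
    (fun h => absurd (h.trans hDG) (by norm_num)) (fun h => absurd (h.trans hDG) (by norm_num))
  let ι : D →* Equiv.Perm (Fin 112) :=
    (Model.grp.subtype.comp e.symm.toMonoidHom).comp (Subgroup.inclusion inf_le_left)
  have hι : Function.Injective ι :=
    (Model.grp.subtype_injective.comp e.symm.injective).comp (Subgroup.inclusion_injective _)
  exact Model.no_commuting (x := ι x) (y := ι y) (SetLike.coe_mem _) (SetLike.coe_mem _)
    (by rw [orderOf_injective ι hι, hx]) (by rw [orderOf_injective ι hι, hy])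
    (by rw [← map_mul, hxy, map_mul])

end Hyp

end Cfsg.Agent.H66.UFour
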