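import Cfsg.Agent.H66.UFour.Sl
import Cfsg.Agent.H66.UFour.Pairs

/-!
The raw hypotheses on an involution centraliser of `U4(3)` type, in terms of two homomorphisms of
`SL(2,3)`, and the calculus of pairs.
-/

set_option autoImplicit false

namespace Cfsg.Agent.H66.UFour

variable {G : Type*} [Group G]

/-- the element of a pair of codes -/
def pp (e1 e2 : S2 →* G) (a b : ℕ) : G := e1 (sl a) * e2 (sl b)

/-- membership in the central product of the two quaternion groups -/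
def InQ (e1 e2 : S2 →* G) (x : G) : Prop :=
  ∃ a < 24, ∃ b < 24, isQ a = true ∧ isQ b = true ∧ pp e1 e2 a b = x

/-- the hypotheses -/
structure Raw (z : G) (e1 e2 : S2 →* G) : Prop where
  z_ne : z ≠ 1
  z_sq : z * z = 1
  neg1 : e1 (-1) = z
  neg2 : e2 (-1) = z
  inj1 : Function.Injective e1
  inj2 : Function.Injective e2
  comm : ∀ A B, e1 A * e2 B = e2 B * e1 A
  meet : ∀ A B, e1 A = e2 B → (A = 1 ∧ B = 1) ∨ (A = -1 ∧ B = -1)
  card : Nat.card ↥(Subgroup.centralizer ({z} : Set G)) = 1152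
  conjK : ∀ h : G, h * z = z * h → ∀ A B, ∃ C D, h * (e1 A * e2 B) * h⁻¹ = e1 C * e2 D
  conjQ : ∀ h : G, h * z = z * h → ∀ x, InQ e1 e2 x → InQ e1 e2 (h * x * h⁻¹)
  centQ : ∀ h : G, h * z = z * h → (∀ x, InQ e1 e2 x → h * x = x * h) → InQ e1 e2 h
  nwc : ∃ g : G, InQ e1 e2 (g * z * g⁻¹) ∧ g * z * g⁻¹ ≠ z
  inter : ∀ g : G, InQ e1 e2 (g * z * g⁻¹) → g * z * g⁻¹ ≠ z →
    Nat.card {x : G // InQ e1 e2 x ∧ InQ e1 e2 (g⁻¹ * x * g)} = 4

theorem peq_spec {a b c d : ℕ} :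
    peq a b c d = true ↔ (a = c ∧ b = d) ∨ (a = sn c ∧ b = sn d) := by
  simp [peq, Nat.beq_eq]

namespace Raw

variable {z : G} {e1 e2 : S2 →* G} (R : Raw z e1 e2)
include R

theorem z_inv : z⁻¹ = z := inv_eq_of_mul_eq_one_right R.z_sq

theorem pp_z1 : pp e1 e2 12 0 = z := by rw [pp, sl_twelve, sl_zero, R.neg1, map_one, mul_one]

theorem pp_z2 : pp e1 e2 0 12 = z := by rw [pp, sl_twelve, sl_zero, R.neg2, map_one, one_mul]

theorem pp_one : pp e1 e2 0 0 = 1 := by rw [pp, sl_zero, map_one, map_one, one_mul]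

theorem pp_mul {a b c d : ℕ} (ha : a < 24) (hb : b < 24) (hc : c < 24) (hd : d < 24) :
    pp e1 e2 a b * pp e1 e2 c d = pp e1 e2 (sm a c) (sm b d) := by
  rw [pp, pp, pp, sl_mul ha hc, sl_mul hb hd, map_mul, map_mul]
  calc e1 (sl a) * e2 (sl b) * (e1 (sl c) * e2 (sl d)) =
      e1 (sl a) * (e2 (sl b) * e1 (sl c)) * e2 (sl d) := by group
    _ = e1 (sl a) * (e1 (sl c) * e2 (sl b)) * e2 (sl d) := by rw [R.comm]
    _ = _ := by group

theorem pp_inv {a b : ℕ} (ha : a < 24) (hb : b < 24) :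
    (pp e1 e2 a b)⁻¹ = pp e1 e2 (si a) (si b) := by
  refine inv_eq_of_mul_eq_one_right ?_
  rw [R.pp_mul ha hb (si_spec a ha).1 (si_spec b hb).1, (si_spec a ha).2.2, (si_spec b hb).2.2,
    R.pp_one]

theorem comm_z1 (A : S2) : e1 A * z = z * e1 A := by
  rw [← R.neg1, ← map_mul, ← map_mul]
  congr 1
  simp

theorem comm_z2 (B : S2) : e2 B * z = z * e2 B := by
  rw [← R.neg2, ← map_mul, ← map_mul]
  congr 1
  simp

theorem pp_comm_z (a b : ℕ) : pp e1 e2 a b * z = z * pp e1 e2 a b := by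
  rw [pp, mul_assoc, R.comm_z2, ← mul_assoc, R.comm_z1, mul_assoc]

theorem inQ_comm_z {x : G} (hx : InQ e1 e2 x) : x * z = z * x := by
  obtain ⟨a, -, b, -, -, -, rfl⟩ := hx
  exact R.pp_comm_z a b

theorem pp_sn {a b : ℕ} (ha : a < 24) (hb : b < 24) :
    pp e1 e2 (sn a) (sn b) = pp e1 e2 a b := by
  rw [pp, pp, sl_sn ha, sl_sn hb, map_mul, map_mul, sl_twelve, R.neg1, R.neg2]
  calc z * e1 (sl a) * (z * e2 (sl b)) = z * (e1 (sl a) * z) * e2 (sl b) := by group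
    _ = z * z * e1 (sl a) * e2 (sl b) := by rw [R.comm_z1]; group
    _ = _ := by rw [R.z_sq, one_mul]

theorem pp_eq_iff {a b c d : ℕ} (ha : a < 24) (hb : b < 24) (hc : c < 24) (hd : d < 24) :
    pp e1 e2 a b = pp e1 e2 c d ↔ peq a b c d = true := by
  rw [peq_spec]
  constructor
  · intro h
    have h' : e1 ((sl c)⁻¹ * sl a) = e2 (sl d * (sl b)⁻¹) := by
      rw [map_mul, map_mul, map_inv, map_inv]
      simp only [pp] at h
      calc (e1 (sl c))⁻¹ * e1 (sl a) =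
          (e1 (sl c))⁻¹ * (e1 (sl a) * e2 (sl b)) * (e2 (sl b))⁻¹ := by group
        _ = (e1 (sl c))⁻¹ * (e1 (sl c) * e2 (sl d)) * (e2 (sl b))⁻¹ := by rw [h]
        _ = _ := by group
    rcases R.meet _ _ h' with ⟨p, q⟩ | ⟨p, q⟩
    · exact Or.inl ⟨sl_inj ha hc (inv_mul_eq_one.1 p).symm, sl_inj hb hd (mul_inv_eq_one.1 q).symm⟩
    · refine Or.inr ⟨sl_inj ha (sn_lt c hc) ?_, sl_inj hb (sn_lt d hd) ?_⟩
      · rw [sl_sn hc, sl_twelve, eq_mul_of_inv_mul_eq p]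
        simp
      · have := eq_mul_of_mul_inv_eq q
        rw [sl_sn hd, sl_twelve, this]
        simp
  · rintro (⟨rfl, rfl⟩ | ⟨rfl, rfl⟩)
    · rfl
    · exact R.pp_sn hc hd

theorem pp_com_iff {a b c d : ℕ} (ha : a < 24) (hb : b < 24) (hc : c < 24) (hd : d < 24) :
    pp e1 e2 a b * pp e1 e2 c d = pp e1 e2 c d * pp e1 e2 a b ↔ pcom a b c d = true := by
  rw [R.pp_mul ha hb hc hd, R.pp_mul hc hd ha hb,
    R.pp_eq_iff (sm_lt a ha c hc) (sm_lt b hb d hd) (sm_lt c hc a ha) (sm_lt d hd b hb)]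
  rfl

theorem pp_first {a : ℕ} : pp e1 e2 a 0 = e1 (sl a) := by rw [pp, sl_zero, map_one, mul_one]

theorem pp_second {a : ℕ} : pp e1 e2 0 a = e2 (sl a) := by rw [pp, sl_zero, map_one, one_mul]

theorem inQ_mul {x y : G} (hx : InQ e1 e2 x) (hy : InQ e1 e2 y) : InQ e1 e2 (x * y) := by
  obtain ⟨a, ha, b, hb, qa, qb, rfl⟩ := hx
  obtain ⟨c, hc, d, hd, qc, qd, rfl⟩ := hy
  exact ⟨_, sm_lt a ha c hc, _, sm_lt b hb d hd, (q_closed a ha qa c hc qc).1,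
    (q_closed b hb qb d hd qd).1, (R.pp_mul ha hb hc hd).symm⟩

theorem inQ_inv {x : G} (hx : InQ e1 e2 x) : InQ e1 e2 x⁻¹ := by
  obtain ⟨a, ha, b, hb, qa, qb, rfl⟩ := hx
  exact ⟨_, (si_spec a ha).1, _, (si_spec b hb).1, (q_closed a ha qa a ha qa).2.1,
    (q_closed b hb qb b hb qb).2.1, (R.pp_inv ha hb).symm⟩

theorem inQ_one : InQ e1 e2 1 :=
  ⟨0, by norm_num, 0, by norm_num, rfl, rfl, R.pp_one⟩

theorem inQ_z : InQ e1 e2 z :=
  ⟨12, by norm_num, 0, by norm_num, by decide +kernel, rfl, R.pp_z1⟩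

theorem inQ_pp {a b : ℕ} (ha : a < 24) (hb : b < 24) (qa : isQ a = true) (qb : isQ b = true) :
    InQ e1 e2 (pp e1 e2 a b) :=
  ⟨a, ha, b, hb, qa, qb, rfl⟩

end Raw

end Cfsg.Agent.H66.UFour
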