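import Cfsg.Agent.H66.UFour.Rel

/-!
A group generated by elements with the relations has order at most `3265920`.
-/

set_option autoImplicit false

namespace Cfsg.Agent.H66.UFour

open scoped Pointwise

variable {G : Type*} [Group G]

theorem mem_norm_of_map {H : Subgroup G} [Finite G] {g : G} {S : Set G}
    (hS : H = Subgroup.closure S) (h : ∀ x ∈ S, g * x * g⁻¹ ∈ H) :
    g ∈ Subgroup.normalizer (H : Set G) := by
  have hle : ∀ x ∈ H, g * x * g⁻¹ ∈ H := by
    have : Subgroup.closure S ≤ H.comap (MulAut.conj g).toMonoidHom :=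
      (Subgroup.closure_le _).2 fun x hx => h x hx
    intro x hx
    rw [hS] at hx
    exact this hx
  have e : H.map (MulAut.conj g).toMonoidHom = H := by
    refine Subgroup.eq_of_le_of_card_ge ?_ ?_
    · rintro _ ⟨x, hx, rfl⟩
      exact hle x hx
    · exact (Nat.card_congr (Subgroup.equivMapOfInjective H _ (MulAut.conj g).injective).toEquiv).le
  rw [Subgroup.mem_normalizer_iff]
  refine fun x => ⟨hle x, fun hx => ?_⟩
  rw [← e] at hx
  obtain ⟨y, hy, hxy⟩ := hx
  have : y = x := (MulAut.conj g).injective (by simpa using hxy)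
  rwa [← this]

theorem card_sup_le' [Finite G] {H K : Subgroup G} (hn : K ≤ Subgroup.normalizer (H : Set G)) :
    Nat.card (H ⊔ K : Subgroup G) ≤ Nat.card H * Nat.card K := by
  rw [← Nat.card_prod]
  refine Nat.card_le_card_of_surjective
    (fun p : H × K => (⟨p.1 * p.2, mul_mem (Subgroup.mem_sup_left p.1.2)
      (Subgroup.mem_sup_right p.2.2)⟩ : (H ⊔ K : Subgroup G))) ?_
  rintro ⟨x, hx⟩
  rw [← SetLike.mem_coe, Subgroup.coe_mul_of_right_le_normalizer_left H K hn] at hx
  obtain ⟨a, ha, b, hb, rfl⟩ := hx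
  exact ⟨(⟨a, ha⟩, ⟨b, hb⟩), rfl⟩

theorem sup_decomp [Finite G] {H K : Subgroup G} (hn : K ≤ Subgroup.normalizer (H : Set G))
    {x : G} (hx : x ∈ H ⊔ K) : ∃ a ∈ H, ∃ b ∈ K, a * b = x := by
  rw [← SetLike.mem_coe, Subgroup.coe_mul_of_right_le_normalizer_left H K hn] at hx
  exact hx

theorem card_zp {x : G} {n : ℕ} (hn : 0 < n) (h : x ^ n = 1) :
    Nat.card (Subgroup.zpowers x) ≤ n := by
  rw [Nat.card_zpowers]; exact orderOf_le_of_pow_eq_one hn h

theorem zp_cases [Finite G] {x y : G} {n : ℕ} (hn : 0 < n) (h : x ^ n = 1)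
    (hy : y ∈ Subgroup.zpowers x) : ∃ k < n, y = x ^ k := by
  obtain ⟨k, rfl⟩ := (mem_powers_iff_mem_zpowers.2 hy : y ∈ Submonoid.powers x)
  exact ⟨k % n, Nat.mod_lt _ hn, by
    show x ^ k = _
    conv_lhs => rw [← Nat.div_add_mod k n, pow_add, pow_mul, h, one_pow, one_mul]⟩

variable [Finite G] {a1 a2 x1 x2 y1 y2 i w s : G}

namespace Rel

variable (R : Rel a1 a2 x1 x2 y1 y2 i w s)

/-- `J` -/
def J (_R : Rel a1 a2 x1 x2 y1 y2 i w s) : Subgroup G :=
  Subgroup.zpowers a1 ⊔ Subgroup.zpowers a2 ⊔ Subgroup.zpowers x1 ⊔ Subgroup.zpowers x2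

/-- `Y` -/
def Y (_R : Rel a1 a2 x1 x2 y1 y2 i w s) : Subgroup G :=
  Subgroup.zpowers y1 ⊔ Subgroup.zpowers y2

/-- `B` -/
def B : Subgroup G := R.J ⊔ R.Y ⊔ Subgroup.zpowers i

include R

theorem mem_J {x : G} (h : x = a1 ∨ x = a2 ∨ x = x1 ∨ x = x2) : x ∈ R.J := by
  rcases h with rfl | rfl | rfl | rfl
  · exact Subgroup.mem_sup_left (Subgroup.mem_sup_left
      (Subgroup.mem_sup_left (Subgroup.mem_zpowers _)))
  · exact Subgroup.mem_sup_left (Subgroup.mem_sup_left
      (Subgroup.mem_sup_right (Subgroup.mem_zpowers _)))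
  · exact Subgroup.mem_sup_left (Subgroup.mem_sup_right (Subgroup.mem_zpowers _))
  · exact Subgroup.mem_sup_right (Subgroup.mem_zpowers _)

theorem mem_Y : y1 ∈ R.Y ∧ y2 ∈ R.Y :=
  ⟨Subgroup.mem_sup_left (Subgroup.mem_zpowers _), Subgroup.mem_sup_right (Subgroup.mem_zpowers _)⟩

theorem J_eq : R.J = Subgroup.closure {a1, a2, x1, x2} := by
  refine le_antisymm ?_ ((Subgroup.closure_le _).2 ?_)
  · exact sup_le (sup_le (sup_le (Subgroup.zpowers_le.2 (Subgroup.subset_closure (by simp)))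
      (Subgroup.zpowers_le.2 (Subgroup.subset_closure (by simp))))
      (Subgroup.zpowers_le.2 (Subgroup.subset_closure (by simp))))
      (Subgroup.zpowers_le.2 (Subgroup.subset_closure (by simp)))
  · intro x hx
    exact R.mem_J (by simpa using hx)

theorem Y_eq : R.Y = Subgroup.closure {y1, y2} := by
  refine le_antisymm ?_ ((Subgroup.closure_le _).2 ?_)
  · exact sup_le (Subgroup.zpowers_le.2 (Subgroup.subset_closure (by simp)))
      (Subgroup.zpowers_le.2 (Subgroup.subset_closure (by simp)))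
  · rintro x (rfl | rfl)
    exacts [R.mem_Y.1, R.mem_Y.2]

theorem Y_norm_J : R.Y ≤ Subgroup.normalizer (R.J : Set G) := by
  rw [R.Y_eq, Subgroup.closure_le]
  have A1 := R.mem_J (Or.inl rfl)
  have A2 := R.mem_J (Or.inr (Or.inl rfl))
  have X1 := R.mem_J (Or.inr (Or.inr (Or.inl rfl)))
  have X2 := R.mem_J (Or.inr (Or.inr (Or.inr rfl)))
  rintro g (rfl | rfl) <;> refine mem_norm_of_map R.J_eq ?_ <;> rintro x (rfl | rfl | rfl | rfl)
  · rw [R.y1a1]; exact A1
  · rw [R.y1a2]; exact mul_mem (mul_mem A2 A1) X1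
  · rw [R.y1x1]; exact mul_mem (inv_mem A1) X1
  · rw [R.y1x2]; exact X2
  · rw [R.y2a1]; exact A1
  · rw [R.y2a2]; exact mul_mem (mul_mem A2 A1) X2
  · rw [R.y2x1]; exact X1
  · rw [R.y2x2]; exact mul_mem (inv_mem A1) X2

theorem i_norm_J : i ∈ Subgroup.normalizer (R.J : Set G) := by
  refine mem_norm_of_map R.J_eq ?_
  rintro x (rfl | rfl | rfl | rfl)
  · rw [R.ia1]; exact inv_mem (R.mem_J (Or.inl rfl))
  · rw [R.ia2]; exact inv_mem (R.mem_J (Or.inr (Or.inl rfl)))
  · rw [R.ix1]; exact R.mem_J (Or.inr (Or.inr (Or.inr rfl)))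
  · rw [R.ix2]; exact inv_mem (R.mem_J (Or.inr (Or.inr (Or.inl rfl))))

theorem i_norm_JY : Subgroup.zpowers i ≤ Subgroup.normalizer ((R.J ⊔ R.Y : Subgroup G) : Set G) := by
  rw [Subgroup.zpowers_le]
  have e : R.J ⊔ R.Y = Subgroup.closure ({a1, a2, x1, x2} ∪ {y1, y2}) := by
    rw [Subgroup.closure_union, R.J_eq, R.Y_eq]
  refine mem_norm_of_map e ?_
  rintro x (hx | rfl | rfl)
  · exact Subgroup.mem_sup_left ((Subgroup.mem_normalizer_iff.1 R.i_norm_J x).1
      (R.mem_J (by simpa using hx)))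
  · rw [R.iy1]; exact Subgroup.mem_sup_right (inv_mem R.mem_Y.2)
  · rw [R.iy2]; exact Subgroup.mem_sup_right R.mem_Y.1

theorem card_B : Nat.card R.B ≤ 2916 := by
  have hcomm : ∀ {g : G} {H : Subgroup G} {S : Set G}, H = Subgroup.closure S →
      (∀ x ∈ S, Commute g x) → Subgroup.zpowers g ≤ Subgroup.normalizer (H : Set G) := by
    intro g H S e h
    rw [Subgroup.zpowers_le]
    refine mem_norm_of_map e fun x hx => ?_
    rw [(h x hx).eq, mul_inv_cancel_right, e]
    exact Subgroup.subset_closure hx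
  have e1 : Subgroup.zpowers a1 = Subgroup.closure {a1} := Subgroup.zpowers_eq_closure a1
  have e2 : Subgroup.zpowers a1 ⊔ Subgroup.zpowers a2 = Subgroup.closure ({a1} ∪ {a2}) := by
    rw [Subgroup.closure_union, ← Subgroup.zpowers_eq_closure, ← Subgroup.zpowers_eq_closure]
  have e3 : Subgroup.zpowers a1 ⊔ Subgroup.zpowers a2 ⊔ Subgroup.zpowers x1 =
      Subgroup.closure ({a1} ∪ {a2} ∪ {x1}) := by
    rw [Subgroup.closure_union ({a1} ∪ {a2}) {x1}, ← e2, ← Subgroup.zpowers_eq_closure]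
  have n1 := hcomm (g := a2) e1 (by rintro x rfl; exact R.c12.symm)
  have n2 := hcomm (g := x1) e2 (by rintro x (rfl | rfl); exacts [R.c13.symm, R.c23.symm])
  have n3 := hcomm (g := x2) e3 (by
    rintro x ((rfl | rfl) | rfl); exacts [R.c14.symm, R.c24.symm, R.c34.symm])
  have n4 := hcomm (g := y2) (Subgroup.zpowers_eq_closure y1) (by rintro x rfl; exact R.cy.symm)
  have cJ : Nat.card R.J ≤ 81 :=
    (card_sup_le' n3).trans ((Nat.mul_le_mul ((card_sup_le' n2).trans (Nat.mul_le_mul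
      ((card_sup_le' n1).trans (Nat.mul_le_mul (card_zp (by norm_num) R.o1)
        (card_zp (by norm_num) R.o2))) (card_zp (by norm_num) R.o3)))
      (card_zp (by norm_num) R.o4)).trans (by norm_num))
  have cY : Nat.card R.Y ≤ 9 :=
    (card_sup_le' n4).trans ((Nat.mul_le_mul (card_zp (by norm_num) R.o5)
      (card_zp (by norm_num) R.o6)).trans (by norm_num))
  have cI : Nat.card (Subgroup.zpowers i) ≤ 4 := card_zp (by norm_num) R.i4
  calc Nat.card R.B ≤ Nat.card (R.J ⊔ R.Y : Subgroup G) * Nat.card (Subgroup.zpowers i) :=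
        card_sup_le' R.i_norm_JY
    _ ≤ 81 * 9 * 4 := Nat.mul_le_mul ((card_sup_le' R.Y_norm_J).trans (Nat.mul_le_mul cJ cY)) cI
    _ = 2916 := by norm_num

theorem B_gens : a1 ∈ R.B ∧ a2 ∈ R.B ∧ x1 ∈ R.B ∧ x2 ∈ R.B ∧ y1 ∈ R.B ∧ y2 ∈ R.B ∧ i ∈ R.B := by
  have hJ : R.J ≤ R.B := le_sup_left.trans le_sup_left
  have hY : R.Y ≤ R.B := le_sup_right.trans le_sup_left
  exact ⟨hJ (R.mem_J (Or.inl rfl)), hJ (R.mem_J (Or.inr (Or.inl rfl))),
    hJ (R.mem_J (Or.inr (Or.inr (Or.inl rfl)))), hJ (R.mem_J (Or.inr (Or.inr (Or.inr rfl)))),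
    hY R.mem_Y.1, hY R.mem_Y.2, Subgroup.mem_sup_right (Subgroup.mem_zpowers _)⟩

theorem w_inv : w⁻¹ = w := inv_eq_of_mul_eq_one_right R.w2

theorem wa2 : w * a2 * w = a1 := by
  rw [← R.wa1]
  calc w * (w * a1 * w) * w = w * w * a1 * (w * w) := by group
    _ = a1 := by rw [R.w2]; group

theorem s_inv : s⁻¹ = s * (i * i) := by
  refine inv_eq_of_mul_eq_one_right ?_
  rw [← mul_assoc, R.s2, ← R.i4]
  simp only [pow_succ, pow_zero, one_mul, mul_assoc]

/-- the complement of `Y` in `B` -/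
def Bw : Subgroup G := R.J ⊔ Subgroup.zpowers i

/-- the complement of `⟨a₂⟩` in `B` -/
def Bs (_R : Rel a1 a2 x1 x2 y1 y2 i w s) : Subgroup G :=
  Subgroup.closure {a1, x1, x2, y1, y2, i}

theorem Bw_le : R.Bw ≤ R.B := sup_le (le_sup_left.trans le_sup_left) le_sup_right

theorem Bs_le : R.Bs ≤ R.B := by
  obtain ⟨h1, -, h3, h4, h5, h6, h7⟩ := R.B_gens
  refine (Subgroup.closure_le _).2 ?_
  rintro x (rfl | rfl | rfl | rfl | rfl | rfl) <;> assumption

theorem w_Bw {x : G} (hx : x ∈ R.Bw) : w * x * w⁻¹ ∈ R.Bw := by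
  have e : R.Bw = Subgroup.closure ({a1, a2, x1, x2} ∪ {i}) := by
    rw [Bw, Subgroup.closure_union, R.J_eq, ← Subgroup.zpowers_eq_closure]
  refine (Subgroup.mem_normalizer_iff.1 (mem_norm_of_map e ?_) x).1 hx
  have hJ : R.J ≤ R.Bw := le_sup_left
  rintro y ((rfl | rfl | rfl | rfl) | rfl) <;> rw [R.w_inv]
  · rw [R.wa1]; exact hJ (R.mem_J (Or.inr (Or.inl rfl)))
  · rw [R.wa2]; exact hJ (R.mem_J (Or.inl rfl))
  · rw [R.wx1]; exact hJ (R.mem_J (Or.inr (Or.inr (Or.inl rfl))))
  · rw [R.wx2]; exact hJ (inv_mem (R.mem_J (Or.inr (Or.inr (Or.inr rfl)))))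
  · rw [R.wi]; exact Subgroup.mem_sup_right (inv_mem (Subgroup.mem_zpowers _))

theorem s_Bs {x : G} (hx : x ∈ R.Bs) : s * x * s⁻¹ ∈ R.Bs ∧ s⁻¹ * x * s ∈ R.Bs := by
  have h : s ∈ Subgroup.normalizer (R.Bs : Set G) := by
    refine mem_norm_of_map (show R.Bs = Subgroup.closure _ from rfl) ?_
    have m : ∀ {y : G}, y ∈ ({a1, x1, x2, y1, y2, i} : Set G) → y ∈ R.Bs :=
      fun hy => Subgroup.subset_closure hy
    rintro y (rfl | rfl | rfl | rfl | rfl | rfl)
    · rw [R.sa1]; exact m (by simp)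
    · rw [R.sx1]; exact m (by simp)
    · rw [R.sx2]; exact m (by simp)
    · rw [R.sy1]; exact inv_mem (m (by simp))
    · rw [R.sy2]; exact inv_mem (m (by simp))
    · rw [R.si]; exact inv_mem (m (by simp))
  exact ⟨(Subgroup.mem_normalizer_iff.1 h x).1 hx, (Subgroup.mem_normalizer_iff''.1 h x).1 hx⟩

theorem B_decomp {x : G} (hx : x ∈ R.B) :
    (∃ v ∈ R.Y, ∃ r ∈ R.Bw, v * r = x) ∧ ∃ v ∈ Subgroup.zpowers a2, ∃ r ∈ R.Bs, v * r = x := by
  obtain ⟨jy, hjy, t, ht, rfl⟩ := sup_decomp R.i_norm_JY hx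
  obtain ⟨j, hj, y, hy, rfl⟩ := sup_decomp R.Y_norm_J hjy
  constructor
  · refine ⟨y, hy, y⁻¹ * j * y * t, mul_mem (Subgroup.mem_sup_left ?_) (Subgroup.mem_sup_right ht),
      by group⟩
    exact (Subgroup.mem_normalizer_iff''.1 (R.Y_norm_J hy) j).1 hj
  · have hc : ∀ u ∈ Subgroup.closure ({a1, x1, x2} : Set G), Commute a2 u := by
      intro u hu
      have : Subgroup.closure ({a1, x1, x2} : Set G) ≤ Subgroup.centralizer ({a2} : Set G) :=
        (Subgroup.closure_le _).2 (by
          rintro y (rfl | rfl | rfl) <;> rw [SetLike.mem_coe, Subgroup.mem_centralizer_singleton_iff]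
          exacts [R.c12.eq, R.c23.eq.symm, R.c24.eq.symm])
      exact (Subgroup.mem_centralizer_singleton_iff.1 (this hu)).symm
    have hn : Subgroup.zpowers a2 ≤
        Subgroup.normalizer (Subgroup.closure ({a1, x1, x2} : Set G) : Set G) := by
      rw [Subgroup.zpowers_le]
      refine mem_norm_of_map rfl fun u hu => ?_
      rw [(hc u (Subgroup.subset_closure hu)).eq, mul_inv_cancel_right]
      exact Subgroup.subset_closure hu
    have hle : R.J ≤ Subgroup.closure ({a1, x1, x2} : Set G) ⊔ Subgroup.zpowers a2 := by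
      rw [R.J_eq, Subgroup.closure_le]
      rintro u (rfl | rfl | rfl | rfl)
      · exact Subgroup.mem_sup_left (Subgroup.subset_closure (by simp))
      · exact Subgroup.mem_sup_right (Subgroup.mem_zpowers _)
      · exact Subgroup.mem_sup_left (Subgroup.subset_closure (by simp))
      · exact Subgroup.mem_sup_left (Subgroup.subset_closure (by simp))
    obtain ⟨r, hr, v, hv, rfl⟩ := sup_decomp hn (hle hj)
    obtain ⟨k, hk⟩ := Subgroup.mem_zpowers_iff.1 hv
    refine ⟨v, hv, r * y * t, mul_mem (mul_mem ?_ ?_) ?_, ?_⟩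
    · refine (Subgroup.closure_mono ?_) hr
      intro u hu
      simp only [Set.mem_insert_iff, Set.mem_singleton_iff] at hu ⊢
      tauto
    · refine (Subgroup.closure_mono ?_) (R.Y_eq ▸ hy)
      intro u hu
      simp only [Set.mem_insert_iff, Set.mem_singleton_iff] at hu ⊢
      tauto
    · exact Subgroup.zpowers_le.2 (Subgroup.subset_closure (by simp)) ht
    · rw [← hk, show a2 ^ k * (r * y * t) = a2 ^ k * r * y * t by group,
        ((hc r hr).zpow_left k).eq]

/-- the transversal attached to a letter -/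
def V (x : Bool) : Subgroup G := bif x then R.Y else Subgroup.zpowers a2

/-- the letter: `w` or `s` -/
def L (_R : Rel a1 a2 x1 x2 y1 y2 i w s) (x : Bool) : G := bif x then w else s

/-- the cells -/
def cell : List Bool → Set G
  | [] => R.B
  | x :: n => Set.image2 (fun v c => v * R.L x * c) (R.V x : Set G) (cell n)

theorem left_B : ∀ (n : List Bool) {b c : G}, b ∈ R.B → c ∈ R.cell n → b * c ∈ R.cell n
  | [], _, _, hb, hc => mul_mem hb hc
  | true :: n, b, c, hb, hc => by
    obtain ⟨v, hv, d, hd, rfl⟩ := hc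
    have hvB : v ∈ R.B := (le_sup_right.trans le_sup_left : R.Y ≤ R.B) hv
    obtain ⟨v', hv', r, hr, e⟩ := (R.B_decomp (mul_mem hb hvB)).1
    refine ⟨v', hv', w * r * w⁻¹ * d, left_B n (R.Bw_le (R.w_Bw hr)) hd, ?_⟩
    show v' * w * (w * r * w⁻¹ * d) = b * (v * w * d)
    rw [show b * (v * w * d) = (b * v) * w * d by group, ← e, R.w_inv]
    calc v' * w * (w * r * w * d) = v' * (w * w) * r * w * d := by group
      _ = _ := by rw [R.w2]; group
  | false :: n, b, c, hb, hc => by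
    obtain ⟨v, hv, d, hd, rfl⟩ := hc
    have hvB : v ∈ R.B := (Subgroup.zpowers_le.2 R.B_gens.2.1) hv
    obtain ⟨v', hv', r, hr, e⟩ := (R.B_decomp (mul_mem hb hvB)).2
    refine ⟨v', hv', s⁻¹ * r * s * d, left_B n (R.Bs_le (R.s_Bs hr).2) hd, ?_⟩
    show v' * s * (s⁻¹ * r * s * d) = b * (v * s * d)
    rw [show b * (v * s * d) = (b * v) * s * d by group, ← e]
    group

theorem step1 (x : Bool) {n : List Bool} {c : G} (hc : c ∈ R.cell n) :
    R.L x * c ∈ R.cell (x :: n) :=
  ⟨1, one_mem _, c, hc, by show (1 : G) * R.L x * c = _; rw [one_mul]⟩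

theorem Y_cases {v : G} (hv : v ∈ R.Y) : ∃ p < 3, ∃ q < 3, v = y1 ^ p * y2 ^ q := by
  have hn : Subgroup.zpowers y2 ≤ Subgroup.normalizer (Subgroup.zpowers y1 : Set G) := by
    rw [Subgroup.zpowers_le]
    refine mem_norm_of_map (Subgroup.zpowers_eq_closure y1) ?_
    rintro x rfl
    rw [R.cy.symm.eq, mul_inv_cancel_right]
    exact Subgroup.mem_zpowers _
  obtain ⟨a, ha, b, hb, rfl⟩ := sup_decomp hn hv
  obtain ⟨p, hp, rfl⟩ := zp_cases (by norm_num) R.o5 ha
  obtain ⟨q, hq, rfl⟩ := zp_cases (by norm_num) R.o6 hb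
  exact ⟨p, hp, q, hq, rfl⟩

theorem w_i_pow (t : ℕ) : i ^ t * w = w * (i⁻¹) ^ t := by
  have h : Commute (1 : G) 1 := Commute.one_left 1
  induction t with
  | zero => simp
  | succ t ih =>
    have e : i * w = w * i⁻¹ := by
      rw [← R.wi]
      calc i * w = (w * w) * i * w := by rw [R.w2, one_mul]
        _ = _ := by group
    rw [pow_succ', mul_assoc, ih, ← mul_assoc, e, mul_assoc, ← pow_succ']

theorem step2w {n : List Bool} {c : G} (hc : c ∈ R.cell (true :: n)) :
    w * c ∈ R.cell n ∨ w * c ∈ R.cell (true :: n) := by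
  obtain ⟨v, hv, d, hd, rfl⟩ := hc
  obtain ⟨p, hp, q, hq, rfl⟩ := R.Y_cases hv
  show w * (y1 ^ p * y2 ^ q * w * d) ∈ _ ∨ w * (y1 ^ p * y2 ^ q * w * d) ∈ _
  by_cases h0 : p = 0 ∧ q = 0
  · left
    rw [h0.1, h0.2, pow_zero, pow_zero, one_mul, one_mul, ← mul_assoc, R.w2, one_mul]
    exact hd
  · right
    rw [show w * (y1 ^ p * y2 ^ q * w * d) = w * (y1 ^ p * y2 ^ q) * w * d by group,
      R.wY p hp q hq (by omega)]
    set v' := y1 ^ (wtab p q).1 * y2 ^ (wtab p q).2.1 with hv'd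
    have hv' : v' ∈ R.Y := mul_mem (pow_mem R.mem_Y.1 _) (pow_mem R.mem_Y.2 _)
    refine ⟨v', hv', (i⁻¹) ^ (wtab p q).2.2 * v' * d, ?_, ?_⟩
    · refine R.left_B n (mul_mem (pow_mem (inv_mem R.B_gens.2.2.2.2.2.2) _) ?_) hd
      exact (le_sup_right.trans le_sup_left : R.Y ≤ R.B) hv'
    · show v' * w * ((i⁻¹) ^ (wtab p q).2.2 * v' * d) = _
      rw [mul_assoc v' (i ^ (wtab p q).2.2) w, R.w_i_pow]
      group

theorem s_ii : s * (i * i) = i * i * s := by
  rw [← R.s2, mul_assoc]

theorem step2s {n : List Bool} {c : G} (hc : c ∈ R.cell (false :: n)) :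
    s * c ∈ R.cell n ∨ s * c ∈ R.cell (false :: n) := by
  obtain ⟨v, hv, d, hd, rfl⟩ := hc
  obtain ⟨-, hA2, -, -, -, -, hI⟩ := R.B_gens
  obtain ⟨k, hk, rfl⟩ := zp_cases (by norm_num) R.o2 hv
  show s * (a2 ^ k * s * d) ∈ _ ∨ s * (a2 ^ k * s * d) ∈ _
  rcases (show k = 0 ∨ k = 1 ∨ k = 2 by omega) with rfl | rfl | rfl
  · left
    rw [pow_zero, one_mul, ← mul_assoc, R.s2]
    exact R.left_B n (mul_mem hI hI) hd
  · right
    refine ⟨a2⁻¹, inv_mem (Subgroup.mem_zpowers _), a2⁻¹ * (i * i) * d,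
      R.left_B n (mul_mem (inv_mem hA2) (mul_mem hI hI)) hd, ?_⟩
    show a2⁻¹ * s * (a2⁻¹ * (i * i) * d) = _
    rw [pow_one, show s * (a2 * s * d) = s * a2 * s⁻¹ * (s * s) * d by group, R.sa2, R.s2]
    group
  · right
    refine ⟨a2, Subgroup.mem_zpowers _, i * i * a2 * (i * i) * d,
      R.left_B n (mul_mem (mul_mem (mul_mem hI hI) hA2) (mul_mem hI hI)) hd, ?_⟩
    show a2 * s * (i * i * a2 * (i * i) * d) = _
    have e : a2 ^ 2 = a2⁻¹ := by
      refine (inv_eq_of_mul_eq_one_right ?_).symm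
      rw [← pow_succ', R.o2]
    rw [e, show s * (a2⁻¹ * s * d) = s * a2⁻¹ * s⁻¹ * (s * s) * d by group, R.sa2', R.s2,
      mul_assoc a2 (i * i) s, ← R.s_ii]
    group

theorem braid : s * w * s * w = w * s * w * s := by
  have h := R.ws
  have hi2 : w * (i * i) * w = i * i := by
    calc w * (i * i) * w = w * i * (w * w) * i * w := by rw [R.w2]; group
      _ = (w * i * w) * (w * i * w) := by group
      _ = i⁻¹ * i⁻¹ * (i ^ 4) := by rw [R.wi, R.i4, mul_one]
      _ = i * i := by simp only [pow_succ, pow_zero, one_mul, mul_assoc, inv_mul_cancel_left]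
  have h1 : w * s * w * s = s⁻¹ * w⁻¹ * s⁻¹ * w⁻¹ := by
    rw [show s⁻¹ * w⁻¹ * s⁻¹ * w⁻¹ = (w * s * w * s)⁻¹ by group]
    refine (inv_eq_of_mul_eq_one_right ?_).symm
    rw [← h, pow_succ, pow_succ, pow_succ, pow_one]
    simp only [mul_assoc]
  have e4 : i * i * (i * i) = 1 := by
    rw [← R.i4]; simp only [pow_succ, pow_zero, one_mul, mul_assoc]
  have hw : i * i * w = w * (i * i) := by
    calc i * i * w = w * (i * i) * w * w := by rw [hi2]
      _ = _ := by rw [mul_assoc, R.w2, mul_one]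
  rw [h1, R.w_inv, R.s_inv]
  calc s * w * s * w = s * w * (i * i * (i * i)) * s * w := by rw [e4, mul_one]
    _ = s * (w * (i * i)) * (i * i * s) * w := by group
    _ = _ := by rw [← hw, ← R.s_ii]; group

theorem L_eq : R.L true = w ∧ R.L false = s := ⟨rfl, rfl⟩

theorem s_X {v : G} (hv : v ∈ R.Y) : s * v * s⁻¹ ∈ R.B ∧
    w * (s * v * s⁻¹) * w⁻¹ ∈ R.B ∧ s * (w * (s * v * s⁻¹) * w⁻¹) * s⁻¹ ∈ R.B := by
  have hX : s * v * s⁻¹ ∈ Subgroup.closure ({x1, x2} : Set G) := by
    have : R.Y ≤ (Subgroup.closure ({x1, x2} : Set G)).comap (MulAut.conj s).toMonoidHom := by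
      rw [R.Y_eq, Subgroup.closure_le, Set.insert_subset_iff, Set.singleton_subset_iff]
      refine ⟨?_, ?_⟩
      · rw [SetLike.mem_coe, Subgroup.mem_comap, MulEquiv.coe_toMonoidHom, MulAut.conj_apply, R.sy1]; exact inv_mem (Subgroup.subset_closure (by simp))
      · rw [SetLike.mem_coe, Subgroup.mem_comap, MulEquiv.coe_toMonoidHom, MulAut.conj_apply, R.sy2]; exact inv_mem (Subgroup.subset_closure (by simp))
    exact this hv
  have hXw : w * (s * v * s⁻¹) * w⁻¹ ∈ Subgroup.closure ({x1, x2} : Set G) := by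
    have : Subgroup.closure ({x1, x2} : Set G) ≤
        (Subgroup.closure ({x1, x2} : Set G)).comap (MulAut.conj w).toMonoidHom := by
      rw [Subgroup.closure_le, Set.insert_subset_iff, Set.singleton_subset_iff]
      refine ⟨?_, ?_⟩
      · rw [SetLike.mem_coe, Subgroup.mem_comap, MulEquiv.coe_toMonoidHom, MulAut.conj_apply, R.w_inv, R.wx1]; exact Subgroup.subset_closure (by simp)
      · rw [SetLike.mem_coe, Subgroup.mem_comap, MulEquiv.coe_toMonoidHom, MulAut.conj_apply, R.w_inv, R.wx2]; exact inv_mem (Subgroup.subset_closure (by simp))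
    exact this hX
  have hB : Subgroup.closure ({x1, x2} : Set G) ≤ R.Bs := Subgroup.closure_mono (by
    intro u hu
    simp only [Set.mem_insert_iff, Set.mem_singleton_iff] at hu ⊢
    tauto)
  exact ⟨R.Bs_le (hB hX), R.Bs_le (hB hXw), R.Bs_le (R.s_Bs (hB hXw)).1⟩

theorem s_w_A {v : G} (hv : v ∈ Subgroup.zpowers a2) :
    w * v * w⁻¹ ∈ R.B ∧ s * (w * v * w⁻¹) * s⁻¹ ∈ R.B := by
  obtain ⟨k, rfl⟩ := Subgroup.mem_zpowers_iff.1 hv
  rw [← conj_zpow, R.w_inv, R.wa2, ← conj_zpow, R.sa1]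
  exact ⟨zpow_mem R.B_gens.1 k, zpow_mem R.B_gens.1 k⟩

/-- the union of the eight cells -/
def cells : Set G :=
  R.cell [] ∪ R.cell [true] ∪ R.cell [false] ∪ R.cell [true, false] ∪ R.cell [false, true] ∪
    R.cell [true, false, true] ∪ R.cell [false, true, false] ∪ R.cell [true, false, true, false]

theorem cells_B {b c : G} (hb : b ∈ R.B) (hc : c ∈ R.cells) : b * c ∈ R.cells := by
  simp only [cells, Set.mem_union] at hc ⊢
  rcases hc with ((((((h | h) | h) | h) | h) | h) | h) | h <;>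
    have := R.left_B _ hb h <;> tauto

theorem swsw_low {c : G} (hc : c ∈ R.cell [] ∨ c ∈ R.cell [false]) :
    w * (s * (w * c)) ∈ R.cells := by
  simp only [cells, Set.mem_union]
  rcases hc with h | h <;> have := R.step1 true (R.step1 false (R.step1 true h)) <;>
    simp only [R.L_eq.1, R.L_eq.2] at this <;> tauto

theorem s_long {c : G} (hc : c ∈ R.cell [true, false, true, false]) : s * c ∈ R.cells := by
  obtain ⟨v1, hv1, c1, hc1, rfl⟩ := hc
  obtain ⟨v2, hv2, c2, hc2, rfl⟩ := hc1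
  obtain ⟨v3, hv3, c3, hc3, rfl⟩ := hc2
  show s * (v1 * w * (v2 * s * (v3 * w * c3))) ∈ _
  have key : s * (v1 * w * (v2 * s * (v3 * w * c3))) =
      s * v1 * s⁻¹ * (s * (w * v2 * w⁻¹) * s⁻¹) * (s * (w * (s * v3 * s⁻¹) * w⁻¹) * s⁻¹) *
        (s * w * s * w * c3) := by group
  rw [key]
  refine R.cells_B (mul_mem (mul_mem (R.s_X hv1).1 (R.s_w_A hv2).2) (R.s_X hv3).2.2) ?_
  rw [R.braid, show w * s * w * s * c3 = w * (s * (w * (s * c3))) by group]
  exact R.swsw_low (R.step2s hc3)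

theorem s_mid {c : G} (hc : c ∈ R.cell [true, false, true]) : s * c ∈ R.cells := by
  obtain ⟨v1, hv1, c1, hc1, rfl⟩ := hc
  obtain ⟨v2, hv2, c2, hc2, rfl⟩ := hc1
  obtain ⟨v3, hv3, c3, hc3, rfl⟩ := hc2
  show s * (v1 * w * (v2 * s * (v3 * w * c3))) ∈ _
  have key : s * (v1 * w * (v2 * s * (v3 * w * c3))) =
      s * v1 * s⁻¹ * (s * (w * v2 * w⁻¹) * s⁻¹) * (s * (w * (s * v3 * s⁻¹) * w⁻¹) * s⁻¹) *
        (s * w * s * w * c3) := by group
  rw [key]
  refine R.cells_B (mul_mem (mul_mem (R.s_X hv1).1 (R.s_w_A hv2).2) (R.s_X hv3).2.2) ?_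
  rw [R.braid, show w * s * w * s * c3 = w * (s * (w * (s * c3))) by group]
  exact R.swsw_low (Or.inr (R.step1 false hc3))

theorem cells_w {c : G} (hc : c ∈ R.cells) : w * c ∈ R.cells := by
  simp only [cells, Set.mem_union] at hc ⊢
  rcases hc with ((((((h | h) | h) | h) | h) | h) | h) | h
  · have := R.step1 true h; simp only [R.L_eq.1] at this; tauto
  · rcases R.step2w h with h' | h' <;> tauto
  · have := R.step1 true h; simp only [R.L_eq.1] at this; tauto
  · rcases R.step2w h with h' | h' <;> tauto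
  · have := R.step1 true h; simp only [R.L_eq.1] at this; tauto
  · rcases R.step2w h with h' | h' <;> tauto
  · have := R.step1 true h; simp only [R.L_eq.1] at this; tauto
  · rcases R.step2w h with h' | h' <;> tauto

theorem cells_s {c : G} (hc : c ∈ R.cells) : s * c ∈ R.cells := by
  simp only [cells, Set.mem_union] at hc
  rcases hc with ((((((h | h) | h) | h) | h) | h) | h) | h
  · have := R.step1 false h; simp only [R.L_eq.2] at this; simp only [cells, Set.mem_union]; tauto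
  · have := R.step1 false h; simp only [R.L_eq.2] at this; simp only [cells, Set.mem_union]; tauto
  · rcases R.step2s h with h' | h' <;> simp only [cells, Set.mem_union] <;> tauto
  · have := R.step1 false h; simp only [R.L_eq.2] at this; simp only [cells, Set.mem_union]; tauto
  · rcases R.step2s h with h' | h' <;> simp only [cells, Set.mem_union] <;> tauto
  · exact R.s_mid h
  · rcases R.step2s h with h' | h' <;> simp only [cells, Set.mem_union] <;> tauto
  · exact R.s_long h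

theorem card_cell : ∀ n : List Bool,
    (R.cell n).ncard ≤ (n.map (fun x => bif x then 9 else 3)).prod * 2916
  | [] => by
    show (R.B : Set G).ncard ≤ _
    rw [← Nat.card_coe_set_eq]
    exact R.card_B.trans (by simp)
  | x :: n => by
    have hV : Nat.card (R.V x) ≤ bif x then 9 else 3 := by
      cases x
      · exact card_zp (by norm_num) R.o2
      · show Nat.card R.Y ≤ 9
        have hn : Subgroup.zpowers y2 ≤ Subgroup.normalizer (Subgroup.zpowers y1 : Set G) := by
          rw [Subgroup.zpowers_le]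
          refine mem_norm_of_map (Subgroup.zpowers_eq_closure y1) ?_
          rintro x rfl
          rw [R.cy.symm.eq, mul_inv_cancel_right]
          exact Subgroup.mem_zpowers _
        exact (card_sup_le' hn).trans ((Nat.mul_le_mul (card_zp (by norm_num) R.o5)
          (card_zp (by norm_num) R.o6)).trans (by norm_num))
    show (Set.image2 (fun v c => v * R.L x * c) (R.V x : Set G) (R.cell n)).ncard ≤ _
    rw [← Set.image_prod]
    refine (Set.ncard_image_le (Set.toFinite _)).trans ?_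
    rw [Set.ncard_prod, List.map_cons, List.prod_cons, mul_assoc]
    exact Nat.mul_le_mul ((Nat.card_coe_set_eq _).symm ▸ hV) (card_cell n)

/-- the bound on the order -/
theorem card_le : Nat.card (Subgroup.closure ({a1, a2, x1, x2, y1, y2, i, w, s} : Set G)) ≤
    3265920 := by
  obtain ⟨h1, h2, h3, h4, h5, h6, h7⟩ := R.B_gens
  have hgen : ∀ g ∈ ({a1, a2, x1, x2, y1, y2, i, w, s} : Set G), ∀ c ∈ R.cells, g * c ∈ R.cells := by
    rintro g (rfl | rfl | rfl | rfl | rfl | rfl | rfl | rfl | rfl) c hc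
    exacts [R.cells_B h1 hc, R.cells_B h2 hc, R.cells_B h3 hc, R.cells_B h4 hc, R.cells_B h5 hc,
      R.cells_B h6 hc, R.cells_B h7 hc, R.cells_w hc, R.cells_s hc]
  have hall : ∀ g ∈ Subgroup.closure ({a1, a2, x1, x2, y1, y2, i, w, s} : Set G),
      ∀ c ∈ R.cells, g * c ∈ R.cells := by
    intro g hg
    induction hg using Subgroup.closure_induction with
    | mem x hx => exact hgen x hx
    | one => intro c hc; rwa [one_mul]
    | mul x y _ _ hx hy => intro c hc; rw [mul_assoc]; exact hx _ (hy _ hc)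
    | inv x _ hx =>
      have hp : ∀ k : ℕ, ∀ c ∈ R.cells, x ^ k * c ∈ R.cells := by
        intro k
        induction k with
        | zero => intro c hc; rwa [pow_zero, one_mul]
        | succ k ih => intro c hc; rw [pow_succ, mul_assoc]; exact ih _ (hx _ hc)
      have e : x⁻¹ = x ^ (orderOf x - 1) := by
        refine inv_eq_of_mul_eq_one_right ?_
        rw [← pow_succ', Nat.sub_add_cancel (orderOf_pos x), pow_orderOf_eq_one]
      rw [e]
      exact hp _
  have h1c : (1 : G) ∈ R.cells := by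
    simp only [cells, Set.mem_union]
    have : (1 : G) ∈ R.cell [] := one_mem R.B
    tauto
  rw [← SetLike.coe_sort_coe, Nat.card_coe_set_eq]
  refine (Set.ncard_le_ncard (t := R.cells) (fun g hg => ?_) (Set.toFinite _)).trans ?_
  · simpa using hall g hg 1 h1c
  · refine (show R.cells.ncard ≤ (R.cell []).ncard + (R.cell [true]).ncard + (R.cell [false]).ncard +
      (R.cell [true, false]).ncard + (R.cell [false, true]).ncard +
      (R.cell [true, false, true]).ncard + (R.cell [false, true, false]).ncard +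
      (R.cell [true, false, true, false]).ncard from ?_).trans ?_
    · unfold cells
      iterate 7 refine (Set.ncard_union_le _ _).trans (Nat.add_le_add_right ?_ _)
      exact le_rfl
    · have := R.card_cell []
      have := R.card_cell [true]
      have := R.card_cell [false]
      have := R.card_cell [true, false]
      have := R.card_cell [false, true]
      have := R.card_cell [true, false, true]
      have := R.card_cell [false, true, false]
      have := R.card_cell [true, false, true, false]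
      simp only [List.map_cons, List.map_nil, List.prod_cons, List.prod_nil, cond_true, cond_false]
        at *
      omega

end Rel

end Cfsg.Agent.H66.UFour
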