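import Cfsg.Agent.H66.UFour.ModelCheck
import Cfsg.Agent.H66.UFour.Bruhat
import Cfsg.Agent.H95.UFourThree

/-!
U4(3) on 112 points is generated by nine elements with the relations; elements of order five and
seven do not commute.
-/

set_option autoImplicit false
set_option maxRecDepth 100000

namespace Cfsg.Agent.H66.UFour.Model

open Cfsg.Agent.Compute Cfsg.Agent.H95

attribute [local irreducible] PermIso.slpOK checkChain

/-- a letter as a permutation -/
noncomputable def gen (k : ℕ) : Equiv.Perm (Fin 112) := permDen 7 112 (lc' k)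

/-- a word as a permutation -/
noncomputable def wp (l : List ℕ) : Equiv.Perm (Fin 112) := (l.map gen).prod

theorem gen_facts {k : ℕ} (hk : k < 9) :
    PermOK 7 112 (lc' k) ∧ PermOK 7 112 (lc' (k + 9)) ∧ gen (k + 9) = (gen k)⁻¹ := by
  have h := slp_ok
  simp only [PermIso.slpOK, Bool.and_eq_true, allN_iff] at h
  have hl : 9 ≤ slp.length := Nat.le_of_ble_eq_true slp_len
  obtain ⟨a, b, c⟩ := (permSound 7 112 UFourThree.two_pow_seven).okInv_sound
    (h.1 k (by omega)).1
  have e1 : lc' k = (ent k).1 := by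
    have hb : Nat.ble 9 k = false := by
      rw [Bool.eq_false_iff]; intro h; have := Nat.le_of_ble_eq_true h; omega
    rw [lc', hb, cond_false]
  have e2 : lc' (k + 9) = (ent k).2 := by
    have hb : Nat.ble 9 (k + 9) = true := by rw [Nat.ble_eq]; omega
    have hs : Nat.sub (k + 9) 9 = k := Nat.add_sub_cancel k 9
    rw [lc', hb, cond_true, hs]
  refine ⟨e1 ▸ a, e2 ▸ b, ?_⟩
  rw [gen, gen, e1, e2]
  exact c

theorem wp_apply {l : List ℕ} (h : small l = true) (j : Fin 112) :
    ((wp l j : Fin 112) : ℕ) = wap l j := by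
  induction l with
  | nil => rfl
  | cons k l ih =>
    have hs : Nat.ble (Nat.add k 1) 18 = true ∧ small l = true := by
      simpa [small, lall_iff] using h
    have hk := Nat.le_of_ble_eq_true hs.1
    have ok : PermOK 7 112 (lc' k) := by
      change k + 1 ≤ 18 at hk
      by_cases h9 : k < 9
      · exact (gen_facts h9).1
      · have := (gen_facts (show k - 9 < 9 by omega)).2.1
        rwa [show k - 9 + 9 = k by omega] at this
    show ((gen k * wp l) j : Fin 112).val = getP 7 (lc' k) (wap l j)
    rw [Equiv.Perm.mul_apply, gen, permDen_apply ok, ih hs.2]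

theorem same_iff {l r : List ℕ} (h : sameW l r = true) : wp l = wp r := by
  simp only [sameW, Bool.and_eq_true, allN_iff, Nat.beq_eq] at h
  refine Equiv.ext fun j => Fin.ext ?_
  rw [wp_apply h.1.1, wp_apply h.1.2]
  exact h.2 j j.2

attribute [local irreducible] wap sameW small lc' five seven

theorem eq_rel {l r : List ℕ} (h : (l, r) ∈ rels) : wp l = wp r :=
  same_iff ((lall_iff _ _).1 rels_ok (l, r) h)

theorem wY_mem : ∀ p < 3, ∀ q < 3, p ≠ 0 ∨ q ≠ 0 →
    (([7] ++ (List.replicate p 4 ++ List.replicate q 5) ++ [7],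
      (List.replicate (wtab p q).1 4 ++ List.replicate (wtab p q).2.1 5) ++
        List.replicate (wtab p q).2.2 6 ++ [7] ++
        (List.replicate (wtab p q).1 4 ++ List.replicate (wtab p q).2.1 5)) : List ℕ × List ℕ) ∈
      rels := by
  intro p hp q hq h
  interval_cases p <;> interval_cases q <;> first | decide +kernel | omega

theorem wp_rep (n k : ℕ) : wp (List.replicate n k) = gen k ^ n := by
  rw [wp, List.map_replicate, List.prod_replicate]

theorem wp_append (l r : List ℕ) : wp (l ++ r) = wp l * wp r := by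
  rw [wp, List.map_append, List.prod_append]; rfl

theorem wp_single (k : ℕ) : wp [k] = gen k := by simp [wp]

/-- the relations in the model -/
theorem rel : Rel (gen 0) (gen 1) (gen 2) (gen 3) (gen 4) (gen 5) (gen 6) (gen 7) (gen 8) := by
  have i0 := (gen_facts (show 0 < 9 by norm_num)).2.2
  have i1 := (gen_facts (show 1 < 9 by norm_num)).2.2
  have i2 := (gen_facts (show 2 < 9 by norm_num)).2.2
  have i3 := (gen_facts (show 3 < 9 by norm_num)).2.2
  have i4 := (gen_facts (show 4 < 9 by norm_num)).2.2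
  have i5 := (gen_facts (show 5 < 9 by norm_num)).2.2
  have i6 := (gen_facts (show 6 < 9 by norm_num)).2.2
  have i8 := (gen_facts (show 8 < 9 by norm_num)).2.2
  norm_num at i0 i1 i2 i3 i4 i5 i6 i8
  have u : ∀ l : List ℕ, wp l = (l.map gen).prod := fun _ => rfl
  constructor
  case wY =>
    intro p hp q hq hpq
    have h := eq_rel (wY_mem p hp q hq hpq)
    simpa only [wp_append, wp_rep, wp_single] using h
  case c12 => simpa [u, Commute, SemiconjBy] using eq_rel (l := [0, 1]) (r := [1, 0]) (by decide +kernel)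
  case c13 => simpa [u, Commute, SemiconjBy] using eq_rel (l := [0, 2]) (r := [2, 0]) (by decide +kernel)
  case c14 => simpa [u, Commute, SemiconjBy] using eq_rel (l := [0, 3]) (r := [3, 0]) (by decide +kernel)
  case c23 => simpa [u, Commute, SemiconjBy] using eq_rel (l := [1, 2]) (r := [2, 1]) (by decide +kernel)
  case c24 => simpa [u, Commute, SemiconjBy] using eq_rel (l := [1, 3]) (r := [3, 1]) (by decide +kernel)
  case c34 => simpa [u, Commute, SemiconjBy] using eq_rel (l := [2, 3]) (r := [3, 2]) (by decide +kernel)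
  case cy => simpa [u, Commute, SemiconjBy] using eq_rel (l := [4, 5]) (r := [5, 4]) (by decide +kernel)
  case o1 => simpa [u, pow_succ, mul_assoc] using eq_rel (l := [0, 0, 0]) (r := []) (by decide +kernel)
  case o2 => simpa [u, pow_succ, mul_assoc] using eq_rel (l := [1, 1, 1]) (r := []) (by decide +kernel)
  case o3 => simpa [u, pow_succ, mul_assoc] using eq_rel (l := [2, 2, 2]) (r := []) (by decide +kernel)
  case o4 => simpa [u, pow_succ, mul_assoc] using eq_rel (l := [3, 3, 3]) (r := []) (by decide +kernel)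
  case o5 => simpa [u, pow_succ, mul_assoc] using eq_rel (l := [4, 4, 4]) (r := []) (by decide +kernel)
  case o6 => simpa [u, pow_succ, mul_assoc] using eq_rel (l := [5, 5, 5]) (r := []) (by decide +kernel)
  case y1a1 => simpa [u, i4, mul_assoc] using eq_rel (l := [4, 0, 13]) (r := [0]) (by decide +kernel)
  case y2a1 => simpa [u, i5, mul_assoc] using eq_rel (l := [5, 0, 14]) (r := [0]) (by decide +kernel)
  case y1a2 => simpa [u, i4, mul_assoc] using eq_rel (l := [4, 1, 13]) (r := [1, 0, 2]) (by decide +kernel)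
  case y2a2 => simpa [u, i5, mul_assoc] using eq_rel (l := [5, 1, 14]) (r := [1, 0, 3]) (by decide +kernel)
  case y1x1 => simpa [u, i4, i0, mul_assoc] using eq_rel (l := [4, 2, 13]) (r := [9, 2]) (by decide +kernel)
  case y1x2 => simpa [u, i4, mul_assoc] using eq_rel (l := [4, 3, 13]) (r := [3]) (by decide +kernel)
  case y2x1 => simpa [u, i5, mul_assoc] using eq_rel (l := [5, 2, 14]) (r := [2]) (by decide +kernel)
  case y2x2 => simpa [u, i5, i0, mul_assoc] using eq_rel (l := [5, 3, 14]) (r := [9, 3]) (by decide +kernel)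
  case i4 => simpa [u, pow_succ, mul_assoc] using eq_rel (l := [6, 6, 6, 6]) (r := []) (by decide +kernel)
  case ia1 => simpa [u, i6, i0, mul_assoc] using eq_rel (l := [6, 0, 15]) (r := [9]) (by decide +kernel)
  case ia2 => simpa [u, i6, i1, mul_assoc] using eq_rel (l := [6, 1, 15]) (r := [10]) (by decide +kernel)
  case ix1 => simpa [u, i6, mul_assoc] using eq_rel (l := [6, 2, 15]) (r := [3]) (by decide +kernel)
  case ix2 => simpa [u, i6, i2, mul_assoc] using eq_rel (l := [6, 3, 15]) (r := [11]) (by decide +kernel)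
  case iy1 => simpa [u, i6, i5, mul_assoc] using eq_rel (l := [6, 4, 15]) (r := [14]) (by decide +kernel)
  case iy2 => simpa [u, i6, mul_assoc] using eq_rel (l := [6, 5, 15]) (r := [4]) (by decide +kernel)
  case w2 => simpa [u] using eq_rel (l := [7, 7]) (r := []) (by decide +kernel)
  case wa1 => simpa [u, mul_assoc] using eq_rel (l := [7, 0, 7]) (r := [1]) (by decide +kernel)
  case wx1 => simpa [u, mul_assoc] using eq_rel (l := [7, 2, 7]) (r := [2]) (by decide +kernel)
  case wx2 => simpa [u, i3, mul_assoc] using eq_rel (l := [7, 3, 7]) (r := [12]) (by decide +kernel)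
  case wi => simpa [u, i6, mul_assoc] using eq_rel (l := [7, 6, 7]) (r := [15]) (by decide +kernel)
  case s2 => simpa [u] using eq_rel (l := [8, 8]) (r := [6, 6]) (by decide +kernel)
  case sa1 => simpa [u, i8, mul_assoc] using eq_rel (l := [8, 0, 17]) (r := [0]) (by decide +kernel)
  case sx1 => simpa [u, i8, mul_assoc] using eq_rel (l := [8, 2, 17]) (r := [4]) (by decide +kernel)
  case sx2 => simpa [u, i8, mul_assoc] using eq_rel (l := [8, 3, 17]) (r := [5]) (by decide +kernel)
  case sy1 => simpa [u, i8, i2, mul_assoc] using eq_rel (l := [8, 4, 17]) (r := [11]) (by decide +kernel)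
  case sy2 => simpa [u, i8, i3, mul_assoc] using eq_rel (l := [8, 5, 17]) (r := [12]) (by decide +kernel)
  case si => simpa [u, i8, i6, mul_assoc] using eq_rel (l := [8, 6, 17]) (r := [15]) (by decide +kernel)
  case sa2 => simpa [u, i8, i1, mul_assoc] using eq_rel (l := [8, 1, 17]) (r := [10, 8, 10]) (by decide +kernel)
  case sa2' => simpa [u, i8, i1, mul_assoc] using eq_rel (l := [8, 10, 17]) (r := [1, 6, 6, 8, 1]) (by decide +kernel)
  case ws => simpa [u, pow_succ, mul_assoc] using eq_rel (l := [7, 8, 7, 8, 7, 8, 7, 8]) (r := []) (by decide +kernel)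

/-- the nine generators -/
def gens : Set (Equiv.Perm (Fin 112)) :=
  {gen 0, gen 1, gen 2, gen 3, gen 4, gen 5, gen 6, gen 7, gen 8}

/-- U4(3) as a group of permutations -/
def grp : Subgroup (Equiv.Perm (Fin 112)) := Subgroup.closure gens

theorem chain_le : UFourThree.chainGrp ≤ grp := by
  refine (PermIso.grp_le UFourThree.two_pow_seven slp_ok).trans (Subgroup.closure_mono ?_)
  rintro σ ⟨k, hk, rfl⟩
  have e : (nth ((0, 0), 0, 0) slp k).1.1 = lc' k := by
    have hb : Nat.ble 9 k = false := by
      rw [Bool.eq_false_iff]; intro h; have := Nat.le_of_ble_eq_true h; omega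
    rw [lc', hb, cond_false, ent]
  rw [e]
  show gen k ∈ gens
  simp only [gens, Set.mem_insert_iff, Set.mem_singleton_iff]
  interval_cases k <;> tauto

theorem card_grp : Nat.card grp = 3265920 :=
  le_antisymm rel.card_le (UFourThree.card_chainGrp ▸ Subgroup.card_le_of_le chain_le)

theorem grp_eq : grp = UFourThree.chainGrp :=
  (Subgroup.eq_of_le_of_card_ge chain_le (by rw [card_grp, UFourThree.card_chainGrp])).symm

theorem wp_mem {l : List ℕ} (h : small l = true) : wp l ∈ grp := by
  rw [wp]
  unfold small at h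
  refine Subgroup.list_prod_mem _ fun x hx => ?_
  obtain ⟨k, hk, rfl⟩ := List.mem_map.1 hx
  have hk' := Nat.le_of_ble_eq_true ((lall_iff _ _).1 h k hk)
  change k + 1 ≤ 18 at hk'
  have m : ∀ j < 9, gen j ∈ grp := fun j hj => Subgroup.subset_closure (by
    simp only [gens, Set.mem_insert_iff, Set.mem_singleton_iff]
    interval_cases j <;> tauto)
  by_cases h9 : k < 9
  · exact m k h9
  · have e := (gen_facts (show k - 9 < 9 by omega)).2.2
    rw [show k - 9 + 9 = k by omega] at e
    rw [e]
    exact inv_mem (m _ (by omega))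

/-- elements of order five and seven do not commute -/
theorem no_commuting {x y : Equiv.Perm (Fin 112)} (hx : x ∈ grp) (hy : y ∈ grp) (hx5 : orderOf x = 5)
    (hy7 : orderOf y = 7) : x * y ≠ y * x := by
  classical
  intro hc
  haveI : Fact (Nat.Prime 5) := ⟨by norm_num⟩
  haveI : Fact (Nat.Prime 7) := ⟨by norm_num⟩
  have h5 := five_ok
  have h7 := seven_ok
  simp only [Bool.and_eq_true, allN_iff, beq_iff_eq, Bool.not_eq_true', Bool.eq_false_iff] at h5 h7
  obtain ⟨⟨s5, e5⟩, f5⟩ := h5
  obtain ⟨⟨s7, e7⟩, f7⟩ := h7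
  have conj_of : ∀ {p : ℕ} [Fact p.Prime] {g0 g : grp}, ¬ p ^ 2 ∣ 3265920 → p ∣ 3265920 →
      orderOf g0 = p → orderOf g = p → ∃ (c : grp) (k : ℕ), g = c * g0 ^ k * c⁻¹ := by
    intro p _ g0 g h2 h1 o0 o
    have cardS : ∀ {t : grp}, orderOf t = p → ∀ P : Sylow p grp,
        Nat.card (Subgroup.zpowers t) = Nat.card P := fun {t} ht P => by
      rw [Nat.card_zpowers, ht, P.card_eq_multiplicity, card_grp]
      have hp := Fact.out (p := p.Prime)
      have : Nat.factorization 3265920 p = 1 := by
        apply le_antisymm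
        · by_contra h
          exact h2 ((hp.pow_dvd_iff_le_factorization (by norm_num)).2 (by omega))
        · exact (hp.pow_dvd_iff_le_factorization (by norm_num)).1 (by rwa [pow_one])
      rw [this, pow_one]
    obtain ⟨P0, hP0⟩ := (IsPGroup.of_card (p := p) (n := 1) (by
      rw [Nat.card_zpowers, o0, pow_one]) : IsPGroup p (Subgroup.zpowers g0)).exists_le_sylow
    obtain ⟨P1, hP1⟩ := (IsPGroup.of_card (p := p) (n := 1) (by
      rw [Nat.card_zpowers, o, pow_one]) : IsPGroup p (Subgroup.zpowers g)).exists_le_sylow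
    have E0 : (P0 : Subgroup grp) = Subgroup.zpowers g0 :=
      (Subgroup.eq_of_le_of_card_ge hP0 (cardS o0 P0).ge).symm
    obtain ⟨c, hc⟩ := MulAction.exists_smul_eq grp P0 P1
    have hg : g ∈ (P1 : Subgroup grp) := hP1 (Subgroup.mem_zpowers g)
    rw [← hc] at hg
    obtain ⟨t, ht, rfl⟩ := hg
    change t ∈ (P0 : Subgroup grp) at ht
    rw [E0] at ht
    obtain ⟨k, rfl⟩ := (mem_powers_iff_mem_zpowers.2 ht : t ∈ Submonoid.powers g0)
    exact ⟨c, k, rfl⟩
  set g5 : grp := ⟨wp five, wp_mem s5⟩ with hg5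
  set g7 : grp := ⟨wp seven, wp_mem s7⟩ with hg7
  have ne5 : wp five ≠ 1 := fun h => by
    have := wp_apply s5 ⟨0, by norm_num⟩
    rw [h] at this
    have e := (f5 0 (by norm_num))
    rw [show wap five 0 = 0 from this.symm] at e
    simp at e
  have ne7 : wp seven ≠ 1 := fun h => by
    have := wp_apply s7 ⟨0, by norm_num⟩
    rw [h] at this
    have e := f7 0 (by norm_num)
    rw [show wap seven 0 = 0 from this.symm] at e
    exact e (Nat.beq_refl 0)
  have o5 : orderOf g5 = 5 := by
    refine orderOf_eq_prime (Subtype.ext ?_) (fun h => ne5 (congrArg Subtype.val h))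
    have := same_iff e5
    simp only [wp_append] at this
    show wp five ^ 5 = 1
    simp only [pow_succ, pow_zero, one_mul]
    exact this
  have o7 : orderOf g7 = 7 := by
    refine orderOf_eq_prime (Subtype.ext ?_) (fun h => ne7 (congrArg Subtype.val h))
    have := same_iff e7
    simp only [wp_append] at this
    show wp seven ^ 7 = 1
    simp only [pow_succ, pow_zero, one_mul]
    exact this
  obtain ⟨c, k, ec⟩ := conj_of (p := 5) (g0 := g5) (g := ⟨x, hx⟩) (by norm_num) (by norm_num) o5
    (by rw [Subgroup.orderOf_mk, hx5])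
  obtain ⟨d, l, ed⟩ := conj_of (p := 7) (g0 := g7) (g := ⟨y, hy⟩) (by norm_num) (by norm_num) o7
    (by rw [Subgroup.orderOf_mk, hy7])
  have ex : x = c.1 * wp five ^ k * c.1⁻¹ := congrArg Subtype.val ec
  have ey : y = d.1 * wp seven ^ l * d.1⁻¹ := congrArg Subtype.val ed
  have hk : ¬ 5 ∣ k := by
    rintro ⟨m, rfl⟩
    have : (g5 ^ (5 * m) : grp) = 1 := by
      rw [pow_mul]; conv_lhs => rw [← o5, pow_orderOf_eq_one, one_pow]
    rw [this] at ec
    have : (⟨x, hx⟩ : grp) = 1 := by rw [ec]; group
    have h1 : x = 1 := congrArg Subtype.val this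
    rw [h1, orderOf_one] at hx5
    norm_num at hx5
  have hl : ¬ 7 ∣ l := by
    rintro ⟨m, rfl⟩
    have : (g7 ^ (7 * m) : grp) = 1 := by
      rw [pow_mul]; conv_lhs => rw [← o7, pow_orderOf_eq_one, one_pow]
    rw [this] at ed
    have : (⟨y, hy⟩ : grp) = 1 := by rw [ed]; group
    have h1 : y = 1 := congrArg Subtype.val this
    rw [h1, orderOf_one] at hy7
    norm_num at hy7
  -- powers prime to the order have the same fixed points
  have fixpow : ∀ {g : Equiv.Perm (Fin 112)} {p n : ℕ}, g ^ p = 1 → p.Prime → ¬ p ∣ n →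
      ∀ j, (g ^ n) j = j → g j = j := by
    intro g p n hp hpp hn j hj
    obtain ⟨m, -, hm⟩ := Nat.exists_mul_mod_eq_one_of_coprime
      ((hpp.coprime_iff_not_dvd.2 hn).symm) hpp.one_lt
    have e : (g ^ n) ^ m = g := by
      rw [← pow_mul, ← Nat.mod_add_div (n * m) p, pow_add, pow_mul g p, hp, one_pow, mul_one, hm,
        pow_one]
    have : ((g ^ n) ^ m) j = j := by
      clear e hm
      induction m with
      | zero => simp
      | succ m ih => rw [pow_succ, Equiv.Perm.mul_apply, hj, ih]
    rwa [e] at this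
  have p5 : wp five ^ 5 = 1 := by
    have := congrArg (fun g : grp => (g : Equiv.Perm (Fin 112))) (pow_orderOf_eq_one g5)
    rw [o5] at this
    exact this
  have p7 : wp seven ^ 7 = 1 := by
    have := congrArg (fun g : grp => (g : Equiv.Perm (Fin 112))) (pow_orderOf_eq_one g7)
    rw [o7] at this
    exact this
  have noy : ∀ j, y j ≠ j := by
    intro j hj
    rw [ey] at hj
    simp only [Equiv.Perm.mul_apply] at hj
    have h2 : (wp seven ^ l) (d.1⁻¹ j) = d.1⁻¹ j := by
      have h3 := congrArg (fun t => d.1⁻¹ t) hj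
      simpa using h3
    have := fixpow p7 (by norm_num) hl _ h2
    have h4 := wp_apply s7 (d.1⁻¹ j)
    rw [this] at h4
    have h6 := f7 _ (Fin.isLt (d.1⁻¹ j))
    rw [← h4] at h6
    exact h6 (Nat.beq_refl _)
  let A : Fin 112 := c.1 ⟨1, by norm_num⟩
  let B : Fin 112 := c.1 ⟨82, by norm_num⟩
  have fixx : ∀ j, x j = j → j = A ∨ j = B := by
    intro j hj
    rw [ex] at hj
    simp only [Equiv.Perm.mul_apply] at hj
    have h2 : (wp five ^ k) (c.1⁻¹ j) = c.1⁻¹ j := by
      have h3 := congrArg (fun t => c.1⁻¹ t) hj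
      simpa using h3
    have := fixpow p5 (by norm_num) hk _ h2
    have h4 := wp_apply s5 (c.1⁻¹ j)
    rw [this] at h4
    have h5 := f5 _ (Fin.isLt (c.1⁻¹ j))
    rw [← h4, Nat.beq_refl] at h5
    have h6 := h5.symm
    simp only [Bool.or_eq_true, Nat.beq_eq] at h6
    rcases h6 with h | h
    · left
      have : c.1⁻¹ j = ⟨1, by norm_num⟩ := Fin.ext h
      show j = c.1 _
      rw [← this]; simp
    · right
      have : c.1⁻¹ j = ⟨82, by norm_num⟩ := Fin.ext h
      show j = c.1 _
      rw [← this]; simp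
  have hA : x A = A := by
    have h := wp_apply s5 ⟨1, by norm_num⟩
    have h5 := f5 1 (by norm_num)
    simp only [Nat.beq_refl, Bool.true_or] at h5
    rw [Nat.beq_eq] at h5
    have f : wp five ⟨1, by norm_num⟩ = ⟨1, by norm_num⟩ := Fin.ext (by rw [h]; exact h5)
    have fk : ∀ n : ℕ, (wp five ^ n) ⟨1, by norm_num⟩ = ⟨1, by norm_num⟩ := by
      intro n
      induction n with
      | zero => simp
      | succ n ih => rw [pow_succ, Equiv.Perm.mul_apply, f, ih]
    rw [ex]
    show (c.1 * wp five ^ k * c.1⁻¹) (c.1 ⟨1, _⟩) = c.1 ⟨1, _⟩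
    rw [Equiv.Perm.mul_apply, Equiv.Perm.mul_apply, ← Equiv.Perm.mul_apply c.1⁻¹, inv_mul_cancel, Equiv.Perm.one_apply, fk k]
  have hyA : ∀ j, x j = j → x (y j) = y j := fun j hj => by
    rw [← Equiv.Perm.mul_apply, hc, Equiv.Perm.mul_apply, hj]
  have e1 : y A = B := (fixx _ (hyA A hA)).resolve_left (noy A)
  have hB : x B = B := e1 ▸ hyA A hA
  have e2 : y B = A := (fixx _ (hyA B hB)).resolve_right (noy B)
  have hy2 : (y ^ 7) A = B := by
    rw [show (7 : ℕ) = 1 + 1 + 1 + 1 + 1 + 1 + 1 from rfl, pow_succ, pow_succ, pow_succ, pow_succ,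
      pow_succ, pow_succ, pow_one]
    simp only [Equiv.Perm.mul_apply, e1, e2]
  have hy1 : y ^ 7 = 1 := hy7 ▸ pow_orderOf_eq_one y
  rw [hy1] at hy2
  exact noy A (by rw [e1]; exact hy2.symm)

end Cfsg.Agent.H66.UFour.Model
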