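import Cfsg.Agent.H66.UFour.RelG
import Cfsg.Agent.H66.UFour.Model
import Cfsg.Agent.Unitary.Simple
import Mathlib.FieldTheory.Finite.GaloisField

/-!
The subgroup generated by the nine elements is a copy of U4(3).
-/

set_option autoImplicit false
set_option synthInstance.maxSize 4000
set_option synthInstance.maxHeartbeats 400000
set_option maxRecDepth 10000

namespace Cfsg.Agent.H66.UFour

/-- relations hold componentwise -/
theorem Rel.prod {G H : Type*} [Group G] [Group H] {a1 a2 x1 x2 y1 y2 i w s : G}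
    {a1' a2' x1' x2' y1' y2' i' w' s' : H} (R : Rel a1 a2 x1 x2 y1 y2 i w s)
    (R' : Rel a1' a2' x1' x2' y1' y2' i' w' s') :
    Rel (a1, a1') (a2, a2') (x1, x1') (x2, x2') (y1, y1') (y2, y2') (i, i') (w, w') (s, s') where
  c12 := Prod.ext R.c12 R'.c12
  c13 := Prod.ext R.c13 R'.c13
  c14 := Prod.ext R.c14 R'.c14
  c23 := Prod.ext R.c23 R'.c23
  c24 := Prod.ext R.c24 R'.c24
  c34 := Prod.ext R.c34 R'.c34
  cy := Prod.ext R.cy R'.cy
  o1 := Prod.ext R.o1 R'.o1
  o2 := Prod.ext R.o2 R'.o2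
  o3 := Prod.ext R.o3 R'.o3
  o4 := Prod.ext R.o4 R'.o4
  o5 := Prod.ext R.o5 R'.o5
  o6 := Prod.ext R.o6 R'.o6
  y1a1 := Prod.ext R.y1a1 R'.y1a1
  y2a1 := Prod.ext R.y2a1 R'.y2a1
  y1a2 := Prod.ext R.y1a2 R'.y1a2
  y2a2 := Prod.ext R.y2a2 R'.y2a2
  y1x1 := Prod.ext R.y1x1 R'.y1x1
  y1x2 := Prod.ext R.y1x2 R'.y1x2
  y2x1 := Prod.ext R.y2x1 R'.y2x1
  y2x2 := Prod.ext R.y2x2 R'.y2x2
  i4 := Prod.ext R.i4 R'.i4
  ia1 := Prod.ext R.ia1 R'.ia1
  ia2 := Prod.ext R.ia2 R'.ia2
  ix1 := Prod.ext R.ix1 R'.ix1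
  ix2 := Prod.ext R.ix2 R'.ix2
  iy1 := Prod.ext R.iy1 R'.iy1
  iy2 := Prod.ext R.iy2 R'.iy2
  w2 := Prod.ext R.w2 R'.w2
  wa1 := Prod.ext R.wa1 R'.wa1
  wx1 := Prod.ext R.wx1 R'.wx1
  wx2 := Prod.ext R.wx2 R'.wx2
  wi := Prod.ext R.wi R'.wi
  wY p hp q hq h := Prod.ext (R.wY p hp q hq h) (R'.wY p hp q hq h)
  s2 := Prod.ext R.s2 R'.s2
  sa1 := Prod.ext R.sa1 R'.sa1
  sx1 := Prod.ext R.sx1 R'.sx1
  sx2 := Prod.ext R.sx2 R'.sx2
  sy1 := Prod.ext R.sy1 R'.sy1
  sy2 := Prod.ext R.sy2 R'.sy2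
  si := Prod.ext R.si R'.si
  sa2 := Prod.ext R.sa2 R'.sa2
  sa2' := Prod.ext R.sa2' R'.sa2'
  ws := Prod.ext R.ws R'.ws

/-- U4(3) on 112 points is simple -/
theorem grp_simple : IsSimpleGroup Model.grp := by
  letI : Fintype (GaloisField 3 2) := Fintype.ofFinite _
  have hc : Fintype.card (GaloisField 3 2) = 9 := by
    rw [← Nat.card_eq_fintype_card, GaloisField.card 3 2 (by norm_num)]
    norm_num
  obtain ⟨e⟩ := H95.UFourThree.psu_chain hc
  have hs : IsSimpleGroup (Cfsg.PSU 4 (GaloisField 3 2) 3) :=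
    Unitary.isSimpleGroup_PSU (show Fintype.card (GaloisField 3 2) = 3 ^ 2 by rw [hc]; norm_num)
      (n := 4) (by norm_num) (by norm_num)
  haveI := hs
  exact ((MulEquiv.subgroupCongr Model.grp_eq).trans e.symm).isSimpleGroup

/-- the generated subgroup is a copy of the model -/
theorem exists_iso {G : Type*} [Group G] [Finite G] {a1 a2 x1 x2 y1 y2 i w s : G}
    (R : Rel a1 a2 x1 x2 y1 y2 i w s) (ha : a1 ≠ 1) :
    Nonempty (Model.grp ≃* Subgroup.closure ({a1, a2, x1, x2, y1, y2, i, w, s} : Set G)) := by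
  have R2 := Model.rel.prod R
  set S : Set (Equiv.Perm (Fin 112) × G) := {(Model.gen 0, a1), (Model.gen 1, a2), (Model.gen 2, x1),
    (Model.gen 3, x2), (Model.gen 4, y1), (Model.gen 5, y2), (Model.gen 6, i), (Model.gen 7, w),
    (Model.gen 8, s)} with hS
  set D := Subgroup.closure S
  set f : D →* Equiv.Perm (Fin 112) := (MonoidHom.fst _ G).comp D.subtype
  set g : D →* G := (MonoidHom.snd _ G).comp D.subtype
  have hf : f.range = Model.grp := by
    rw [MonoidHom.range_comp, Subgroup.range_subtype, MonoidHom.map_closure, hS, Model.grp,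
      Model.gens]
    simp [Set.image_insert_eq]
  have hg : g.range = Subgroup.closure ({a1, a2, x1, x2, y1, y2, i, w, s} : Set G) := by
    rw [MonoidHom.range_comp, Subgroup.range_subtype, MonoidHom.map_closure, hS]
    simp [Set.image_insert_eq]
  have hfi : Function.Injective f := by
    have h1 : Nat.card D ≤ 3265920 := R2.card_le
    have h2 : Nat.card f.range = 3265920 := by rw [hf, Model.card_grp]
    have h3 : f.ker.index = 3265920 := by rw [Subgroup.index_ker, h2]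
    have h4 := f.ker.card_mul_index
    rw [h3] at h4
    have h5 : Nat.card f.ker = 1 := by
      have : 0 < Nat.card f.ker := Nat.card_pos
      nlinarith
    rw [← MonoidHom.ker_eq_bot_iff]
    exact Subgroup.card_eq_one.1 h5
  set e : D ≃* Model.grp := (MonoidHom.ofInjective hfi).trans (MulEquiv.subgroupCongr hf)
  haveI := grp_simple
  haveI : IsSimpleGroup D := e.isSimpleGroup
  have hgi : Function.Injective g := by
    rw [← MonoidHom.ker_eq_bot_iff]
    rcases (inferInstance : g.ker.Normal).eq_bot_or_eq_top with h | h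
    · exact h
    · exfalso
      apply ha
      have hm : (Model.gen 0, a1) ∈ D := Subgroup.subset_closure (by simp [hS])
      have : (⟨_, hm⟩ : D) ∈ g.ker := by rw [h]; trivial
      exact this
  exact ⟨e.symm.trans ((MonoidHom.ofInjective hgi).trans (MulEquiv.subgroupCongr hg))⟩

end Cfsg.Agent.H66.UFour
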