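import Cfsg.Agent.H66.UFour.JFacts
import Cfsg.Agent.H38.FourGroup
import Mathlib.GroupTheory.Transfer

/-!
The centraliser of `A = ⟨a₁, a₂⟩`: its subgroup `T` of index two, of odd order.
-/

set_option autoImplicit false

namespace Cfsg.Agent.H66.UFour

variable {G : Type*} [Group G] [Finite G]

/-- if `z` is the only involution of `Y` centralising `z`, commuting involutions of `Y` coincide -/
theorem unique_invol {z : G} {Y : Subgroup G} (hz : z ∈ Y) (hzz : z * z = 1) (hz1 : z ≠ 1)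
    (huniq : ∀ t ∈ Y, t * z = z * t → t * t = 1 → t = 1 ∨ t = z) :
    ∃ P : Sylow 2 Y, (⟨z, hz⟩ : Y) ∈ P ∧ (∀ x : Y, x ∈ P → (x : G) * z = z * x) ∧
      ∀ x : Y, x ∈ P → x * x = 1 → x = 1 ∨ x = ⟨z, hz⟩ := by
  haveI : Fact (Nat.Prime 2) := ⟨Nat.prime_two⟩
  set z' : Y := ⟨z, hz⟩ with hz'
  have hz'2 : z' * z' = 1 := Subtype.ext hzz
  have hpz : IsPGroup 2 (Subgroup.zpowers z') := IsPGroup.of_card (n := 1) (by
    rw [Nat.card_zpowers, pow_one]
    exact orderOf_eq_prime (by rw [pow_two]; exact hz'2) (fun h => hz1 (congrArg Subtype.val h)))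
  obtain ⟨P, hP⟩ := hpz.exists_le_sylow
  have hzP : z' ∈ P := hP (Subgroup.mem_zpowers z')
  haveI : Nontrivial (P : Subgroup Y) := ⟨⟨⟨z', hzP⟩, 1, fun h => hz1 (congrArg
    (fun t : (P : Subgroup Y) => ((t : Y) : G)) h)⟩⟩
  -- an involution of the centre of `P` must be `z`
  haveI := P.2.center_nontrivial
  obtain ⟨t, ht⟩ := exists_prime_orderOf_dvd_card' (G := Subgroup.center (P : Subgroup Y)) 2 (by
    obtain ⟨n, hn⟩ := IsPGroup.iff_card.1 (P.2.to_subgroup (Subgroup.center (P : Subgroup Y)))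
    rcases n with _ | n
    · exfalso
      rw [pow_zero] at hn
      exact one_lt_card_center hn
    · rw [hn]; exact dvd_pow_self 2 (Nat.succ_ne_zero n))
  have htt : (((t : (P : Subgroup Y)) : Y) : G) * ((t : (P : Subgroup Y)) : Y) = 1 := by
    have := pow_orderOf_eq_one t
    rw [ht, pow_two] at this
    exact congrArg (fun s : Subgroup.center (P : Subgroup Y) => (((s : (P : Subgroup Y)) : Y) : G)) this
  have hc := Subgroup.mem_center_iff.1 t.2 ⟨z', hzP⟩
  have hcz : (((t : (P : Subgroup Y)) : Y) : G) * z = z * ((t : (P : Subgroup Y)) : Y) :=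
    (congrArg (fun s : (P : Subgroup Y) => ((s : Y) : G)) hc).symm
  have htz : ((t : (P : Subgroup Y)) : Y) = z' := by
    rcases huniq _ (SetLike.coe_mem _) hcz htt with h | h
    · exfalso
      have : t = 1 := Subtype.ext (Subtype.ext (Subtype.ext h))
      rw [this, orderOf_one] at ht
      norm_num at ht
    · exact Subtype.ext h
  have hcomm : ∀ x : Y, x ∈ P → (x : G) * z = z * x := by
    intro x hx
    have := Subgroup.mem_center_iff.1 t.2 ⟨x, hx⟩
    have h' := congrArg (fun s : (P : Subgroup Y) => ((s : Y) : G)) this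
    change (x : G) * (((t : (P : Subgroup Y)) : Y) : G) = _ * (x : G) at h'
    rw [htz] at h'
    exact h'
  refine ⟨P, hzP, hcomm, fun x hx hxx => ?_⟩
  rcases huniq x x.2 (hcomm x hx) (congrArg Subtype.val hxx) with h | h
  · exact Or.inl (Subtype.ext h)
  · exact Or.inr (Subtype.ext h)
where
  one_lt_card_center {P : Type _} [Group P] [Finite P] [Nontrivial (Subgroup.center P)]
      (h : Nat.card (Subgroup.center P) = 1) : False := by
    have := Finite.one_lt_card (α := Subgroup.center P)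
    omega

/-- no two distinct commuting involutions -/
theorem no_four {z : G} {Y : Subgroup G} (hz : z ∈ Y) (hzz : z * z = 1) (hz1 : z ≠ 1)
    (huniq : ∀ t ∈ Y, t * z = z * t → t * t = 1 → t = 1 ∨ t = z) {s t : G} (hs : s ∈ Y)
    (ht : t ∈ Y) (hss : s * s = 1) (htt : t * t = 1) (hs1 : s ≠ 1) (ht1 : t ≠ 1)
    (hst : s * t = t * s) : s = t := by
  classical
  haveI : Fact (Nat.Prime 2) := ⟨Nat.prime_two⟩
  obtain ⟨P, -, -, hP⟩ := unique_invol hz hzz hz1 huniq
  set s' : Y := ⟨s, hs⟩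
  set t' : Y := ⟨t, ht⟩
  have hst' : s' * t' = t' * s' := Subtype.ext hst
  have hpg : IsPGroup 2 (Subgroup.closure {s', t'}) := by
    haveI : IsMulCommutative (Subgroup.closure ({s', t'} : Set Y)) :=
      Subgroup.isMulCommutative_closure (by
        rintro x (rfl | rfl) y (rfl | rfl) <;> first | rfl | exact hst' | exact hst'.symm)
    intro x
    refine ⟨1, Subtype.ext ?_⟩
    show (x : Y) ^ 2 ^ 1 = 1
    refine Subgroup.closure_induction (p := fun y _ => y ^ 2 ^ 1 = 1) ?_ (one_pow _) ?_ ?_ x.2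
    · rintro y (rfl | rfl)
      · exact Subtype.ext (by rw [pow_one, pow_two]; exact hss)
      · exact Subtype.ext (by rw [pow_one, pow_two]; exact htt)
    · intro y y' hy hy' e e'
      have hc : (⟨y, hy⟩ : Subgroup.closure ({s', t'} : Set Y)) * ⟨y', hy'⟩ = ⟨y', hy'⟩ * ⟨y, hy⟩ :=
        mul_comm' _ _
      rw [Commute.mul_pow (congrArg Subtype.val hc), e, e', one_mul]
    · intro y _ e
      rw [inv_pow, e, inv_one]
  obtain ⟨S, hS⟩ := hpg.exists_le_sylow
  obtain ⟨c, hc⟩ := MulAction.exists_smul_eq Y S P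
  have mv : ∀ x : Y, x ∈ S → x * x = 1 → x = 1 ∨ c * x * c⁻¹ = ⟨z, hz⟩ := by
    intro x hx hxx
    have hxP : c * x * c⁻¹ ∈ P := by
      rw [← hc]
      exact ⟨x, hx, rfl⟩
    rcases hP _ hxP (by
      calc c * x * c⁻¹ * (c * x * c⁻¹) = c * (x * x) * c⁻¹ := by group
        _ = 1 := by rw [hxx]; group) with h | h
    · left
      calc x = c⁻¹ * (c * x * c⁻¹) * c := by group
        _ = 1 := by rw [h]; group
    · exact Or.inr h
  rcases mv s' (hS (Subgroup.subset_closure (by simp))) (Subtype.ext hss) with h | h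
  · exact absurd (congrArg Subtype.val h) hs1
  rcases mv t' (hS (Subgroup.subset_closure (by simp))) (Subtype.ext htt) with h' | h'
  · exact absurd (congrArg Subtype.val h') ht1
  exact congrArg Subtype.val (mul_left_cancel (mul_right_cancel (h.trans h'.symm)))
where
  mul_comm' {H : Type _} [Group H] [IsMulCommutative H] (a b : H) : a * b = b * a :=
    Std.Commutative.comm (op := fun x y : H => x * y) a b

namespace Hyp

variable {z : G} (K : Hyp z)

/-- `C(A)` -/
def CA : Subgroup G := Subgroup.centralizer {K.p cA1, K.p cA2}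

theorem mem_CA {x : G} :
    x ∈ K.CA ↔ x * K.p cA1 = K.p cA1 * x ∧ x * K.p cA2 = K.p cA2 * x := by
  rw [CA, Subgroup.mem_centralizer_iff]
  simp [eq_comm]

theorem CA_z : z ∈ K.CA := K.mem_CA.2 ⟨(K.p_comm_z _).symm, (K.p_comm_z _).symm⟩

theorem CA_code {x : G} (hx : x ∈ K.CA) (hxz : x * z = z * x) :
    ∃ n ∈ listA, x = K.p n ∨ x = z * K.p n := by
  obtain ⟨n, hn, rfl⟩ := K.surj hxz
  have l1 : cA1 < 1152 := by decide +kernel
  have l2 : cA2 < 1152 := by decide +kernel
  have lZ : cZ < 1152 := by decide +kernel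
  rcases (a_facts n hn).2.2.2.2 ((K.comm_iff hn l1).1 (K.mem_CA.1 hx).1)
    ((K.comm_iff hn l2).1 (K.mem_CA.1 hx).2) with h | h
  · exact ⟨n, h, Or.inl rfl⟩
  · refine ⟨_, h, Or.inr ?_⟩
    rw [K.p_mh lZ hn, K.p_z, ← mul_assoc, K.raw.z_sq, one_mul]

theorem pA_sq {n : ℕ} (hn : n ∈ listA) (h : K.p n * K.p n = 1) : K.p n = 1 := by
  obtain ⟨hn1, hn3, -, -⟩ := listA_ok.1 n hn
  have h3 : K.p n * (K.p n * K.p n) = 1 := by
    rw [← K.p_mh hn1 hn1, ← K.p_mh hn1 (Hyp.mh_lt hn1 hn1), hn3, K.p_zero]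
  rwa [h, mul_one] at h3

theorem CA_invol {t : G} (ht : t ∈ K.CA) (htz : t * z = z * t) (htt : t * t = 1) :
    t = 1 ∨ t = z := by
  obtain ⟨n, hn, h | h⟩ := K.CA_code ht htz
  · left; rw [h] at htt ⊢; exact K.pA_sq hn htt
  · right
    have : K.p n * K.p n = 1 := by
      have hc : Commute z (K.p n) := (K.p_comm_z n).symm
      calc K.p n * K.p n = z * z * (K.p n * K.p n) := by rw [K.raw.z_sq, one_mul]
        _ = z * (z * K.p n) * K.p n := by group
        _ = z * (K.p n * z) * K.p n := by rw [hc.eq]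
        _ = t * t := by rw [h]; group
        _ = 1 := htt
    rw [h, K.pA_sq hn this, mul_one]

/-- `C(A)` has a subgroup of index two and odd order -/
theorem exists_T : ∃ T : Subgroup G, T ≤ K.CA ∧ Odd (Nat.card T) ∧
    (∀ x ∈ K.CA, Odd (orderOf x) → x ∈ T) ∧ (∀ x ∈ K.CA, x ∈ T ∨ x * z ∈ T) := by
  classical
  haveI : Fact (Nat.Prime 2) := ⟨Nat.prime_two⟩
  obtain ⟨P, hzP, hcomm, -⟩ := unique_invol K.CA_z K.raw.z_sq K.raw.z_ne
    (fun t ht h h' => K.CA_invol ht h h')
  set z' : K.CA := ⟨z, K.CA_z⟩ with hz'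
  have hz'2 : orderOf z' = 2 := orderOf_eq_prime (by rw [pow_two]; exact Subtype.ext K.raw.z_sq)
    (fun h => K.raw.z_ne (congrArg Subtype.val h))
  have hPeq : (P : Subgroup K.CA) = Subgroup.zpowers z' := by
    refine le_antisymm (fun x hx => ?_) (Subgroup.zpowers_le.2 hzP)
    obtain ⟨n, hn, h⟩ := K.CA_code x.2 (hcomm x hx)
    obtain ⟨hn1, hn3, -, -⟩ := listA_ok.1 n hn
    have hq : K.p n ^ 3 = 1 := by
      rw [pow_succ, pow_two, mul_assoc, ← K.p_mh hn1 hn1, ← K.p_mh hn1 (Hyp.mh_lt hn1 hn1), hn3,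
        K.p_zero]
    obtain ⟨k, hk⟩ := P.2 ⟨x, hx⟩
    have hx2 : (x : G) ^ 2 ^ k = 1 := congrArg (fun s : (P : Subgroup K.CA) => ((s : K.CA) : G)) hk
    have key : ∀ y : G, y ^ 3 = 1 → y ^ 2 ^ (k + 1) = 1 → y = 1 := by
      intro y h1 h2
      rw [← orderOf_dvd_iff_pow_eq_one] at h1 h2
      have := Nat.dvd_gcd h1 h2
      rw [show Nat.gcd 3 (2 ^ (k + 1)) = 1 from
        (Nat.Coprime.pow_right (k + 1) (by norm_num : Nat.Coprime 3 2))] at this
      exact orderOf_eq_one_iff.1 (Nat.dvd_one.1 this)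
    rcases h with h | h
    · have : x = 1 := by
        refine Subtype.ext ?_
        rw [h]
        refine key _ hq ?_
        rw [← h, pow_succ, pow_mul, hx2, one_pow]
      rw [this]; exact one_mem _
    · have : x = z' := by
        refine Subtype.ext ?_
        rw [h]
        have e : K.p n = 1 := by
          refine key _ hq ?_
          have he : K.p n = z * (x : G) := by rw [h, ← mul_assoc, K.raw.z_sq, one_mul]
          have hc : Commute z (x : G) := (hcomm x hx).symm
          rw [he, hc.mul_pow, pow_succ, pow_mul (x : G), hx2, one_pow, mul_one, pow_mul', pow_two,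
            K.raw.z_sq, one_pow]
        show z * K.p n = z
        rw [e, mul_one]
      rw [this]; exact Subgroup.mem_zpowers z'
  have hP2 : Nat.card P = 2 := by
    show Nat.card (P : Subgroup K.CA) = 2
    rw [hPeq, Nat.card_zpowers, hz'2]
  have hNC : Subgroup.normalizer ((P : Subgroup K.CA) : Set K.CA) ≤
      Subgroup.centralizer ((P : Subgroup K.CA) : Set K.CA) := by
    intro n hn
    have hzn : n * z' * n⁻¹ ∈ (P : Subgroup K.CA) := (Subgroup.mem_normalizer_iff.1 hn z').1 hzP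
    have hone : n * z' * n⁻¹ ≠ 1 := fun h => by
      have : z' = 1 := by
        calc z' = n⁻¹ * (n * z' * n⁻¹) * n := by group
          _ = 1 := by rw [h]; group
      rw [this, orderOf_one] at hz'2
      norm_num at hz'2
    rw [hPeq] at hzn
    obtain ⟨k, hk⟩ := Subgroup.mem_zpowers_iff.1 hzn
    have hnz : n * z' * n⁻¹ = z' := by
      rw [← hk] at hone ⊢
      have hmod : z' ^ k = z' ^ (k % (2 : ℤ)) := by rw [← zpow_mod_orderOf z' k, hz'2]; norm_num
      rcases Int.emod_two_eq_zero_or_one k with e | e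
      · rw [hmod, e, zpow_zero] at hone; exact absurd rfl hone
      · rw [hmod, e, zpow_one]
    rw [Subgroup.mem_centralizer_iff]
    intro y hy
    rw [hPeq] at hy
    obtain ⟨j, rfl⟩ := Subgroup.mem_zpowers_iff.1 hy
    exact (Commute.zpow_left (show Commute z' n from (mul_inv_eq_iff_eq_mul.1 hnz).symm) j).eq
  set φ := MonoidHom.transferSylow P hNC
  have hcompl := MonoidHom.ker_transferSylow_isComplement' P hNC
  set T' := φ.ker
  have hTodd : Odd (Nat.card T') := by
    rw [← Nat.not_even_iff_odd, even_iff_two_dvd]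
    exact MonoidHom.not_dvd_card_ker_transferSylow P hNC
  refine ⟨T'.map K.CA.subtype, Subgroup.map_subtype_le _, ?_, fun x hx hodd => ?_, fun x hx => ?_⟩
  · rwa [Nat.card_congr (T'.equivMapOfInjective _ K.CA.subtype_injective).toEquiv.symm]
  · refine ⟨⟨x, hx⟩, ?_, rfl⟩
    show φ ⟨x, hx⟩ = 1
    have h1 : orderOf (φ ⟨x, hx⟩) ∣ orderOf x := by
      have := orderOf_map_dvd φ ⟨x, hx⟩
      simpa [Subgroup.orderOf_mk, Subgroup.orderOf_coe] using this
    have h2 : orderOf (φ ⟨x, hx⟩) ∣ 2 :=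
      (orderOf_dvd_natCard (φ ⟨x, hx⟩)).trans (dvd_of_eq hP2)
    have := Nat.dvd_gcd h1 h2
    rw [show Nat.gcd (orderOf x) 2 = 1 from (Nat.coprime_two_right.2 hodd)] at this
    exact orderOf_eq_one_iff.1 (Nat.dvd_one.1 this)
  · obtain ⟨⟨⟨t, ht⟩, ⟨p, hp⟩⟩, htp⟩ := hcompl.2 ⟨x, hx⟩
    change t * p = ⟨x, hx⟩ at htp
    have hp' : p = 1 ∨ p = z' := by
      have := hp
      change p ∈ (P : Subgroup K.CA) at this
      rw [hPeq] at this
      obtain ⟨k, rfl⟩ := Subgroup.mem_zpowers_iff.1 this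
      have hmod : z' ^ k = z' ^ (k % (2 : ℤ)) := by rw [← zpow_mod_orderOf z' k, hz'2]; norm_num
      rcases Int.emod_two_eq_zero_or_one k with e | e
      · left; rw [hmod, e, zpow_zero]
      · right; rw [hmod, e, zpow_one]
    rcases hp' with rfl | rfl
    · left; refine ⟨t, ht, ?_⟩; rw [mul_one] at htp; rw [htp]; rfl
    · right; refine ⟨t, ht, ?_⟩
      have : (t : G) * z = x := congrArg Subtype.val htp
      show (t : G) = x * z
      rw [← this, mul_assoc, K.raw.z_sq, mul_one]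

end Hyp

end Cfsg.Agent.H66.UFour
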