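import Mathlib

/-!
Codes for `SL(2,3)` and for a model of the centraliser of an involution in `U4(3)`: the elements
`(A, B) i^p w^q` with `(A, B)` in the central product of two copies of `SL(2,3)`, `w` interchanging
the copies, `i` inducing `diag(1,-1)` on both, `i^2 = z^e` and `w i = z^f i w`.
-/

set_option autoImplicit false

namespace Cfsg.Agent.H66.UFour

/-- multiplication table of `SL(2,3)`, five bits per entry -/
def mtab : ℕ := 0x64dd150d0d9248b01c45b3e813561784af3100358a06a21967731a92d1f6350ef635c5b11699226300451542f52b4cc856e770d48886402257313ed468d8aade0e414c70bc164ac82a4653a8202a59f709ca64b08e4286b6ce32a11eb6b996498e5440770880aaca7150901314e302d24b3a8d9466f65eb012c2929cc02290375db58ce4c85a8f7c6d2591349840219546bc2a83b58e3d4b07d2c6b80419a6241a1525b1cd5a928398a418820bdab49ca307b9ac01c45b3e813561764dd150d0d9248b21967731a92d1f684af3100358a06a9226300451542f5350ef635c5b1169886402257313ed42b4cc856e770d480bc164ac82a465368d8aade0e414c74b08e4286b6ce32a8202a59f709ca6440770880aaca71a11eb6b996498e5b3a8d9466f65eb050901314e302d2475db58ce4c85a8f12c2929cc02290319546bc2a83b58e7c6d259134984029a6241a1525b1cd3d4b07d2c6b8041bdab49ca307b9ac5a928398a418820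

/-- conjugation by `diag(1,-1)` -/
def gtab : ℕ := 0xa56d731caf835cc4254b94e2320440

/-- inversion -/
def itab : ℕ := 0x5c8e84d8af835ccb9a74aaa2320440

/-- matrix entries, eight bits per element -/
def etab : ℕ := 0x56261a6a58981892a2868a82a9192595a464246151494541

/-- a five bit digit -/
def dig (t k : ℕ) : ℕ := Nat.mod (Nat.shiftRight t (Nat.mul 5 k)) 32

/-- product in `SL(2,3)` -/
def sm (a b : ℕ) : ℕ := dig mtab (Nat.add (Nat.mul 24 a) b)

/-- conjugation by `diag(1,-1)` -/
def sg (a : ℕ) : ℕ := dig gtab a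

/-- inverse in `SL(2,3)` -/
def si (a : ℕ) : ℕ := dig itab a

/-- negative in `SL(2,3)` -/
def sn (a : ℕ) : ℕ := cond (Nat.blt a 12) (Nat.add a 12) (Nat.sub a 12)

/-- `sn` applied `k` times -/
def snk (k a : ℕ) : ℕ := cond (Nat.beq (Nat.mod k 2) 0) a (sn a)

/-- the element `(a, b) i^p w^q` -/
def mk (a b p q : ℕ) : ℕ :=
  Nat.add (Nat.mul 4 (Nat.add (Nat.mul 24 (Nat.mod a 12))
    (cond (Nat.blt a 12) b (sn b)))) (Nat.add (Nat.mul 2 (Nat.mod p 2)) (Nat.mod q 2))

/-- first coordinate -/
def ca (x : ℕ) : ℕ := Nat.div x 96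

/-- second coordinate -/
def cb (x : ℕ) : ℕ := Nat.mod (Nat.div x 4) 24

/-- exponent of `i` -/
def cp (x : ℕ) : ℕ := Nat.mod (Nat.div x 2) 2

/-- exponent of `w` -/
def cq (x : ℕ) : ℕ := Nat.mod x 2

/-- the action of `i^p w^q` -/
def twist (p q a b : ℕ) : ℕ × ℕ :=
  (cond (Nat.beq p 0) (cond (Nat.beq q 0) a b) (sg (cond (Nat.beq q 0) a b)),
    cond (Nat.beq p 0) (cond (Nat.beq q 0) b a) (sg (cond (Nat.beq q 0) b a)))

/-- the sign picked up by moving `i`, `w` together -/
def sgn (e f p q r : ℕ) : ℕ := Nat.add (Nat.mul f (Nat.mul q r)) (Nat.mul e (Nat.mul p r))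

/-- product in the model with parameters `e`, `f` -/
def mm (e f x y : ℕ) : ℕ :=
  mk (sm (ca x) (twist (cp x) (cq x) (ca y) (cb y)).1)
    (snk (sgn e f (cp x) (cq x) (cp y)) (sm (cb x) (twist (cp x) (cq x) (ca y) (cb y)).2))
    (Nat.add (cp x) (cp y)) (Nat.add (cq x) (cq y))

/-- test on all numbers below `n` -/
def allB : ℕ → (ℕ → Bool) → Bool
  | 0, _ => true
  | n + 1, f => cond (f n) (allB n f) false

/-- search below `n` -/
def anyB : ℕ → (ℕ → Bool) → Bool
  | 0, _ => false
  | n + 1, f => cond (f n) true (anyB n f)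

/-- number of hits below `n` -/
def cntB : ℕ → (ℕ → Bool) → ℕ
  | 0, _ => 0
  | n + 1, f => Nat.add (cond (f n) 1 0) (cntB n f)

theorem allB_iff {n : ℕ} {f : ℕ → Bool} : allB n f = true ↔ ∀ k < n, f k = true := by
  induction n with
  | zero => simp [allB]
  | succ n ih =>
    cases h : f n with
    | true =>
      simp only [allB, h, cond_true, ih]
      refine ⟨fun H k hk => ?_, fun H k hk => H k (by omega)⟩
      rcases Nat.lt_succ_iff_lt_or_eq.1 hk with h' | rfl
      · exact H k h'
      · exact h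
    | false =>
      simp only [allB, h, cond_false, Bool.false_eq_true, false_iff]
      exact fun H => by simpa [h] using H n (by omega)

theorem anyB_iff {n : ℕ} {f : ℕ → Bool} : anyB n f = true ↔ ∃ k < n, f k = true := by
  induction n with
  | zero => simp [anyB]
  | succ n ih =>
    cases h : f n with
    | true => simp only [anyB, h, cond_true, true_iff]; exact ⟨n, by omega, h⟩
    | false =>
      simp only [anyB, h, cond_false, ih]
      refine ⟨fun ⟨k, hk, hf⟩ => ⟨k, by omega, hf⟩, fun ⟨k, hk, hf⟩ => ⟨k, ?_, hf⟩⟩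
      rcases Nat.lt_succ_iff_lt_or_eq.1 hk with h' | rfl
      · exact h'
      · simp [h] at hf

theorem cntB_eq (n : ℕ) (f : ℕ → Bool) :
    cntB n f = ((Finset.range n).filter fun k => f k = true).card := by
  induction n with
  | zero => simp [cntB]
  | succ n ih =>
    rw [Finset.range_add_one, Finset.filter_insert]
    cases h : f n <;> simp [cntB, h, ih, Nat.add_comm]

theorem sm_lt : ∀ a < 24, ∀ b < 24, sm a b < 24 := by decide +kernel

theorem sg_lt : ∀ a < 24, sg a < 24 := by decide +kernel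

theorem sn_lt : ∀ a < 24, sn a < 24 := by decide +kernel

theorem si_spec : ∀ a < 24, si a < 24 ∧ sm (si a) a = 0 ∧ sm a (si a) = 0 := by decide +kernel

theorem snk_lt (k : ℕ) {a : ℕ} (ha : a < 24) : snk k a < 24 := by
  unfold snk
  cases Nat.beq (Nat.mod k 2) 0 <;> simp [ha, sn_lt a ha]

theorem mk_lt {a b : ℕ} (hb : b < 24) (p q : ℕ) : mk a b p q < 1152 := by
  have h1 : (cond (Nat.blt a 12) b (sn b)) < 24 := by
    cases Nat.blt a 12 <;> simp [hb, sn_lt b hb]
  have h2 : a % 12 < 12 := Nat.mod_lt _ (by norm_num)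
  have h3 : p % 2 < 2 := Nat.mod_lt _ (by norm_num)
  have h4 : q % 2 < 2 := Nat.mod_lt _ (by norm_num)
  show 4 * (24 * (a % 12) + cond (Nat.blt a 12) b (sn b)) + (2 * (p % 2) + q % 2) < 1152
  omega

end Cfsg.Agent.H66.UFour
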