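import Cfsg.Agent.H66.UFour.Small

/-!
Coordinates on `T`.
-/

set_option autoImplicit false
set_option synthInstance.maxSize 4000
set_option synthInstance.maxHeartbeats 400000
set_option maxRecDepth 10000

namespace Cfsg.Agent.H66.UFour

/-- a ternary digit -/
def dg (v k : ℕ) : ℕ := Nat.mod (Nat.div v ([1, 3, 9, 27].getD k 1)) 3

/-- a vector from four coordinates -/
def vec (p q r s : ℕ) : ℕ :=
  Nat.add (Nat.add (Nat.mod p 3) (Nat.mul 3 (Nat.mod q 3)))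
    (Nat.add (Nat.mul 9 (Nat.mod r 3)) (Nat.mul 27 (Nat.mod s 3)))

/-- sum -/
def vadd (u v : ℕ) : ℕ :=
  vec (Nat.add (dg u 0) (dg v 0)) (Nat.add (dg u 1) (dg v 1)) (Nat.add (dg u 2) (dg v 2))
    (Nat.add (dg u 3) (dg v 3))

/-- scalar multiple -/
def vsc (n v : ℕ) : ℕ :=
  vec (Nat.mul n (dg v 0)) (Nat.mul n (dg v 1)) (Nat.mul n (dg v 2)) (Nat.mul n (dg v 3))

/-- negative -/
def vneg (v : ℕ) : ℕ := vsc 2 v

/-- the linear map with given images of the basis -/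
def lin (f0 f1 f2 f3 v : ℕ) : ℕ :=
  vadd (vadd (vsc (dg v 0) f0) (vsc (dg v 1) f1)) (vadd (vsc (dg v 2) f2) (vsc (dg v 3) f3))

/-- action of `z` -/
def lz (v : ℕ) : ℕ := lin 1 3 18 54 v
/-- action of `w` -/
def lw (v : ℕ) : ℕ := lin 1 6 9 54 v
/-- action of `i` -/
def li (v : ℕ) : ℕ := lin 2 6 27 18 v
/-- action of `b` -/
def lb (v : ℕ) : ℕ := lin 1 9 27 3 v
/-- action of `c` -/
def lc (v : ℕ) : ℕ := lin (vec 0 0 1 2) 3 (vec 2 0 2 2) (vec 2 0 1 1) v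
/-- action of `w' = w i` -/
def lw' (v : ℕ) : ℕ := lw (li v)

theorem vec_lt (p q r s : ℕ) : vec p q r s < 81 := by
  have h1 : p % 3 < 3 := Nat.mod_lt _ (by norm_num)
  have h2 : q % 3 < 3 := Nat.mod_lt _ (by norm_num)
  have h3 : r % 3 < 3 := Nat.mod_lt _ (by norm_num)
  have h4 : s % 3 < 3 := Nat.mod_lt _ (by norm_num)
  show p % 3 + 3 * (q % 3) + (9 * (r % 3) + 27 * (s % 3)) < 81
  omega

theorem vadd_lt (u v : ℕ) : vadd u v < 81 := vec_lt ..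

theorem vsc_lt (n v : ℕ) : vsc n v < 81 := vec_lt ..

theorem lin_lt (f0 f1 f2 f3 v : ℕ) : lin f0 f1 f2 f3 v < 81 := vadd_lt ..

namespace Hyp

variable {G : Type*} [Group G] [Finite G] {z : G} (K : Hyp z)

/-- data of `T` with one fusing element -/
structure Pre (T : Subgroup G) (b : G) : Prop where
  hT : K.IsT T
  hb : IsFus z (K.p cA) (K.p cW) (K.p cU) (K.p 1100) b
  h1 : b * K.p cA' * b⁻¹ ∈ T
  h2 : b * b * K.p cA' * (b * b)⁻¹ ∈ T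

/-- the coordinate map -/
def psi (b : G) (v : ℕ) : G :=
  K.p cA ^ dg v 0 * K.p cA' ^ dg v 1 * (b * K.p cA' * b⁻¹) ^ dg v 2 *
    (b * b * K.p cA' * (b * b)⁻¹) ^ dg v 3

theorem exists_pre : ∃ T b c, K.Pre T b ∧ IsFus z (K.p cA') (K.p cW') (K.p cZU) (K.p 812) c ∧
    c * K.p cA * c⁻¹ ∈ T ∧ c * c * K.p cA * (c * c)⁻¹ ∈ T := by
  obtain ⟨T, h1, h2, h3, h4⟩ := K.exists_T
  have hT : K.IsT T := ⟨h1, h2, h3, h4⟩
  obtain ⟨b, hb⟩ := K.exists_fus fourA fourA_ok (Or.inl rfl)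
  obtain ⟨c, hc⟩ := K.exists_fus fourB fourB_ok (Or.inr rfl)
  have hb' : IsFus z (K.p cA) (K.p cW) (K.p cU) (K.p 1100) b := hb
  have hc' : IsFus z (K.p cA') (K.p cW') (K.p cZU) (K.p 812) c := hc
  rcases K.dichotomy hT sideA hb' with h | ⟨p1, p2⟩
  · exact (K.not_small hT hb' h).elim
  rcases K.dichotomy hT sideB hc' with h | ⟨q1, q2⟩
  · exact (K.not_small hT hb' h).elim
  exact ⟨T, b, c, ⟨hT, hb', p1, p2⟩, hc', q1, q2⟩

variable {T : Subgroup G} {b : G} (P : K.Pre T b)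
include P

theorem T_gen : T = Subgroup.closure {K.p cA, K.p cA', b * K.p cA' * b⁻¹,
    b * b * K.p cA' * (b * b)⁻¹} :=
  K.T_eq_closure P.hT sideA P.hb P.h1 P.h2

theorem gens_mem : K.p cA ∈ T ∧ K.p cA' ∈ T :=
  ⟨K.inA_T P.hT ⟨cA, pk_facts.2.2.2.2.2.1, rfl⟩,
    K.inA_T P.hT ⟨cA', pk_facts.2.2.2.2.2.2.1, rfl⟩⟩

theorem T_comm {x y : G} (hx : x ∈ T) (hy : y ∈ T) : x * y = y * x := by
  obtain ⟨ma, ma'⟩ := K.gens_mem P
  set x1 := b * K.p cA' * b⁻¹ with hx1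
  set x2 := b * b * K.p cA' * (b * b)⁻¹ with hx2
  have cA0 : ∀ {t : G}, t ∈ T → t * K.p cA = K.p cA * t ∧ t * K.p cA' = K.p cA' * t := fun ht =>
    ⟨K.CA_comm_A (P.hT.le ht) ⟨cA, pk_facts.2.2.2.2.2.1, rfl⟩,
      K.CA_comm_A (P.hT.le ht) ⟨cA', pk_facts.2.2.2.2.2.2.1, rfl⟩⟩
  have c12 : x1 * x2 = x2 * x1 := by
    have h := (cA0 P.h1).2
    calc x1 * x2 = b * (K.p cA' * x1) * b⁻¹ := by rw [hx1, hx2]; group
      _ = b * (x1 * K.p cA') * b⁻¹ := by rw [← h]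
      _ = _ := by rw [hx1, hx2]; group
  haveI : IsMulCommutative (Subgroup.closure ({K.p cA, K.p cA', x1, x2} : Set G)) :=
    Subgroup.isMulCommutative_closure (by
      rintro s (rfl | rfl | rfl | rfl) t (rfl | rfl | rfl | rfl) <;>
        first
        | rfl
        | exact (cA0 ma).2
        | exact ((cA0 ma).2).symm
        | exact (cA0 P.h1).1
        | exact ((cA0 P.h1).1).symm
        | exact (cA0 P.h1).2
        | exact ((cA0 P.h1).2).symm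
        | exact (cA0 P.h2).1
        | exact ((cA0 P.h2).1).symm
        | exact (cA0 P.h2).2
        | exact ((cA0 P.h2).2).symm
        | exact c12
        | exact c12.symm)
  have hx' := hx; have hy' := hy
  rw [K.T_gen P] at hx' hy'
  exact congrArg Subtype.val (Std.Commutative.comm
    (op := fun s t : Subgroup.closure ({K.p cA, K.p cA', x1, x2} : Set G) => s * t) ⟨x, hx'⟩ ⟨y, hy'⟩)

omit P [Finite G] in
theorem conj_cube {g x : G} (h : x * x * x = 1) :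
    g * x * g⁻¹ * (g * x * g⁻¹) * (g * x * g⁻¹) = 1 := by
  calc g * x * g⁻¹ * (g * x * g⁻¹) * (g * x * g⁻¹) = g * (x * x * x) * g⁻¹ := by group
    _ = 1 := by rw [h]; group

omit P [Finite G] in
theorem pow_mod3 {x : G} (h : x * x * x = 1) (n : ℕ) : x ^ (n % 3) = x ^ n := by
  conv_rhs => rw [← Nat.div_add_mod n 3, pow_add, pow_mul, pow_succ, pow_two, h, one_pow, one_mul]

theorem psi_mem (v : ℕ) : K.psi b v ∈ T :=
  mul_mem (mul_mem (mul_mem (pow_mem (K.gens_mem P).1 _) (pow_mem (K.gens_mem P).2 _))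
    (pow_mem P.h1 _)) (pow_mem P.h2 _)

theorem cubes : K.p cA * K.p cA * K.p cA = 1 ∧ K.p cA' * K.p cA' * K.p cA' = 1 :=
  ⟨K.inA_cube ⟨cA, pk_facts.2.2.2.2.2.1, rfl⟩, K.inA_cube ⟨cA', pk_facts.2.2.2.2.2.2.1, rfl⟩⟩

theorem psi_vec (p q r s : ℕ) : K.psi b (vec p q r s) = K.p cA ^ p * K.p cA' ^ q *
    (b * K.p cA' * b⁻¹) ^ r * (b * b * K.p cA' * (b * b)⁻¹) ^ s := by
  have e : dg (vec p q r s) 0 = p % 3 ∧ dg (vec p q r s) 1 = q % 3 ∧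
      dg (vec p q r s) 2 = r % 3 ∧ dg (vec p q r s) 3 = s % 3 := by
    show (p % 3 + 3 * (q % 3) + (9 * (r % 3) + 27 * (s % 3))) / 1 % 3 = _ ∧
      (p % 3 + 3 * (q % 3) + (9 * (r % 3) + 27 * (s % 3))) / 3 % 3 = _ ∧
      (p % 3 + 3 * (q % 3) + (9 * (r % 3) + 27 * (s % 3))) / 9 % 3 = _ ∧
      (p % 3 + 3 * (q % 3) + (9 * (r % 3) + 27 * (s % 3))) / 27 % 3 = _
    omega
  obtain ⟨c1, c2⟩ := K.cubes P
  rw [psi, e.1, e.2.1, e.2.2.1, e.2.2.2, pow_mod3 c1, pow_mod3 c2, pow_mod3 (conj_cube c2),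
    pow_mod3 (conj_cube c2)]

theorem psi_add (u v : ℕ) : K.psi b (vadd u v) = K.psi b u * K.psi b v := by
  rw [vadd, K.psi_vec P]
  show K.p cA ^ (dg u 0 + dg v 0) * K.p cA' ^ (dg u 1 + dg v 1) *
      (b * K.p cA' * b⁻¹) ^ (dg u 2 + dg v 2) * (b * b * K.p cA' * (b * b)⁻¹) ^ (dg u 3 + dg v 3) = _
  rw [pow_add, pow_add, pow_add, pow_add, psi, psi]
  obtain ⟨ma, ma'⟩ := K.gens_mem P
  have C : ∀ {s t : G}, s ∈ T → t ∈ T → Commute s t := fun hs ht => K.T_comm P hs ht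
  have m1 := fun n => pow_mem ma n
  have m2 := fun n => pow_mem ma' n
  have m3 := fun n => pow_mem P.h1 n
  have m4 := fun n => pow_mem P.h2 n
  have h1 : ∀ {a1 a2 b1 b2 : G}, a1 ∈ T → a2 ∈ T → b1 ∈ T → b2 ∈ T →
      a1 * a2 * (b1 * b2) = a1 * b1 * (a2 * b2) := fun _ ha2 hb1 _ =>
    Commute.mul_mul_mul_comm (C ha2 hb1) _ _
  rw [h1 (mul_mem (mul_mem (m1 _) (m2 _)) (m3 _)) (m4 _) (mul_mem (mul_mem (m1 _) (m2 _)) (m3 _)) (m4 _),
    h1 (mul_mem (m1 _) (m2 _)) (m3 _) (mul_mem (m1 _) (m2 _)) (m3 _),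
    h1 (m1 _) (m2 _) (m1 _) (m2 _)]

theorem psi_sc (n v : ℕ) : K.psi b (vsc n v) = K.psi b v ^ n := by
  obtain ⟨ma, ma'⟩ := K.gens_mem P
  have C : ∀ {s t : G}, s ∈ T → t ∈ T → Commute s t := fun hs ht => K.T_comm P hs ht
  rw [vsc, K.psi_vec P]
  show K.p cA ^ (n * dg v 0) * K.p cA' ^ (n * dg v 1) * (b * K.p cA' * b⁻¹) ^ (n * dg v 2) *
      (b * b * K.p cA' * (b * b)⁻¹) ^ (n * dg v 3) = _
  rw [pow_mul', pow_mul', pow_mul', pow_mul', psi]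
  rw [Commute.mul_pow (C (mul_mem (mul_mem (pow_mem ma _) (pow_mem ma' _)) (pow_mem P.h1 _))
      (pow_mem P.h2 _)),
    Commute.mul_pow (C (mul_mem (pow_mem ma _) (pow_mem ma' _)) (pow_mem P.h1 _)),
    Commute.mul_pow (C (pow_mem ma _) (pow_mem ma' _))]

theorem psi_zero : K.psi b 0 = 1 := by
  have e : (0 : ℕ) = vec 0 0 0 0 := by decide +kernel
  rw [e, K.psi_vec P]; simp

theorem psi_basis : K.psi b 1 = K.p cA ∧ K.psi b 3 = K.p cA' ∧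
    K.psi b 9 = b * K.p cA' * b⁻¹ ∧ K.psi b 27 = b * b * K.p cA' * (b * b)⁻¹ := by
  have e : (1 : ℕ) = vec 1 0 0 0 ∧ (3 : ℕ) = vec 0 1 0 0 ∧ (9 : ℕ) = vec 0 0 1 0 ∧
      (27 : ℕ) = vec 0 0 0 1 := by decide +kernel
  refine ⟨?_, ?_, ?_, ?_⟩
  · rw [e.1, K.psi_vec P]; simp
  · rw [e.2.1, K.psi_vec P]; simp
  · rw [e.2.2.1, K.psi_vec P]; simp
  · rw [e.2.2.2, K.psi_vec P]; simp

theorem psi_two : K.psi b 2 = (K.p cA)⁻¹ ∧ K.psi b 6 = (K.p cA')⁻¹ ∧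
    K.psi b 18 = (b * K.p cA' * b⁻¹)⁻¹ ∧ K.psi b 54 = (b * b * K.p cA' * (b * b)⁻¹)⁻¹ := by
  have e : (2 : ℕ) = vec 2 0 0 0 ∧ (6 : ℕ) = vec 0 2 0 0 ∧ (18 : ℕ) = vec 0 0 2 0 ∧
      (54 : ℕ) = vec 0 0 0 2 := by decide +kernel
  obtain ⟨c1, c2⟩ := K.cubes P
  have sq : ∀ {x : G}, x * x * x = 1 → x ^ 2 = x⁻¹ := fun h => by
    rw [pow_two]; exact (inv_eq_of_mul_eq_one_left h).symm
  refine ⟨?_, ?_, ?_, ?_⟩
  · rw [e.1, K.psi_vec P, sq c1]; simp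
  · rw [e.2.1, K.psi_vec P, sq c2]; simp
  · rw [e.2.2.1, K.psi_vec P, sq (conj_cube c2)]; simp
  · rw [e.2.2.2, K.psi_vec P, sq (conj_cube c2)]; simp

theorem psi_surj {x : G} (hx : x ∈ T) : ∃ v < 81, K.psi b v = x := by
  rw [K.T_gen P] at hx
  obtain ⟨p1, p3, p9, p27⟩ := K.psi_basis P
  refine Subgroup.closure_induction (p := fun y _ => ∃ v < 81, K.psi b v = y) ?_ ?_ ?_ ?_ hx
  · rintro y (rfl | rfl | rfl | rfl)
    exacts [⟨1, by norm_num, p1⟩, ⟨3, by norm_num, p3⟩, ⟨9, by norm_num, p9⟩, ⟨27, by norm_num, p27⟩]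
  · exact ⟨0, by norm_num, K.psi_zero P⟩
  · rintro y y' _ _ ⟨u, -, rfl⟩ ⟨v, -, rfl⟩
    exact ⟨_, vadd_lt u v, K.psi_add P u v⟩
  · rintro y _ ⟨u, hu, rfl⟩
    refine ⟨_, vsc_lt 2 u, (inv_eq_of_mul_eq_one_right ?_).symm⟩
    have g : ∀ v < 81, vadd v (vsc 2 v) = 0 := by decide +kernel
    rw [← K.psi_add P, g u hu, K.psi_zero P]

omit P [Finite G] in
theorem conj_prod4 (g p q r s : G) :
    g * (p * q * r * s) * g⁻¹ = g * p * g⁻¹ * (g * q * g⁻¹) * (g * r * g⁻¹) * (g * s * g⁻¹) := by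
  group

theorem conj_lin {g : G} {f0 f1 f2 f3 : ℕ} (h0 : g * K.p cA * g⁻¹ = K.psi b f0)
    (h1 : g * K.p cA' * g⁻¹ = K.psi b f1) (h2 : g * (b * K.p cA' * b⁻¹) * g⁻¹ = K.psi b f2)
    (h3 : g * (b * b * K.p cA' * (b * b)⁻¹) * g⁻¹ = K.psi b f3) (v : ℕ) :
    g * K.psi b v * g⁻¹ = K.psi b (lin f0 f1 f2 f3 v) := by
  rw [lin, K.psi_add P, K.psi_add P, K.psi_add P, K.psi_sc P, K.psi_sc P, K.psi_sc P, K.psi_sc P,
    ← h0, ← h1, ← h2, ← h3, psi, conj_prod4, ← conj_pow, ← conj_pow, ← conj_pow, ← conj_pow,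
    mul_assoc ((g * K.p cA * g⁻¹) ^ dg v 0 * (g * K.p cA' * g⁻¹) ^ dg v 1)]

theorem conj_mem {g : G} {f : ℕ → ℕ} (h : ∀ v, g * K.psi b v * g⁻¹ = K.psi b (f v)) {x : G}
    (hx : x ∈ T) : g * x * g⁻¹ ∈ T := by
  obtain ⟨v, -, rfl⟩ := K.psi_surj P hx
  rw [h]; exact K.psi_mem P _

omit P in
theorem swap_facts : K.p cW * K.p cA' * (K.p cW)⁻¹ = (K.p cA')⁻¹ ∧
    K.p cW * K.p cA * (K.p cW)⁻¹ = K.p cA ∧ K.p cI * K.p cA * (K.p cI)⁻¹ = (K.p cA)⁻¹ ∧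
    K.p cI * K.p cA' * (K.p cI)⁻¹ = (K.p cA')⁻¹ := by
  have l : cA < 1152 ∧ cA' < 1152 ∧ cW < 1152 ∧ cI < 1152 := by decide +kernel
  obtain ⟨lA, lA', lW, lI⟩ := l
  have f : mh cW cA' = mh (mh cA' cA') cW ∧ mh cW cA = mh cA cW ∧ mh cI cA = mh (mh cA cA) cI ∧
      mh cI cA' = mh (mh cA' cA') cI := by decide +kernel
  have c3 : ∀ {c : ℕ}, c ∈ listA → K.p c * K.p c = (K.p c)⁻¹ := fun hc =>
    (inv_eq_of_mul_eq_one_left (K.inA_cube ⟨_, hc, rfl⟩)).symm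
  refine ⟨?_, ?_, ?_, ?_⟩
  · rw [← K.p_mh lW lA', f.1, K.p_mh (Hyp.mh_lt lA' lA') lW, K.p_mh lA' lA', mul_inv_cancel_right,
      c3 pk_facts.2.2.2.2.2.2.1]
  · rw [← K.p_mh lW lA, f.2.1, K.p_mh lA lW, mul_inv_cancel_right]
  · rw [← K.p_mh lI lA, f.2.2.1, K.p_mh (Hyp.mh_lt lA lA) lI, K.p_mh lA lA, mul_inv_cancel_right,
      c3 pk_facts.2.2.2.2.2.1]
  · rw [← K.p_mh lI lA', f.2.2.2, K.p_mh (Hyp.mh_lt lA' lA') lI, K.p_mh lA' lA',
      mul_inv_cancel_right, c3 pk_facts.2.2.2.2.2.2.1]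

omit P in
theorem zA (c : ℕ) : z * K.p c * z⁻¹ = K.p c := by rw [← K.p_comm_z, mul_inv_cancel_right]

theorem conj_z (v : ℕ) : z * K.psi b v * z⁻¹ = K.psi b (lz v) := by
  obtain ⟨p1, p3, -, -⟩ := K.psi_basis P
  obtain ⟨-, -, m18, m54⟩ := K.psi_two P
  obtain ⟨wa', -, -, -⟩ := K.swap_facts
  have hzw : b⁻¹ * z * b = z * K.p cW := by
    have hb3 : b * b = b⁻¹ := (inv_eq_of_mul_eq_one_right (by
      rw [← mul_assoc]; exact P.hb.cube)).symm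
    calc b⁻¹ * z * b = b⁻¹ * (b⁻¹ * K.p cW * b) * b := by rw [K.b_inv_w sideA P.hb]
      _ = (b * b)⁻¹ * K.p cW * (b * b) := by group
      _ = b * K.p cW * b⁻¹ := by rw [hb3, inv_inv]
      _ = z * K.p cW := P.hb.conj_w
  refine K.conj_lin P (by rw [K.zA, p1]) (by rw [K.zA, p3]) ?_ ?_ v
  · rw [m18]
    calc z * (b * K.p cA' * b⁻¹) * z⁻¹ = b * ((b⁻¹ * z * b) * K.p cA' * (b⁻¹ * z * b)⁻¹) * b⁻¹ := by
          group
      _ = b * (z * (K.p cW * K.p cA' * (K.p cW)⁻¹) * z⁻¹) * b⁻¹ := by rw [hzw]; group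
      _ = b * (z * K.p cA' * z⁻¹)⁻¹ * b⁻¹ := by rw [wa']; group
      _ = _ := by rw [K.zA]; group
  · rw [m54]
    have hw2 : (b * b)⁻¹ * z * (b * b) = K.p cW := by
      rw [show (b * b)⁻¹ * z * (b * b) = b⁻¹ * (b⁻¹ * z * b) * b by group, hzw,
        K.b_inv_zw sideA P.hb]
    calc z * (b * b * K.p cA' * (b * b)⁻¹) * z⁻¹ =
        b * b * ((b * b)⁻¹ * z * (b * b) * K.p cA' * ((b * b)⁻¹ * z * (b * b))⁻¹) * (b * b)⁻¹ := by
          group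
      _ = _ := by rw [hw2, wa']; simp only [mul_inv_rev, inv_inv, mul_assoc]

theorem conj_w (v : ℕ) : K.p cW * K.psi b v * (K.p cW)⁻¹ = K.psi b (lw v) := by
  obtain ⟨p1, -, p9, -⟩ := K.psi_basis P
  obtain ⟨-, m6, -, m54⟩ := K.psi_two P
  obtain ⟨wa', wa, -, -⟩ := K.swap_facts
  have hw1 := K.b_inv_w sideA P.hb
  refine K.conj_lin P (by rw [wa, p1]) (by rw [wa', m6]) ?_ ?_ v
  · rw [p9]
    calc K.p cW * (b * K.p cA' * b⁻¹) * (K.p cW)⁻¹ =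
        b * (b⁻¹ * K.p cW * b * K.p cA' * (b⁻¹ * K.p cW * b)⁻¹) * b⁻¹ := by group
      _ = _ := by rw [hw1, K.zA]
  · rw [m54]
    have hzw : b⁻¹ * z * b = z * K.p cW := by
      have e := P.hb.conj_w
      rw [← e]
      calc b⁻¹ * z * b = b⁻¹ * (b⁻¹ * K.p cW * b) * b := by rw [hw1]
        _ = (b * b)⁻¹ * K.p cW * (b * b) := by group
        _ = b * K.p cW * b⁻¹ := by
          rw [show b * b = b⁻¹ from (inv_eq_of_mul_eq_one_right (by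
            rw [← mul_assoc]; exact P.hb.cube)).symm, inv_inv]
    have hw2 : (b * b)⁻¹ * K.p cW * (b * b) = z * K.p cW := by
      rw [show (b * b)⁻¹ * K.p cW * (b * b) = b⁻¹ * (b⁻¹ * K.p cW * b) * b by group, hw1, hzw]
    calc K.p cW * (b * b * K.p cA' * (b * b)⁻¹) * (K.p cW)⁻¹ =
        b * b * ((b * b)⁻¹ * K.p cW * (b * b) * K.p cA' * ((b * b)⁻¹ * K.p cW * (b * b))⁻¹) *
          (b * b)⁻¹ := by group
      _ = b * b * (z * (K.p cW * K.p cA' * (K.p cW)⁻¹) * z⁻¹) * (b * b)⁻¹ := by rw [hw2]; group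
      _ = b * b * (z * K.p cA' * z⁻¹)⁻¹ * (b * b)⁻¹ := by rw [wa']; group
      _ = _ := by rw [K.zA]; simp only [mul_inv_rev, inv_inv, mul_assoc]

theorem psi_inj {u v : ℕ} (hu : u < 81) (hv : v < 81) (h : K.psi b u = K.psi b v) : u = v := by
  have key : ∀ {v : ℕ}, v < 81 → K.psi b v = 1 → v = 0 := by
    intro v hv h
    obtain ⟨-, c2⟩ := K.cubes P
    have hz : K.psi b (lz v) = 1 := by rw [← K.conj_z P, h]; group
    have hw : K.psi b (lw v) = 1 := by rw [← K.conj_w P, h]; group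
    have f : ∀ v < 81, vadd v (lz v) = vec (2 * dg v 0) (2 * dg v 1) 0 0 ∧
        (dg v 0 = 0 → dg v 1 = 0 → vadd v (lw v) = vec 0 0 (2 * dg v 2) 0) ∧
        (∀ i < 3, ∀ j < 3, mh (pk cA i) (pk cA' j) = 0 → i = 0 ∧ j = 0) ∧
        v = vec (dg v 0) (dg v 1) (dg v 2) (dg v 3) := by decide +kernel
    obtain ⟨f1, f2, f3, fv⟩ := f v hv
    have e1 := K.psi_add P v (lz v)
    rw [h, hz, f1, K.psi_vec P, pow_zero, pow_zero, mul_one, mul_one, mul_one] at e1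
    obtain ⟨c1, -⟩ := K.cubes P
    rw [← pow_mod3 c1, ← pow_mod3 c2] at e1
    have l : cA < 1152 ∧ cA' < 1152 := by decide +kernel
    have i1 : 2 * dg v 0 % 3 < 3 := Nat.mod_lt _ (by norm_num)
    have i2 : 2 * dg v 1 % 3 < 3 := Nat.mod_lt _ (by norm_num)
    rw [← K.p_pk l.1 i1, ← K.p_pk l.2 i2, ← K.p_mh (pk_lt l.1 i1) (pk_lt l.2 i2),
      ← K.p_zero] at e1
    obtain ⟨g0, g1⟩ := f3 _ i1 _ i2 (K.p_inj (Hyp.mh_lt (pk_lt l.1 i1) (pk_lt l.2 i2))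
      (by norm_num) e1)
    have hd : ∀ k, dg v k < 3 := fun k => Nat.mod_lt _ (by norm_num)
    have d0 : dg v 0 = 0 := by have := hd 0; omega
    have d1 : dg v 1 = 0 := by have := hd 1; omega
    have e2 := K.psi_add P v (lw v)
    rw [h, hw, f2 d0 d1, K.psi_vec P, pow_zero, pow_zero, pow_zero, mul_one, one_mul,
      conj_pow] at e2
    have pw0 : ∀ {x : G} {n : ℕ}, n < 3 → x * x * x = 1 → x ≠ 1 → x ^ (2 * n) = 1 → n = 0 := by
      intro x n hn h3 hx e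
      interval_cases n
      · rfl
      · exfalso; apply hx
        rw [show 2 * 1 = 2 from rfl, pow_two] at e
        rw [← h3, e, one_mul]
      · exfalso; apply hx
        rw [show 2 * 2 = 1 + 1 + 1 + 1 from rfl, pow_succ, pow_succ, pow_succ, pow_one, h3,
          one_mul] at e
        exact e
    have hA'1 : K.p cA' ≠ 1 := fun e => absurd (K.p_inj l.2 (by norm_num) (e.trans K.p_zero.symm))
      (by decide +kernel)
    have d2 : dg v 2 = 0 := by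
      refine pw0 (hd 2) c2 hA'1 ?_
      calc K.p cA' ^ (2 * dg v 2) = b⁻¹ * (b * K.p cA' ^ (2 * dg v 2) * b⁻¹) * b := by group
        _ = 1 := by rw [one_mul] at e2; rw [e2]; group
    have d3 : dg v 3 = 0 := by
      rw [psi, d0, d1, d2, pow_zero, pow_zero, pow_zero, one_mul, one_mul, one_mul, conj_pow] at h
      have h' : K.p cA' ^ dg v 3 = 1 := by
        calc K.p cA' ^ dg v 3 = (b * b)⁻¹ * (b * b * K.p cA' ^ dg v 3 * (b * b)⁻¹) * (b * b) := by group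
          _ = 1 := by rw [h]; group
      exact pw0 (hd 3) c2 hA'1 (by rw [pow_mul', h', one_pow])
    rw [fv, d0, d1, d2, d3]
    decide +kernel
  have f : ∀ u < 81, ∀ v < 81, vadd u (vsc 2 v) = 0 → u = v := by decide +kernel
  refine f u hu v hv (key (vadd_lt _ _) ?_)
  rw [K.psi_add P, h, ← K.psi_add P]
  have g : ∀ v < 81, vadd v (vsc 2 v) = 0 := by decide +kernel
  rw [g v hv, K.psi_zero P]

end Hyp

end Cfsg.Agent.H66.UFour
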