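import Cfsg.Agent.H66.UFour.Coord

/-!
The normalised fusing elements and their action on `T`.
-/

set_option autoImplicit false
set_option synthInstance.maxSize 4000
set_option synthInstance.maxHeartbeats 400000
set_option maxRecDepth 10000

namespace Cfsg.Agent.H66.UFour

theorem IsFus.conj {G : Type*} [Group G] {z a w d1 d2 b n : G} (h : IsFus z a w d1 d2 b)
    (hz : Commute n z) (ha : Commute n a) (hw : Commute n w) (h1 : Commute n d1)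
    (h2 : Commute n d2) : IsFus z a w d1 d2 (n * b * n⁻¹) := by
  have key : ∀ {x : G}, Commute n x → n * b * n⁻¹ * x * (n * b * n⁻¹)⁻¹ = n * (b * x * b⁻¹) * n⁻¹ :=
    fun {x} hx => by
      calc n * b * n⁻¹ * x * (n * b * n⁻¹)⁻¹ = n * b * (n⁻¹ * x * n) * b⁻¹ * n⁻¹ := by group
        _ = n * b * x * b⁻¹ * n⁻¹ := by rw [mul_assoc n⁻¹ x n, ← hx.eq, inv_mul_cancel_left]
        _ = _ := by group
  have cc : ∀ {x : G}, Commute n x → b * x = x * b → n * b * n⁻¹ * x = x * (n * b * n⁻¹) :=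
    fun {x} hx hb => by
      refine mul_inv_eq_iff_eq_mul.1 ?_
      rw [key hx, hb, mul_inv_cancel_right, hx.eq, mul_inv_cancel_right]
  refine ⟨?_, cc ha h.comm_a, cc h1 h.comm_d1, cc h2 h.comm_d2, ?_, ?_⟩
  · calc n * b * n⁻¹ * (n * b * n⁻¹) * (n * b * n⁻¹) = n * (b * b * b) * n⁻¹ := by group
      _ = 1 := by rw [h.cube]; group
  · rw [key hz, h.conj_z, hw.eq, mul_inv_cancel_right]
  · rw [key hw, h.conj_w, (hz.mul_right hw).eq, mul_inv_cancel_right]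

/-- the product `z w'` as a code -/
def cN : ℕ := mh cZ cW'

theorem coord_facts : cW' = mh cW cI ∧
    (cU < 1152 ∧ cW < 1152 ∧ cI < 1152 ∧ cA < 1152 ∧ cA' < 1152 ∧ cN < 1152 ∧ cZU < 1152) ∧
    (mh cW cA = mh cA cW ∧ mh cW cU = mh cU cW ∧ mh cW 1100 = mh 1100 cW ∧ mh cW cW = 0) ∧
    (mh cI cU = mh cU cI ∧ mh cI cI = cZ) ∧
    (mh cN cA' = mh cA' cN ∧ mh cN cW' = mh cW' cN ∧ mh cN cZU = mh cZU cN ∧
      mh cN 812 = mh 812 cN ∧ mh cN cA = mh (mh cA cA) cN) ∧ cZU = mh cZ cU ∧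
    cN = mh (mh cZ cW) cI ∧ mh cN cN = 0 := by
  decide +kernel

theorem vec_facts : ∀ v < 81,
    (lz (lw v) = v → lz v = vsc 2 v → v = 0 ∨ v = 27 ∨ v = 54) ∧
    (lw (li v) = v → lz v = vsc 2 v → v = 0 ∨ v = vec 0 0 1 2 ∨ v = vec 0 0 2 1) ∧
    (lz (lw (li v)) = v → lz v = vsc 2 v → v = 0 ∨ v = vec 0 0 1 1 ∨ v = vec 0 0 2 2) := by
  decide +kernel

namespace Hyp

variable {G : Type*} [Group G] [Finite G] {z : G} (K : Hyp z)

/-- normalised data on `T` -/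
structure Coords (T : Subgroup G) (b c : G) : Prop where
  pre : K.Pre T b
  hc : IsFus z (K.p cA') (K.p cW') (K.p cZU) (K.p 812) c
  hi : K.p cI * (b * K.p cA' * b⁻¹) * (K.p cI)⁻¹ = K.psi b 27
  hc1 : c * K.p cA * c⁻¹ = K.psi b (vec 0 0 1 2)
  hc2 : c * c * K.p cA * (c * c)⁻¹ = K.psi b (vec 0 0 1 1)

theorem com {m n : ℕ} (hm : m < 1152) (hn : n < 1152) (h : mh m n = mh n m) :
    Commute (K.p m) (K.p n) := (K.comm_iff hm hn).2 h

omit [Finite G] in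
theorem com_z (m : ℕ) : Commute (K.p m) z := K.p_comm_z m

omit [Finite G] in
theorem i_sq : K.p cI * K.p cI = z := by
  rw [← K.p_mh coord_facts.2.1.2.2.1 coord_facts.2.1.2.2.1, coord_facts.2.2.2.1.2, K.p_z]

omit [Finite G] in
theorem i_inv : (K.p cI)⁻¹ = K.p cI * z := by
  refine inv_eq_of_mul_eq_one_right ?_
  rw [← mul_assoc, K.i_sq, K.raw.z_sq]

omit [Finite G] in
theorem w'_eq : K.p cW' = K.p cW * K.p cI := by
  rw [coord_facts.1, K.p_mh coord_facts.2.1.2.1 coord_facts.2.1.2.2.1]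

omit [Finite G] in
theorem n_eq : K.p cN = z * K.p cW' := by
  have : cZ < 1152 ∧ cW' < 1152 := by decide +kernel
  rw [cN, K.p_mh this.1 this.2, K.p_z]

variable {T : Subgroup G} {b : G} (P : K.Pre T b)
include P

theorem T_comm_psi (u v : ℕ) : K.psi b u * K.psi b v = K.psi b v * K.psi b u :=
  K.T_comm P (K.psi_mem P u) (K.psi_mem P v)

theorem conj_i_pre {x : G} (hx : x ∈ T) : K.p cI * x * (K.p cI)⁻¹ ∈ T :=
  K.T_conj_i P.hT sideA hx

omit P [Finite G] in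
theorem conj_comm {g x y : G} (h : x * y = y * x) :
    g * x * g⁻¹ * (g * y * g⁻¹) = g * y * g⁻¹ * (g * x * g⁻¹) := by
  calc g * x * g⁻¹ * (g * y * g⁻¹) = g * (x * y) * g⁻¹ := by group
    _ = g * (y * x) * g⁻¹ := by rw [h]
    _ = _ := by group

theorem fix_of_comm {g : G} {f : ℕ → ℕ} (hg : ∀ v, g * K.psi b v * g⁻¹ = K.psi b (f v))
    (hf : ∀ v, f v < 81) {v : ℕ} (hv : v < 81) (h : K.psi b v * g = g * K.psi b v) : f v = v := by
  refine K.psi_inj P (hf v) hv ?_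
  rw [← hg, ← h, mul_inv_cancel_right]

theorem z_inv_x1 : z * (b * K.p cA' * b⁻¹) * z⁻¹ = (b * K.p cA' * b⁻¹)⁻¹ := by
  have h9 := (K.psi_basis P).2.2.1
  have h18 := (K.psi_two P).2.2.1
  have e : lz 9 = 18 := by decide +kernel
  rw [← h18, ← e, ← K.conj_z P, h9]

theorem i_x1 : K.p cI * (b * K.p cA' * b⁻¹) * (K.p cI)⁻¹ = K.psi b 27 ∨
    K.p cI * (b * K.p cA' * b⁻¹) * (K.p cI)⁻¹ = K.psi b 54 := by
  obtain ⟨p1, p3, p9, p27⟩ := K.psi_basis P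
  set i := K.p cI with hi
  set x1 := b * K.p cA' * b⁻¹ with hx1
  obtain ⟨v, hv, ev⟩ := K.psi_surj P (K.conj_i_pre P P.h1)
  rw [← hi, ← hx1] at ev
  have hwx : x1 * K.p cW = K.p cW * x1 := by
    rw [← P.hb.conj_z]
    exact conj_comm (K.com_z cA')
  have hfix : K.psi b v * (z * K.p cW) = z * K.p cW * K.psi b v := by
    rw [ev, ← K.i_w sideA]
    exact conj_comm hwx
  have hzw : ∀ v, z * K.p cW * K.psi b v * (z * K.p cW)⁻¹ = K.psi b (lz (lw v)) := fun v => by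
    calc z * K.p cW * K.psi b v * (z * K.p cW)⁻¹ =
        z * (K.p cW * K.psi b v * (K.p cW)⁻¹) * z⁻¹ := by group
      _ = _ := by rw [K.conj_w P, K.conj_z P]
  have f1 : lz (lw v) = v := K.fix_of_comm P hzw (fun v => lin_lt ..) hv hfix
  have f2 : lz v = vsc 2 v := by
    refine K.psi_inj P (lin_lt ..) (vsc_lt ..) ?_
    have hzi : Commute z i := (K.com_z cI).symm
    have ez : z * (i * x1 * i⁻¹) * z⁻¹ = i * (z * x1 * z⁻¹) * i⁻¹ := by
      calc z * (i * x1 * i⁻¹) * z⁻¹ = z * i * x1 * (z * i)⁻¹ := by group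
        _ = i * z * x1 * (i * z)⁻¹ := by rw [hzi.eq]
        _ = _ := by group
    have sq : K.psi b v ^ 2 = (K.psi b v)⁻¹ := by
      rw [pow_two]
      refine (inv_eq_of_mul_eq_one_left ?_).symm
      rw [ev]; exact conj_cube (conj_cube (K.cubes P).2)
    rw [← K.conj_z P, K.psi_sc P, sq, ev, ez, show z * x1 * z⁻¹ = x1⁻¹ from K.z_inv_x1 P]
    group
  rcases (vec_facts v hv).1 f1 f2 with h | h | h
  · exfalso
    rw [h, K.psi_zero P] at ev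
    have : x1 = 1 := by
      calc x1 = i⁻¹ * (i * x1 * i⁻¹) * i := by group
        _ = 1 := by rw [← ev]; group
    rw [← p9, ← K.psi_zero P] at this
    exact absurd (K.psi_inj P (by norm_num) (by norm_num) this) (by norm_num)
  · exact Or.inl (by rw [← ev, h])
  · exact Or.inr (by rw [← ev, h])

theorem exists_pre_i {c : G} (hc : IsFus z (K.p cA') (K.p cW') (K.p cZU) (K.p 812) c)
    (q1 : c * K.p cA * c⁻¹ ∈ T) (q2 : c * c * K.p cA * (c * c)⁻¹ ∈ T) :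
    ∃ b', K.Pre T b' ∧ K.p cI * (b' * K.p cA' * b'⁻¹) * (K.p cI)⁻¹ = K.psi b' 27 := by
  rcases K.i_x1 P with h | h
  · exact ⟨b, P, h⟩
  obtain ⟨p1, p3, p9, p27⟩ := K.psi_basis P
  obtain ⟨m2, m6, m18, m54⟩ := K.psi_two P
  set w := K.p cW with hw
  obtain ⟨lU, lW, lI, lA, lA', lN, lZU⟩ := coord_facts.2.1
  obtain ⟨c1, c2, c3, c4⟩ := coord_facts.2.2.1
  have hww : w * w = 1 := by rw [hw, ← K.p_mh lW lW, c4, K.p_zero]
  have hwi : w⁻¹ = w := inv_eq_of_mul_eq_one_right hww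
  have hb' : IsFus z (K.p cA) w (K.p cU) (K.p 1100) (w * b * w⁻¹) :=
    P.hb.conj (K.com_z _) (K.com lW lA c1) (Commute.refl _) (K.com lW lU c2)
      (K.com lW (by norm_num) c3)
  have ww : ∀ x : G, w⁻¹ * x * w = w * x * w⁻¹ := fun x => by
    calc w⁻¹ * x * w = w * x * w := by rw [hwi]
      _ = w * x * w⁻¹ := by rw [hwi]
  have e1 : w * b * w⁻¹ * K.p cA' * (w * b * w⁻¹)⁻¹ = K.psi b 18 := by
    calc w * b * w⁻¹ * K.p cA' * (w * b * w⁻¹)⁻¹ =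
        w * (b * (w⁻¹ * K.p cA' * w) * b⁻¹) * w⁻¹ := by group
      _ = w * (b * K.p cA' * b⁻¹)⁻¹ * w⁻¹ := by
        rw [ww, (K.swap_facts).1]; group
      _ = K.psi b 18 := by
        rw [← m18, K.conj_w P, show lw 18 = 18 by decide +kernel]
  have e2 : w * b * w⁻¹ * (w * b * w⁻¹) * K.p cA' * (w * b * w⁻¹ * (w * b * w⁻¹))⁻¹ =
      K.psi b 27 := by
    calc w * b * w⁻¹ * (w * b * w⁻¹) * K.p cA' * (w * b * w⁻¹ * (w * b * w⁻¹))⁻¹ =
        w * (b * b * (w⁻¹ * K.p cA' * w) * (b * b)⁻¹) * w⁻¹ := by group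
      _ = w * (b * b * K.p cA' * (b * b)⁻¹)⁻¹ * w⁻¹ := by
        rw [ww, (K.swap_facts).1]; simp only [mul_inv_rev, inv_inv, mul_assoc]
      _ = K.psi b 27 := by
        rw [← m54, K.conj_w P, show lw 54 = 27 by decide +kernel]
  have P' : K.Pre T (w * b * w⁻¹) :=
    ⟨P.hT, hb', e1 ▸ K.psi_mem P 18, e2 ▸ K.psi_mem P 27⟩
  refine ⟨_, P', ?_⟩
  rw [(K.psi_basis P').2.2.2, e2, e1, m18]
  calc K.p cI * (b * K.p cA' * b⁻¹)⁻¹ * (K.p cI)⁻¹ =
      (K.p cI * (b * K.p cA' * b⁻¹) * (K.p cI)⁻¹)⁻¹ := by group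
    _ = K.psi b 27 := by rw [h, m54, inv_inv, p27]

variable (hi : K.p cI * (b * K.p cA' * b⁻¹) * (K.p cI)⁻¹ = K.psi b 27)
include hi

theorem conj_i_aux (v : ℕ) : K.p cI * K.psi b v * (K.p cI)⁻¹ = K.psi b (li v) := by
  obtain ⟨p1, p3, p9, p27⟩ := K.psi_basis P
  obtain ⟨m2, m6, m18, m54⟩ := K.psi_two P
  obtain ⟨-, -, ia, ia'⟩ := K.swap_facts
  refine K.conj_lin P (by rw [m2, ia]) (by rw [m6, ia']) hi ?_ v
  rw [← p27, ← hi, m18]
  calc K.p cI * (K.p cI * (b * K.p cA' * b⁻¹) * (K.p cI)⁻¹) * (K.p cI)⁻¹ =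
      K.p cI * K.p cI * (b * K.p cA' * b⁻¹) * (K.p cI * K.p cI)⁻¹ := by group
    _ = _ := by rw [K.i_sq, K.z_inv_x1 P]

theorem conj_w' (v : ℕ) : K.p cW' * K.psi b v * (K.p cW')⁻¹ = K.psi b (lw (li v)) := by
  rw [K.w'_eq, ← K.conj_w P, ← K.conj_i_aux P hi]
  group

theorem conj_n (v : ℕ) : K.p cN * K.psi b v * (K.p cN)⁻¹ = K.psi b (lz (lw (li v))) := by
  rw [K.n_eq, ← K.conj_z P, ← K.conj_w' P hi]
  group

theorem exists_c {c : G} (hc : IsFus z (K.p cA') (K.p cW') (K.p cZU) (K.p 812) c)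
    (q1 : c * K.p cA * c⁻¹ ∈ T) (q2 : c * c * K.p cA * (c * c)⁻¹ ∈ T) :
    ∃ c', K.Coords T b c' := by
  obtain ⟨lU, lW, lI, lA, lA', lN, lZU⟩ := coord_facts.2.1
  obtain ⟨n1, n2, n3, n4, n5⟩ := coord_facts.2.2.2.2.1
  obtain ⟨c1, c2⟩ := K.cubes P
  have cw' : c⁻¹ * K.p cW' * c = z := K.b_inv_w sideB hc
  have czw : c⁻¹ * (z * K.p cW') * c = K.p cW' := K.b_inv_zw sideB hc
  have cz : c⁻¹ * z * c = K.p cN := by
    have hb3 : c * c = c⁻¹ := (inv_eq_of_mul_eq_one_right (by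
      rw [← mul_assoc]; exact hc.cube)).symm
    calc c⁻¹ * z * c = c⁻¹ * (c⁻¹ * K.p cW' * c) * c := by rw [cw']
      _ = (c * c)⁻¹ * K.p cW' * (c * c) := by group
      _ = c * K.p cW' * c⁻¹ := by rw [hb3, inv_inv]
      _ = K.p cN := by rw [hc.conj_w, K.n_eq]
  have n_inv : K.p cN * K.p cA * (K.p cN)⁻¹ = (K.p cA)⁻¹ := by
    rw [← K.p_mh lN lA, n5, K.p_mh (Hyp.mh_lt lA lA) lN, K.p_mh lA lA, mul_inv_cancel_right]
    exact (inv_eq_of_mul_eq_one_left c1).symm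
  have zinv1 : z * (c * K.p cA * c⁻¹) * z⁻¹ = (c * K.p cA * c⁻¹)⁻¹ := by
    calc z * (c * K.p cA * c⁻¹) * z⁻¹ =
        c * ((c⁻¹ * z * c) * K.p cA * (c⁻¹ * z * c)⁻¹) * c⁻¹ := by group
      _ = _ := by rw [cz, n_inv]; group
  have zinv2 : z * (c * c * K.p cA * (c * c)⁻¹) * z⁻¹ = (c * c * K.p cA * (c * c)⁻¹)⁻¹ := by
    have e : (c * c)⁻¹ * z * (c * c) = K.p cW' := by
      calc (c * c)⁻¹ * z * (c * c) = c⁻¹ * (c⁻¹ * z * c) * c := by group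
        _ = _ := by rw [cz, K.n_eq, czw]
    have w'inv : K.p cW' * K.p cA * (K.p cW')⁻¹ = (K.p cA)⁻¹ := by
      calc K.p cW' * K.p cA * (K.p cW')⁻¹ =
          z⁻¹ * (z * K.p cW' * K.p cA * (z * K.p cW')⁻¹) * z := by group
        _ = z⁻¹ * (K.p cA)⁻¹ * z := by rw [← K.n_eq, n_inv]
        _ = _ := by
          rw [mul_assoc z⁻¹, (Commute.inv_left (K.com_z cA)).eq, inv_mul_cancel_left]
    calc z * (c * c * K.p cA * (c * c)⁻¹) * z⁻¹ =
        c * c * (((c * c)⁻¹ * z * (c * c)) * K.p cA * ((c * c)⁻¹ * z * (c * c))⁻¹) * (c * c)⁻¹ := by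
          group
      _ = _ := by rw [e, w'inv]; simp only [mul_inv_rev, inv_inv, mul_assoc]
  obtain ⟨v, hv, ev⟩ := K.psi_surj P q1
  obtain ⟨u, hu, eu⟩ := K.psi_surj P q2
  have flip : ∀ {v : ℕ}, v < 81 → z * K.psi b v * z⁻¹ = (K.psi b v)⁻¹ →
      K.psi b v * K.psi b v * K.psi b v = 1 → lz v = vsc 2 v := fun {v} hv h h3 => by
    refine K.psi_inj P (lin_lt ..) (vsc_lt ..) ?_
    rw [← K.conj_z P, h, K.psi_sc P, pow_two]
    exact inv_eq_of_mul_eq_one_left h3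
  have fv1 : lw (li v) = v := by
    refine K.fix_of_comm P (K.conj_w' P hi) (fun v => lin_lt ..) hv ?_
    rw [ev, ← hc.conj_z]
    exact conj_comm (K.com_z cA)
  have fv2 : lz v = vsc 2 v :=
    flip hv (by rw [ev, zinv1]) (by rw [ev]; exact conj_cube c1)
  have hzzw : c * c * z * (c * c)⁻¹ = z * K.p cW' := by
    calc c * c * z * (c * c)⁻¹ = c * (c * z * c⁻¹) * c⁻¹ := by group
      _ = _ := by rw [hc.conj_z, hc.conj_w]
  have fu1 : lz (lw (li u)) = u := by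
    refine K.fix_of_comm P (K.conj_n P hi) (fun v => lin_lt ..) hu ?_
    rw [eu, K.n_eq, ← hzzw]
    exact conj_comm (K.com_z cA)
  have fu2 : lz u = vsc 2 u :=
    flip hu (by rw [eu, zinv2]) (by rw [eu]; exact conj_cube c1)
  have ne0 : ∀ {g : G}, g * K.p cA * g⁻¹ ≠ 1 := fun {g} h => by
    have : K.p cA = 1 := by
      calc K.p cA = g⁻¹ * (g * K.p cA * g⁻¹) * g := by group
        _ = 1 := by rw [h]; group
    rw [← (K.psi_basis P).1, ← K.psi_zero P] at this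
    exact absurd (K.psi_inj P (by norm_num) (by norm_num) this) (by norm_num)
  have hv' : v = vec 0 0 1 2 ∨ v = vec 0 0 2 1 := by
    rcases (vec_facts v hv).2.1 fv1 fv2 with h | h
    · rw [h, K.psi_zero P] at ev; exact absurd ev.symm ne0
    · exact h
  have hu' : u = vec 0 0 1 1 ∨ u = vec 0 0 2 2 := by
    rcases (vec_facts u hu).2.2 fu1 fu2 with h | h
    · rw [h, K.psi_zero P] at eu; exact absurd eu.symm ne0
    · exact h
  -- conjugating by `z` and by `z w'`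
  have zfix : z⁻¹ * K.p cA * z = K.p cA := by
    rw [mul_assoc, K.p_comm_z, inv_mul_cancel_left]
  have hz' : ∀ {c : G}, IsFus z (K.p cA') (K.p cW') (K.p cZU) (K.p 812) c →
      ∀ {p q : ℕ}, c * K.p cA * c⁻¹ = K.psi b p → c * c * K.p cA * (c * c)⁻¹ = K.psi b q →
      IsFus z (K.p cA') (K.p cW') (K.p cZU) (K.p 812) (z * c * z⁻¹) ∧
      z * c * z⁻¹ * K.p cA * (z * c * z⁻¹)⁻¹ = K.psi b (lz p) ∧
      z * c * z⁻¹ * (z * c * z⁻¹) * K.p cA * (z * c * z⁻¹ * (z * c * z⁻¹))⁻¹ = K.psi b (lz q) := by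
    intro c hc p q hp hq
    refine ⟨hc.conj (Commute.refl _) (K.com_z _).symm (K.com_z _).symm (K.com_z _).symm
      (K.com_z _).symm, ?_, ?_⟩
    · calc z * c * z⁻¹ * K.p cA * (z * c * z⁻¹)⁻¹ = z * (c * (z⁻¹ * K.p cA * z) * c⁻¹) * z⁻¹ := by
            group
        _ = _ := by rw [zfix, hp, K.conj_z P]
    · calc z * c * z⁻¹ * (z * c * z⁻¹) * K.p cA * (z * c * z⁻¹ * (z * c * z⁻¹))⁻¹ =
          z * (c * c * (z⁻¹ * K.p cA * z) * (c * c)⁻¹) * z⁻¹ := by group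
        _ = _ := by rw [zfix, hq, K.conj_z P]
  have hn' : ∀ {c : G}, IsFus z (K.p cA') (K.p cW') (K.p cZU) (K.p 812) c →
      ∀ {p q : ℕ}, c * K.p cA * c⁻¹ = K.psi b p → c * c * K.p cA * (c * c)⁻¹ = K.psi b q →
      IsFus z (K.p cA') (K.p cW') (K.p cZU) (K.p 812) (K.p cN * c * (K.p cN)⁻¹) ∧
      K.p cN * c * (K.p cN)⁻¹ * K.p cA * (K.p cN * c * (K.p cN)⁻¹)⁻¹ =
        K.psi b (lz (lw (li (vsc 2 p)))) ∧
      K.p cN * c * (K.p cN)⁻¹ * (K.p cN * c * (K.p cN)⁻¹) * K.p cA *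
        (K.p cN * c * (K.p cN)⁻¹ * (K.p cN * c * (K.p cN)⁻¹))⁻¹ =
        K.psi b (lz (lw (li (vsc 2 q)))) := by
    intro c hc p q hp hq
    have ninv' : (K.p cN)⁻¹ * K.p cA * K.p cN = K.p cA ^ 2 := by
      have : (K.p cN)⁻¹ = K.p cN := inv_eq_of_mul_eq_one_right (by
        rw [← K.p_mh lN lN, coord_facts.2.2.2.2.2.2.2, K.p_zero])
      calc (K.p cN)⁻¹ * K.p cA * K.p cN = K.p cN * K.p cA * (K.p cN)⁻¹ := by rw [this]
        _ = _ := by rw [n_inv, pow_two]; exact inv_eq_of_mul_eq_one_left c1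
    refine ⟨hc.conj (K.com_z _) (K.com lN lA' n1) (K.com lN (by decide +kernel) n2)
      (K.com lN lZU n3) (K.com lN (by norm_num) n4), ?_, ?_⟩
    · calc K.p cN * c * (K.p cN)⁻¹ * K.p cA * (K.p cN * c * (K.p cN)⁻¹)⁻¹ =
          K.p cN * (c * ((K.p cN)⁻¹ * K.p cA * K.p cN) * c⁻¹) * (K.p cN)⁻¹ := by group
        _ = _ := by rw [ninv', ← conj_pow, hp, ← K.psi_sc P, K.conj_n P hi]
    · calc K.p cN * c * (K.p cN)⁻¹ * (K.p cN * c * (K.p cN)⁻¹) * K.p cA *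
          (K.p cN * c * (K.p cN)⁻¹ * (K.p cN * c * (K.p cN)⁻¹))⁻¹ =
          K.p cN * (c * c * ((K.p cN)⁻¹ * K.p cA * K.p cN) * (c * c)⁻¹) * (K.p cN)⁻¹ := by group
        _ = _ := by rw [ninv', ← conj_pow, hq, ← K.psi_sc P, K.conj_n P hi]
  have fz : lz (vec 0 0 2 1) = vec 0 0 1 2 ∧ lz (vec 0 0 2 2) = vec 0 0 1 1 ∧
      lz (vec 0 0 1 1) = vec 0 0 2 2 ∧
      lz (lw (li (vsc 2 (vec 0 0 1 2)))) = vec 0 0 1 2 ∧
      lz (lw (li (vsc 2 (vec 0 0 2 2)))) = vec 0 0 1 1 := by decide +kernel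
  obtain ⟨z1, z2, z3, z4, z5⟩ := fz
  have step : ∀ {c : G}, IsFus z (K.p cA') (K.p cW') (K.p cZU) (K.p 812) c →
      c * K.p cA * c⁻¹ = K.psi b (vec 0 0 1 2) →
      (c * c * K.p cA * (c * c)⁻¹ = K.psi b (vec 0 0 1 1) ∨
        c * c * K.p cA * (c * c)⁻¹ = K.psi b (vec 0 0 2 2)) → ∃ c', K.Coords T b c' := by
    intro c hc h1 h2
    rcases h2 with h2 | h2
    · exact ⟨c, P, hc, hi, h1, h2⟩
    · obtain ⟨g1, g2, g3⟩ := hn' hc h1 h2
      rw [z4] at g2; rw [z5] at g3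
      exact ⟨_, P, g1, hi, g2, g3⟩
  rcases hv' with hv' | hv'
  · exact step hc (by rw [← ev, hv']) (hu'.imp (fun h => by rw [← eu, h]) (fun h => by rw [← eu, h]))
  · obtain ⟨g1, g2, g3⟩ := hz' hc ev.symm eu.symm
    rw [hv', z1] at g2
    refine step g1 g2 ?_
    rcases hu' with h | h
    · exact Or.inr (by rw [g3, h, z3])
    · exact Or.inl (by rw [g3, h, z2])

omit P hi in
theorem exists_coords : ∃ T b c, K.Coords T b c := by
  obtain ⟨T, b, c, P, hc, q1, q2⟩ := K.exists_pre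
  obtain ⟨b', P', hi⟩ := K.exists_pre_i P hc q1 q2
  obtain ⟨c', C⟩ := K.exists_c P' hi hc q1 q2
  exact ⟨T, b', c', C⟩

omit P hi in
theorem conj_i {T : Subgroup G} {b c : G} (C : K.Coords T b c) (v : ℕ) :
    K.p cI * K.psi b v * (K.p cI)⁻¹ = K.psi b (li v) := K.conj_i_aux C.pre C.hi v

omit P hi in
theorem conj_b {T : Subgroup G} {b : G} (P : K.Pre T b) (v : ℕ) :
    b * K.psi b v * b⁻¹ = K.psi b (lb v) := by
  obtain ⟨p1, p3, p9, p27⟩ := K.psi_basis P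
  refine K.conj_lin P ?_ p9.symm ?_ ?_ v
  · rw [P.hb.comm_a, mul_inv_cancel_right, p1]
  · rw [p27]; simp only [mul_inv_rev, mul_assoc]
  · rw [p3]
    calc b * (b * b * K.p cA' * (b * b)⁻¹) * b⁻¹ = b * b * b * K.p cA' * (b * b * b)⁻¹ := by group
      _ = _ := by rw [P.hb.cube]; group

omit P hi in
theorem conj_c {T : Subgroup G} {b c : G} (C : K.Coords T b c) (v : ℕ) :
    c * K.psi b v * c⁻¹ = K.psi b (lc v) := by
  have P := C.pre
  obtain ⟨p1, p3, p9, p27⟩ := K.psi_basis P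
  have ha' : c * K.p cA' * c⁻¹ = K.p cA' := by rw [C.hc.comm_a, mul_inv_cancel_right]
  have e1 : c * K.psi b (vec 0 0 1 2) * c⁻¹ = K.psi b (vec 0 0 1 1) := by
    rw [← C.hc1, ← C.hc2]; simp only [mul_inv_rev, mul_assoc]
  have e2 : c * K.psi b (vec 0 0 1 1) * c⁻¹ = K.psi b 1 := by
    rw [← C.hc2, p1]
    calc c * (c * c * K.p cA * (c * c)⁻¹) * c⁻¹ = c * c * c * K.p cA * (c * c * c)⁻¹ := by group
      _ = _ := by rw [C.hc.cube]; group
  have hmul : ∀ u v p q : ℕ, c * K.psi b u * c⁻¹ = K.psi b p → c * K.psi b v * c⁻¹ = K.psi b q →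
      c * K.psi b (vadd u v) * c⁻¹ = K.psi b (vadd p q) := fun u v p q h1 h2 => by
    rw [K.psi_add P, K.psi_add P, ← h1, ← h2]; group
  have d2 := hmul _ _ _ _ (hmul _ _ _ _ e1 e1) (hmul _ _ _ _ e2 e2)
  have d3 := hmul _ _ _ _ e1 (hmul _ _ _ _ e2 e2)
  have f : vadd (vadd (vec 0 0 1 2) (vec 0 0 1 2)) (vadd (vec 0 0 1 1) (vec 0 0 1 1)) = 9 ∧
      vadd (vadd (vec 0 0 1 1) (vec 0 0 1 1)) (vadd 1 1) = vec 2 0 2 2 ∧
      vadd (vec 0 0 1 2) (vadd (vec 0 0 1 1) (vec 0 0 1 1)) = 27 ∧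
      vadd (vec 0 0 1 1) (vadd 1 1) = vec 2 0 1 1 := by decide +kernel
  rw [f.1, f.2.1, p9] at d2
  rw [f.2.2.1, f.2.2.2, p27] at d3
  exact K.conj_lin P C.hc1 (by rw [ha', p3]) d2 d3 v

end Hyp

end Cfsg.Agent.H66.UFour
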