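import Cfsg.Agent.H66.UFour.Fusion
import Mathlib.GroupTheory.PGroup

/-!
For a conjugate `u = g z g⁻¹ ≠ z` inside `Q`, the group `C_{Q^g}(z)` meets every coset of `K`.
-/

set_option autoImplicit false

namespace Cfsg.Agent.H66.UFour

variable {G : Type*} [Group G]

/-- membership in `C_{Q^g}(z)` -/
def InB (e1 e2 : S2 →* G) (z g x : G) : Prop := x * z = z * x ∧ InQ e1 e2 (g⁻¹ * x * g)

/-- the centraliser of `z` -/
abbrev cz (z : G) : Subgroup G := Subgroup.centralizer ({z} : Set G)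

/-- `g z g⁻¹` is a conjugate of `z` in `Q` other than `z` -/
def Good (e1 e2 : S2 →* G) (z g : G) : Prop := InQ e1 e2 (g * z * g⁻¹) ∧ g * z * g⁻¹ ≠ z

namespace Raw

variable {z : G} {e1 e2 : S2 →* G} (R : Raw z e1 e2)
include R

theorem u_sq (g : G) : g * z * g⁻¹ * (g * z * g⁻¹) = 1 := by
  calc g * z * g⁻¹ * (g * z * g⁻¹) = g * (z * z) * g⁻¹ := by group
    _ = 1 := by rw [R.z_sq]; group

theorem u_ne_one (g : G) : g * z * g⁻¹ ≠ 1 := fun e => R.z_ne (by
  calc z = g⁻¹ * (g * z * g⁻¹) * g := by group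
    _ = 1 := by rw [e]; group)

theorem back_comm {g : G} (hg : Good e1 e2 z g) {x : G} (hx : x * (g * z * g⁻¹) = g * z * g⁻¹ * x) :
    g⁻¹ * x * g * z = z * (g⁻¹ * x * g) := by
  calc g⁻¹ * x * g * z = g⁻¹ * (x * (g * z * g⁻¹)) * g := by group
    _ = g⁻¹ * (g * z * g⁻¹ * x) * g := by rw [hx]
    _ = _ := by group

theorem inB_comm_u {g x : G} (hx : InB e1 e2 z g x) :
    x * (g * z * g⁻¹) = g * z * g⁻¹ * x := by
  have h := R.inQ_comm_z hx.2
  calc x * (g * z * g⁻¹) = g * (g⁻¹ * x * g * z) * g⁻¹ := by group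
    _ = g * (z * (g⁻¹ * x * g)) * g⁻¹ := by rw [h]
    _ = _ := by group

theorem sq_inQ {y : G} (hy : InQ e1 e2 y) : y * y = 1 ∨ y * y = z := by
  obtain ⟨a, ha, b, hb, qa, qb, rfl⟩ := hy
  rw [R.pp_mul ha hb ha hb]
  rcases q_sq a ha qa with h | h <;> rcases q_sq b hb qb with h' | h' <;> rw [h, h']
  · exact Or.inl R.pp_one
  · exact Or.inr R.pp_z2
  · exact Or.inr R.pp_z1
  · left
    rw [show (12 : ℕ) = sn 0 from rfl, R.pp_sn (by norm_num) (by norm_num), R.pp_one]

variable [Finite G]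

omit [Finite G] R in
theorem mem_H {x : G} : x ∈ cz z ↔ x * z = z * x := Subgroup.mem_centralizer_singleton_iff

theorem K_normal : (R.Kgrp.subgroupOf (cz z)).Normal := by
  refine ⟨fun k hk h => ?_⟩
  rw [Subgroup.mem_subgroupOf] at hk ⊢
  obtain ⟨A, B, e⟩ := hk
  have := R.conjK (h : G) (mem_H.1 h.2) A B
  rw [← e] at this
  exact this

theorem K_le : R.Kgrp ≤ cz z := fun _ hx => mem_H.2 (R.inK_comm_z hx)

theorem K_index : (R.Kgrp.subgroupOf (cz z)).index = 4 := by
  have h := (R.Kgrp.subgroupOf (cz z)).card_mul_index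
  rw [Nat.card_congr (Subgroup.subgroupOfEquivOfLe R.K_le).toEquiv, R.card_Kgrp,
    show Nat.card (cz z) = 1152 from R.card] at h
  omega

theorem quot_comm {x y : G} (hx : x * z = z * x) (hy : y * z = z * y) :
    InK e1 e2 (x * y * x⁻¹ * y⁻¹) := by
  haveI := R.K_normal
  haveI : Fact (Nat.Prime 2) := ⟨Nat.prime_two⟩
  have hc := IsPGroup.isMulCommutative_of_card_eq_prime_sq (p := 2)
    (G := cz z ⧸ R.Kgrp.subgroupOf (cz z)) (by rw [← Subgroup.index_eq_card, R.K_index]; norm_num)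
  have e : ((⟨x, mem_H.2 hx⟩ * ⟨y, mem_H.2 hy⟩ * (⟨x, mem_H.2 hx⟩ : cz z)⁻¹ *
      (⟨y, mem_H.2 hy⟩ : cz z)⁻¹ : cz z) : cz z ⧸ R.Kgrp.subgroupOf (cz z)) = 1 := by
    simp only [QuotientGroup.mk_mul, QuotientGroup.mk_inv]
    rw [Std.Commutative.comm (op := fun a b : cz z ⧸ R.Kgrp.subgroupOf (cz z) => a * b)
      ((⟨x, mem_H.2 hx⟩ : cz z) : cz z ⧸ R.Kgrp.subgroupOf (cz z))]
    group
  exact (QuotientGroup.eq_one_iff _).1 e

/-- the symmetry: `z` lies in `gQg⁻¹` -/
theorem symm {g : G} (hg : Good e1 e2 z g) : InQ e1 e2 (g⁻¹ * z * g) := by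
  obtain ⟨a, ha, b, hb, sa, sb, qa, qb, hu⟩ :=
    R.invol_codes hg.1 (R.u_sq g) (R.u_ne_one g) hg.2
  obtain ⟨a', ha', qa', -, ea, -⟩ := anticomm a ha sa
  obtain ⟨b', hb', qb', -, eb, -⟩ := anticomm b hb sb
  have hne : ∀ k < 24, sm 0 k = k ∧ sm k 0 = k := by decide +kernel
  have h1 : pp e1 e2 a 0 * (g * z * g⁻¹) = g * z * g⁻¹ * pp e1 e2 a 0 := by
    rw [hu, R.pp_com_iff ha (by norm_num) ha hb]
    simp [pcom, peq, (hne b hb).1, (hne b hb).2]
  have h2 : pp e1 e2 a' b' * (g * z * g⁻¹) = g * z * g⁻¹ * pp e1 e2 a' b' := by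
    rw [hu, R.pp_com_iff ha' hb' ha hb, pcom, peq_spec, ea, eb]
    have : ∀ k < 24, sn (sn k) = k := by decide +kernel
    right
    exact ⟨(this _ (sm_lt a' ha' a ha)).symm, (this _ (sm_lt b' hb' b hb)).symm⟩
  have hcomm : pp e1 e2 a 0 * pp e1 e2 a' b' * (pp e1 e2 a 0)⁻¹ * (pp e1 e2 a' b')⁻¹ = z := by
    have hs := sm_lt a' ha' a ha
    have h12 : sm 12 (sm a' a) = sn (sm a' a) := by
      have : ∀ k < 24, sm 12 k = sn k := by decide +kernel
      exact this _ hs
    rw [mul_inv_eq_iff_eq_mul, mul_inv_eq_iff_eq_mul, mul_assoc z,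
      R.pp_mul ha (by norm_num) ha' hb', R.pp_mul ha' hb' ha (by norm_num), (hne b' hb').1,
      (hne b' hb').2, ← R.pp_z1, R.pp_mul (by norm_num) (by norm_num) hs hb', (hne b' hb').1, h12,
      ea]
  have hK := R.quot_comm (R.back_comm hg h1) (R.back_comm hg h2)
  have e : g⁻¹ * pp e1 e2 a 0 * g * (g⁻¹ * pp e1 e2 a' b' * g) *
      (g⁻¹ * pp e1 e2 a 0 * g)⁻¹ * (g⁻¹ * pp e1 e2 a' b' * g)⁻¹ = g⁻¹ * z * g := by
    calc _ = g⁻¹ * (pp e1 e2 a 0 * pp e1 e2 a' b' * (pp e1 e2 a 0)⁻¹ * (pp e1 e2 a' b')⁻¹) * g := by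
          group
      _ = _ := by rw [hcomm]
  rw [e] at hK
  refine R.inQ_of_pow hK ?_
  calc (g⁻¹ * z * g) ^ 4 = g⁻¹ * (z * z * (z * z)) * g := by
        simp only [pow_succ, pow_zero, one_mul]; group
    _ = 1 := by rw [R.z_sq]; group

/-- `Q ∩ gQg⁻¹` consists of four elements -/
theorem four {g : G} (hg : Good e1 e2 z g) {x : G} (hx : InQ e1 e2 x)
    (hx' : InQ e1 e2 (g⁻¹ * x * g)) :
    x = 1 ∨ x = z ∨ x = g * z * g⁻¹ ∨ x = z * (g * z * g⁻¹) := by
  classical
  set u := g * z * g⁻¹ with hu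
  let S := {x : G // InQ e1 e2 x ∧ InQ e1 e2 (g⁻¹ * x * g)}
  have m1 : InQ e1 e2 (g⁻¹ * 1 * g) := by
    rw [mul_one, inv_mul_cancel]; exact R.inQ_one
  have mz : InQ e1 e2 (g⁻¹ * z * g) := R.symm hg
  have mu : InQ e1 e2 (g⁻¹ * u * g) := by
    rw [hu, show g⁻¹ * (g * z * g⁻¹) * g = z by group]; exact R.inQ_z
  have mzu : InQ e1 e2 (g⁻¹ * (z * u) * g) := by
    rw [show g⁻¹ * (z * u) * g = g⁻¹ * z * g * (g⁻¹ * u * g) by group]; exact R.inQ_mul mz mu
  let f : Fin 4 → S := ![⟨1, R.inQ_one, m1⟩, ⟨z, R.inQ_z, mz⟩, ⟨u, hg.1, mu⟩,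
    ⟨z * u, R.inQ_mul R.inQ_z hg.1, mzu⟩]
  have hu1 : u ≠ 1 := R.u_ne_one g
  have hinj : Function.Injective f := by
    intro i j h
    have hz := R.z_ne
    have hne : u ≠ z := hg.2
    have h1 : z * u ≠ 1 := fun e => hne (by rw [← R.z_inv]; exact eq_inv_of_mul_eq_one_right e)
    have h2 : z * u ≠ z := fun e => hu1 (mul_eq_left.1 e)
    have h3 : z * u ≠ u := fun e => hz (mul_eq_right.1 e)
    revert h
    fin_cases i <;> fin_cases j <;>
      simp [f, S, hz, hz.symm, hne, hne.symm, h1, h1.symm, h2, h2.symm, h3, h3.symm, hu1, hu1.symm]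
  have hbij : Function.Bijective f := by
    haveI : Finite S := Subtype.finite
    refine (Nat.bijective_iff_injective_and_card f).2 ⟨hinj, ?_⟩
    rw [Nat.card_fin]
    exact (R.inter g hg.1 hg.2).symm
  obtain ⟨i, hi⟩ := hbij.2 ⟨x, hx, hx'⟩
  have := Subtype.ext_iff.1 hi
  fin_cases i <;> simp [f] at this <;> simp [← this]

omit [Finite G] in
/-- the subgroup `C_{gQg⁻¹}(z)` -/
def Bgrp (g : G) : Subgroup G where
  carrier := {x | InB e1 e2 z g x}
  one_mem' := ⟨by simp, by simpa using R.inQ_one⟩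
  mul_mem' := by
    rintro a b ⟨ha, ha'⟩ ⟨hb, hb'⟩
    refine ⟨by rw [mul_assoc, hb, ← mul_assoc, ha, mul_assoc], ?_⟩
    rw [show g⁻¹ * (a * b) * g = g⁻¹ * a * g * (g⁻¹ * b * g) by group]
    exact R.inQ_mul ha' hb'
  inv_mem' := by
    rintro a ⟨ha, ha'⟩
    refine ⟨?_, ?_⟩
    · calc a⁻¹ * z = a⁻¹ * (z * a) * a⁻¹ := by group
        _ = a⁻¹ * (a * z) * a⁻¹ := by rw [ha]
        _ = _ := by group
    · rw [show g⁻¹ * a⁻¹ * g = (g⁻¹ * a * g)⁻¹ by group]
      exact R.inQ_inv ha'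

theorem inB_sq {g x : G} (hx : InB e1 e2 z g x) : x * x = 1 ∨ x * x = g * z * g⁻¹ := by
  rcases R.sq_inQ hx.2 with h | h
  · left
    calc x * x = g * (g⁻¹ * x * g * (g⁻¹ * x * g)) * g⁻¹ := by group
      _ = 1 := by rw [h]; group
  · right
    calc x * x = g * (g⁻¹ * x * g * (g⁻¹ * x * g)) * g⁻¹ := by group
      _ = _ := by rw [h]

/-- `B ∩ K = {1, z, u, z u}` -/
theorem inB_inK {g x : G} (hg : Good e1 e2 z g) (hx : InB e1 e2 z g x) (hK : InK e1 e2 x) :
    x = 1 ∨ x = z ∨ x = g * z * g⁻¹ ∨ x = z * (g * z * g⁻¹) := by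
  refine R.four hg (R.inQ_of_pow hK ?_) hx.2
  calc x ^ 4 = x * x * (x * x) := by simp only [pow_succ, pow_zero, one_mul, mul_assoc]
    _ = 1 := by
      rcases R.inB_sq hx with h | h <;> rw [h]
      · simp
      · exact R.u_sq g

theorem card_Bgrp {g : G} (hg : Good e1 e2 z g) : Nat.card (R.Bgrp g) = 16 := by
  classical
  set z' := g⁻¹ * z * g with hz'
  have hs : z' * z' = 1 := by
    calc z' * z' = g⁻¹ * (z * z) * g := by rw [hz']; group
      _ = 1 := by rw [R.z_sq]; group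
  have h1 : z' ≠ 1 := fun e => R.z_ne (by
    calc z = g * z' * g⁻¹ := by rw [hz']; group
      _ = 1 := by rw [e]; group)
  have hne : z' ≠ z := fun e => hg.2 (by
    calc g * z * g⁻¹ = g * z' * g⁻¹ := by rw [e]
      _ = z := by rw [hz']; group)
  obtain ⟨a, ha, b, hb, sa, sb, -, -, hzc⟩ := R.invol_codes (R.symm hg) hs h1 hne
  replace hzc : z' = pp e1 e2 a b := hzc
  have cnt := count_cent a ha sa b hb sb
  rw [cntB_eq] at cnt
  set F := (Finset.range 288).filter fun k => (isQ (Nat.div k 24) && isQ (Nat.mod k 24) &&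
    pcom (Nat.div k 24) (Nat.mod k 24) a b) = true with hF
  have hmem : ∀ k ∈ F, InB e1 e2 z g (g * pp e1 e2 (k / 24) (k % 24) * g⁻¹) := by
    intro k hk
    simp only [hF, Finset.mem_filter, Finset.mem_range, Bool.and_eq_true] at hk
    obtain ⟨hk0, ⟨qk, qk'⟩, hc⟩ := hk
    have hl : k / 24 < 24 := by omega
    have hr : k % 24 < 24 := Nat.mod_lt _ (by norm_num)
    refine ⟨?_, ?_⟩
    · have := (R.pp_com_iff hl hr ha hb).2 hc
      rw [← hzc] at this
      calc g * pp e1 e2 (k / 24) (k % 24) * g⁻¹ * z =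
          g * (pp e1 e2 (k / 24) (k % 24) * z') * g⁻¹ := by rw [hz']; group
        _ = g * (z' * pp e1 e2 (k / 24) (k % 24)) * g⁻¹ := by rw [this]
        _ = _ := by rw [hz']; group
    · rw [show g⁻¹ * (g * pp e1 e2 (k / 24) (k % 24) * g⁻¹) * g =
        pp e1 e2 (k / 24) (k % 24) by group]
      exact R.inQ_pp hl hr qk qk'
  let f : F → R.Bgrp g := fun k => ⟨_, hmem k.1 k.2⟩
  have hsn : ∀ a < 24, (a < 12 → sn a = a + 12) ∧ (12 ≤ a → sn a = a - 12) := by decide +kernel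
  have hbij : Function.Bijective f := by
    constructor
    · rintro ⟨k, hk⟩ ⟨l, hl⟩ h
      have hk' := Finset.mem_range.1 (Finset.mem_filter.1 hk).1
      have hl' := Finset.mem_range.1 (Finset.mem_filter.1 hl).1
      have h' : pp e1 e2 (k / 24) (k % 24) = pp e1 e2 (l / 24) (l % 24) := by
        simpa [f, Subtype.ext_iff] using h
      rw [R.pp_eq_iff (by omega) (Nat.mod_lt _ (by norm_num)) (by omega)
        (Nat.mod_lt _ (by norm_num)), peq_spec] at h'
      apply Subtype.ext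
      show k = l
      rcases h' with ⟨p, q⟩ | ⟨p, -⟩
      · omega
      · rw [(hsn _ (by omega)).1 (by omega)] at p; omega
    · rintro ⟨x, hx, hq⟩
      obtain ⟨c, hc, d, hd, qc, qd, e⟩ := hq
      have hcom : pp e1 e2 c d * z' = z' * pp e1 e2 c d := by
        rw [e]
        calc g⁻¹ * x * g * z' = g⁻¹ * (x * z) * g := by rw [hz']; group
          _ = g⁻¹ * (z * x) * g := by rw [hx]
          _ = _ := by rw [hz']; group
      rw [hzc] at hcom
      have hx' : x = g * pp e1 e2 c d * g⁻¹ := by rw [e]; group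
      by_cases h : c < 12
      · have hk : 24 * c + d ∈ F := by
          have p1 : Nat.div (24 * c + d) 24 = c := show (24 * c + d) / 24 = c by omega
          have p2 : Nat.mod (24 * c + d) 24 = d := show (24 * c + d) % 24 = d by omega
          simp only [hF, Finset.mem_filter, Finset.mem_range, p1, p2, qc, qd, Bool.true_and]
          exact ⟨by omega, (R.pp_com_iff hc hd ha hb).1 hcom⟩
        refine ⟨⟨_, hk⟩, Subtype.ext ?_⟩
        show g * pp e1 e2 ((24 * c + d) / 24) ((24 * c + d) % 24) * g⁻¹ = x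
        rw [show (24 * c + d) / 24 = c by omega, show (24 * c + d) % 24 = d by omega, hx']
      · have hc' := sn_lt c hc
        have hd' := sn_lt d hd
        have hlo : sn c < 12 := by rw [(hsn c hc).2 (by omega)]; omega
        rw [← R.pp_sn hc hd] at hcom hx'
        have hk : 24 * sn c + sn d ∈ F := by
          have p1 : Nat.div (24 * sn c + sn d) 24 = sn c :=
            show (24 * sn c + sn d) / 24 = sn c by omega
          have p2 : Nat.mod (24 * sn c + sn d) 24 = sn d :=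
            show (24 * sn c + sn d) % 24 = sn d by omega
          simp only [hF, Finset.mem_filter, Finset.mem_range, p1, p2,
            (q_closed c hc qc c hc qc).2.2, (q_closed d hd qd d hd qd).2.2, Bool.true_and]
          exact ⟨by omega, (R.pp_com_iff hc' hd' ha hb).1 hcom⟩
        refine ⟨⟨_, hk⟩, Subtype.ext ?_⟩
        show g * pp e1 e2 ((24 * sn c + sn d) / 24) ((24 * sn c + sn d) % 24) * g⁻¹ = x
        rw [show (24 * sn c + sn d) / 24 = sn c by omega,
          show (24 * sn c + sn d) % 24 = sn d by omega, hx']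
  rw [← Nat.card_congr (Equiv.ofBijective f hbij)]
  simpa using cnt

/-- every coset of `K` in `C(z)` meets `B` -/
theorem coset_B {g : G} (hg : Good e1 e2 z g) {h : G} (hh : h * z = z * h) :
    ∃ b, InB e1 e2 z g b ∧ InK e1 e2 (b⁻¹ * h) := by
  classical
  haveI := R.K_normal
  have hle : R.Bgrp g ≤ cz z := fun x hx => mem_H.2 hx.1
  let φ : R.Bgrp g →* cz z ⧸ R.Kgrp.subgroupOf (cz z) :=
    (QuotientGroup.mk' _).comp (Subgroup.inclusion hle)
  have hker : Nat.card φ.ker ≤ 4 := by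
    let u := g * z * g⁻¹
    let T : Finset G := {1, z, u, z * u}
    have hT : T.card ≤ 4 := Finset.card_le_four
    let f : φ.ker → T := fun x => ⟨x.1.1, by
      have hx : InK e1 e2 (x.1.1 : G) := by
        have := x.2
        simp only [φ, MonoidHom.mem_ker, MonoidHom.comp_apply, QuotientGroup.mk'_apply,
          QuotientGroup.eq_one_iff] at this
        exact this
      have := R.inB_inK hg x.1.2 hx
      simp only [T, Finset.mem_insert, Finset.mem_singleton]
      exact this⟩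
    have hf : Function.Injective f := fun x y e => by
      have e' : (x.1.1 : G) = y.1.1 := congrArg (fun t : T => (t : G)) e
      exact Subtype.ext (Subtype.ext e')
    have := Nat.card_le_card_of_injective f hf
    rw [Nat.card_eq_fintype_card (α := T), Fintype.card_coe] at this
    omega
  have hsurj : Function.Surjective φ := by
    rw [← MonoidHom.range_eq_top]
    refine Subgroup.eq_top_of_le_card _ ?_
    rw [← Subgroup.index_eq_card, R.K_index, ← Subgroup.index_ker]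
    have h2 := φ.ker.card_mul_index
    rw [R.card_Bgrp hg] at h2
    nlinarith
  obtain ⟨b, hb⟩ := hsurj (QuotientGroup.mk ⟨h, mem_H.2 hh⟩)
  refine ⟨b.1, b.2, ?_⟩
  have := QuotientGroup.eq.1 hb
  exact this

end Raw

end Cfsg.Agent.H66.UFour
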