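import Cfsg.Agent.H66.UFour.MkFrame

/-!
Of the four models only `i² = z`, `w i = z i w` occurs.
-/

set_option autoImplicit false
set_option synthInstance.maxSize 4000
set_option synthInstance.maxHeartbeats 400000

namespace Cfsg.Agent.H66.UFour

variable {G : Type*} [Group G]

/-- the code of `z` -/
def cZ : ℕ := 48

/-- the code of `u = (q, q)` -/
def cU : ℕ := 500

theorem code_Z : cZ = mk 12 0 0 0 := by decide +kernel

theorem code_U : cU = mk 5 5 0 0 := by decide +kernel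

theorem conj_five : ∀ a < 24, sm a a = 12 → ∃ k < 24, sm k a = sm 5 k := by decide +kernel

theorem code_split : ∀ x < 1152, x = mk (ca x) (cb x) (cp x) (cq x) := by decide +kernel

theorem Raw.conj_pp {z : G} {e1 e2 : S2 →* G} (R : Raw z e1 e2) {a b : ℕ} (ha : a < 24)
    (hb : b < 24) (sa : sm a a = 12) (sb : sm b b = 12) :
    ∃ h, h * z = z * h ∧ h * pp e1 e2 a b * h⁻¹ = pp e1 e2 5 5 := by
  obtain ⟨k, hk, e⟩ := conj_five a ha sa
  obtain ⟨l, hl, e'⟩ := conj_five b hb sb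
  refine ⟨pp e1 e2 k l, R.pp_comm_z _ _, ?_⟩
  rw [mul_inv_eq_iff_eq_mul, R.pp_mul hk hl ha hb, R.pp_mul (by norm_num) (by norm_num) hk hl, e, e']

namespace Frame

variable {z : G} {e f : ℕ} (F : Frame z e f)

theorem phi_Z (R : Raw z F.hom F.hom2) : F.phi cZ = z := by
  rw [code_Z, F.phi_pp (by norm_num) (by norm_num), R.pp_z1]

theorem phi_U : F.phi cU = pp F.hom F.hom2 5 5 := by
  rw [code_U, F.phi_pp (by norm_num) (by norm_num)]

/-- a `g` interchanging `z` and `u` -/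
theorem exists_swap_g [Finite G] (R : Raw z F.hom F.hom2) :
    ∃ g, Good F.hom F.hom2 z g ∧ g * z * g⁻¹ = F.phi cU ∧ g * F.phi cU * g⁻¹ = z := by
  obtain ⟨g0, h1, h2⟩ := R.nwc
  obtain ⟨a, ha, b, hb, sa, sb, -, -, hu⟩ :=
    R.invol_codes h1 (R.u_sq g0) (R.u_ne_one g0) h2
  obtain ⟨h, hh, hc⟩ := R.conj_pp ha hb sa sb
  set g1 := h * g0 with hg1
  have e1 : g1 * z * g1⁻¹ = F.phi cU := by
    rw [F.phi_U, ← hc, ← hu, hg1]; group
  have q5' := q5
  have hUQ : InQ F.hom F.hom2 (F.phi cU) := by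
    rw [F.phi_U]; exact R.inQ_pp (by norm_num) (by norm_num) q5'.1 q5'.1
  have hUz : F.phi cU ≠ z := by
    intro h
    rw [F.phi_U] at h
    have h' := (R.pp_eq_iff (by norm_num) (by norm_num) (by norm_num) (by norm_num)).1
      (h.trans R.pp_z1.symm)
    revert h'
    decide +kernel
  have hg1G : Good F.hom F.hom2 z g1 := ⟨e1 ▸ hUQ, e1 ▸ hUz⟩
  have hs : g1⁻¹ * z * g1 * (g1⁻¹ * z * g1) = 1 := by
    calc g1⁻¹ * z * g1 * (g1⁻¹ * z * g1) = g1⁻¹ * (z * z) * g1 := by group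
      _ = 1 := by rw [R.z_sq]; group
  have n1 : g1⁻¹ * z * g1 ≠ 1 := fun e => R.z_ne (by
    calc z = g1 * (g1⁻¹ * z * g1) * g1⁻¹ := by group
      _ = 1 := by rw [e]; group)
  have n2 : g1⁻¹ * z * g1 ≠ z := fun e => hg1G.2 (by
    calc g1 * z * g1⁻¹ = g1 * (g1⁻¹ * z * g1) * g1⁻¹ := by rw [e]
      _ = z := by group)
  obtain ⟨c, hc', d, hd, sc, sd, -, -, hu'⟩ := R.invol_codes (R.symm hg1G) hs n1 n2
  obtain ⟨k, hk, hkc⟩ := R.conj_pp hc' hd sc sd
  refine ⟨g1 * k⁻¹, ?_⟩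
  have e2 : g1 * k⁻¹ * z * (g1 * k⁻¹)⁻¹ = F.phi cU := by
    have hkz : k⁻¹ * z * k = z := by rw [mul_assoc, ← hk, inv_mul_cancel_left]
    calc g1 * k⁻¹ * z * (g1 * k⁻¹)⁻¹ = g1 * (k⁻¹ * z * k) * g1⁻¹ := by group
      _ = _ := by rw [hkz, e1]
  refine ⟨⟨e2 ▸ hUQ, e2 ▸ hUz⟩, e2, ?_⟩
  rw [F.phi_U, ← hkc, ← hu']
  group

theorem commute_iff [Finite G] {x y : ℕ} (hx : x < 1152) (hy : y < 1152) :
    F.phi x * F.phi y = F.phi y * F.phi x ↔ mm e f x y = mm e f y x := by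
  rw [← F.phi_mul hx hy, ← F.phi_mul hy hx]
  exact ⟨fun h => F.phi_inj (mm_lt hx hy) (mm_lt hy hx) h, fun h => by rw [h]⟩

/-- the number of square roots of `t` commuting with `u` -/
def roots (e f t : ℕ) : Finset ℕ := (Finset.range 1152).filter fun x =>
  (Nat.beq (mm e f x cU) (mm e f cU x) && Nat.beq (mm e f x x) t) = true

theorem roots_card [Finite G] (R : Raw z F.hom F.hom2) {g : G}
    (h1 : g * z * g⁻¹ = F.phi cU) (h2 : g * F.phi cU * g⁻¹ = z) :
    (roots e f cZ).card = (roots e f cU).card := by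
  have hU : cU < 1152 := by decide +kernel
  have hZ : cZ < 1152 := by decide +kernel
  have hz : ∀ {x : G}, x * z = z * x → x * F.phi cU = F.phi cU * x →
      g * x * g⁻¹ * z = z * (g * x * g⁻¹) ∧
      g * x * g⁻¹ * F.phi cU = F.phi cU * (g * x * g⁻¹) := by
    intro x a b
    constructor
    · calc g * x * g⁻¹ * z = g * x * g⁻¹ * (g * F.phi cU * g⁻¹) := by rw [h2]
        _ = g * (x * F.phi cU) * g⁻¹ := by group
        _ = g * (F.phi cU * x) * g⁻¹ := by rw [b]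
        _ = g * F.phi cU * g⁻¹ * (g * x * g⁻¹) := by group
        _ = _ := by rw [h2]
    · calc g * x * g⁻¹ * F.phi cU = g * x * g⁻¹ * (g * z * g⁻¹) := by rw [h1]
        _ = g * (x * z) * g⁻¹ := by group
        _ = g * (z * x) * g⁻¹ := by rw [a]
        _ = g * z * g⁻¹ * (g * x * g⁻¹) := by group
        _ = _ := by rw [h1]
  have mapc : ∀ (s t : ℕ), s < 1152 → t < 1152 → g * F.phi s * g⁻¹ = F.phi t →
      (roots e f s).card ≤ (roots e f t).card := by
    intro s t hs ht hst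
    classical
    have img : ∀ x ∈ roots e f s, ∃ y ∈ roots e f t, g * F.phi x * g⁻¹ = F.phi y := by
      intro x hx
      simp only [roots, Finset.mem_filter, Finset.mem_range, Bool.and_eq_true, Nat.beq_eq] at hx
      obtain ⟨hx1, hxc, hxs⟩ := hx
      obtain ⟨hc1, hc2⟩ := hz (F.phi_comm_z x) ((F.commute_iff hx1 hU).2 hxc)
      obtain ⟨y, hy, ey⟩ := F.phi_surj hc1
      refine ⟨y, ?_, ey.symm⟩
      simp only [roots, Finset.mem_filter, Finset.mem_range, Bool.and_eq_true, Nat.beq_eq]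
      refine ⟨hy, (F.commute_iff hy hU).1 (ey ▸ hc2), F.phi_inj (mm_lt hy hy) ht ?_⟩
      calc F.phi (mm e f y y) = g * F.phi x * g⁻¹ * (g * F.phi x * g⁻¹) := by
            rw [F.phi_mul hy hy, ey]
        _ = g * (F.phi x * F.phi x) * g⁻¹ := by group
        _ = g * F.phi s * g⁻¹ := by rw [← F.phi_mul hx1 hx1, hxs]
        _ = _ := hst
    choose φ hφ1 hφ2 using img
    refine Finset.card_le_card_of_injOn (fun x => if h : x ∈ roots e f s then φ x h else 0)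
      (fun x hx => ?_) (fun x hx y hy he => ?_)
    · simp only [Finset.mem_coe] at hx
      simp [hx, hφ1]
    · simp only [Finset.mem_coe] at hx hy
      simp only [hx, hy, dite_true] at he
      have := (hφ2 x hx).trans ((congrArg F.phi he).trans (hφ2 y hy).symm)
      refine F.phi_inj ?_ ?_ (mul_left_cancel (mul_right_cancel this))
      · exact Finset.mem_range.1 (Finset.mem_filter.1 hx).1
      · exact Finset.mem_range.1 (Finset.mem_filter.1 hy).1
  refine le_antisymm (mapc _ _ hZ hU ?_) (mapc _ _ hU hZ ?_)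
  · rw [F.phi_Z R, h1]
  · rw [h2, F.phi_Z R]

/-- the involutions centralising `z` and `u` in the model `(0,1)`, and the identity -/
def invL : List ℕ := [0, 1, 2, 22, 48, 49, 50, 70, 482, 500, 501, 502, 530, 548, 549, 550, 800,
  801, 812, 848, 849, 860, 1088, 1100, 1101, 1136, 1148, 1149]

/-- `C_Q(u)` -/
def qL : List ℕ := [0, 20, 48, 68, 480, 500, 528, 548, 800, 812, 848, 860, 1088, 1100, 1136, 1148]

/-- the four-group `Q ∩ Q^g` -/
def uL : List ℕ := [0, 48, 500, 548]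

/-- the elements of `C(z,u)` in the coset of `i` -/
def iL : List ℕ := [2, 22, 50, 70, 482, 502, 530, 550, 802, 814, 850, 862, 1090, 1102, 1138, 1150]

/-- the elements of `C(z,u)` in the coset of `w` -/
def wL : List ℕ := [1, 21, 49, 69, 481, 501, 529, 549, 801, 813, 849, 861, 1089, 1101, 1137, 1149]

/-- number of commuting pairs -/
def pairs (L : List ℕ) : ℕ :=
  (invL.map fun x => (L.filter fun a => Nat.beq (mm 0 1 x a) (mm 0 1 a x)).length).sum

theorem lists_ok : ∀ x < 1152, mm 0 1 x cU = mm 0 1 cU x →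
    (mm 0 1 x x = 0 → x ∈ invL) ∧ (cp x = 1 → cq x = 0 → x ∈ iL) ∧
    (cp x = 0 → cq x = 1 → x ∈ wL) ∧
    (cp x = 0 → cq x = 0 → isQ (ca x) = true → isQ (cb x) = true → x ∈ qL) := by decide +kernel

theorem lists_mem : (∀ x ∈ invL, x < 1152 ∧ mm 0 1 x cU = mm 0 1 cU x ∧ mm 0 1 x x = 0) ∧
    (∀ x ∈ qL, x < 1152 ∧ mm 0 1 x cU = mm 0 1 cU x ∧ cp x = 0 ∧ cq x = 0 ∧
      isQ (ca x) = true ∧ isQ (cb x) = true) ∧ invL.Nodup ∧ qL.Nodup := by decide +kernel

theorem pairs_ne : ∀ b0 ∈ iL, ∀ b1 ∈ wL,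
    (mm 0 1 b0 b0 = 0 ∨ mm 0 1 b0 b0 = cU) → (mm 0 1 b1 b1 = 0 ∨ mm 0 1 b1 b1 = cU) →
    (mm 0 1 (mm 0 1 b0 b1) (mm 0 1 b0 b1) = 0 ∨ mm 0 1 (mm 0 1 b0 b1) (mm 0 1 b0 b1) = cU) →
    pairs qL ≠ pairs (uL.flatMap fun p => [p, mm 0 1 p b0, mm 0 1 p b1, mm 0 1 p (mm 0 1 b0 b1)])
    := by decide +kernel

theorem root_counts : (roots 0 0 cZ).card ≠ (roots 0 0 cU).card ∧
    (roots 1 0 cZ).card ≠ (roots 1 0 cU).card := by
  have h : cntB 1152 (fun x => Nat.beq (mm 0 0 x cU) (mm 0 0 cU x) && Nat.beq (mm 0 0 x x) cZ) ≠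
      cntB 1152 (fun x => Nat.beq (mm 0 0 x cU) (mm 0 0 cU x) && Nat.beq (mm 0 0 x x) cU) ∧
      cntB 1152 (fun x => Nat.beq (mm 1 0 x cU) (mm 1 0 cU x) && Nat.beq (mm 1 0 x x) cZ) ≠
      cntB 1152 (fun x => Nat.beq (mm 1 0 x cU) (mm 1 0 cU x) && Nat.beq (mm 1 0 x x) cU) := by
    decide +kernel
  simpa only [roots, ← cntB_eq] using h

theorem pairs_card {L : List ℕ} (hL : L.Nodup) :
    pairs L = ((invL.toFinset ×ˢ L.toFinset).filter
      fun p => mm 0 1 p.1 p.2 = mm 0 1 p.2 p.1).card := by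
  classical
  rw [Finset.card_filter, Finset.sum_product]
  rw [pairs, List.sum_toFinset _ lists_mem.2.2.1]
  congr 1
  refine List.map_congr_left fun x _ => ?_
  rw [← Finset.card_filter, ← List.toFinset_card_of_nodup (hL.filter _), List.toFinset_filter]
  congr 1
  ext a
  simp [Nat.beq_eq]

end Frame

theorem no_zero_one [Finite G] {z : G} (F : Frame z 0 1) (R : Raw z F.hom F.hom2) : False := by
  classical
  obtain ⟨g, hg, h1, h2⟩ := F.exists_swap_g R
  have hU : cU < 1152 := by decide +kernel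
  have hZ : cZ < 1152 := by decide +kernel
  set u := F.phi cU with hu
  have hcu : ∀ {x : ℕ}, x < 1152 → InB F.hom F.hom2 z g (F.phi x) →
      mm 0 1 x cU = mm 0 1 cU x := by
    intro x hx hB
    refine (F.commute_iff hx hU).1 ?_
    rw [← hu, ← h1]
    exact R.inB_comm_u hB
  have hsqc : ∀ {x : ℕ}, x < 1152 → InB F.hom F.hom2 z g (F.phi x) →
      mm 0 1 x x = 0 ∨ mm 0 1 x x = cU := by
    intro x hx hB
    rcases R.inB_sq hB with h | h
    · exact Or.inl (F.phi_inj (Frame.mm_lt hx hx) (by norm_num) (by rw [F.phi_mul hx hx, h, F.phi_zero]))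
    · exact Or.inr (F.phi_inj (Frame.mm_lt hx hx) hU (by rw [F.phi_mul hx hx, h, h1]))
  have coset : ∀ {p q : ℕ}, p < 2 → q < 2 →
      ∃ b < 1152, InB F.hom F.hom2 z g (F.phi b) ∧ cp b = p ∧ cq b = q := by
    intro p q hp hq
    have hs : mk 0 0 p q < 1152 := mk_lt (by norm_num) _ _
    obtain ⟨b, hb, hK⟩ := R.coset_B hg (F.phi_comm_z (mk 0 0 p q))
    obtain ⟨n, hn, en⟩ := F.phi_surj hb.1
    obtain ⟨A, B, eK⟩ := hK
    obtain ⟨a, ha, rfl⟩ := sl_surj A
    obtain ⟨c, hc, rfl⟩ := sl_surj B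
    have e : F.phi (mk 0 0 p q) = F.phi (mm 0 1 n (mk a c 0 0)) := by
      rw [F.phi_mul hn (mk_lt hc _ _), en, F.phi_pp ha hc, pp, ← eK, mul_inv_cancel_left]
    have e' := F.phi_inj hs (Frame.mm_lt hn (mk_lt hc _ _)) e
    obtain ⟨-, -, c1, c2⟩ := Frame.mk_read (a := 0) (p := p) (q := q) (show (0 : ℕ) < 24 by norm_num)
    obtain ⟨-, -, n3, n4⟩ := Frame.code_lt hn
    obtain ⟨-, -, k1, k2⟩ := Frame.mk_read (a := a) (p := 0) (q := 0) hc
    obtain ⟨-, t2⟩ := Frame.twist_lt (p := cp n) (q := cq n)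
      (show ca (mk a c 0 0) < 24 by
        obtain ⟨k0, -, -, -⟩ := Frame.code_lt (mk_lt (a := a) hc 0 0); omega)
      (show cb (mk a c 0 0) < 24 from (Frame.code_lt (mk_lt (a := a) hc 0 0)).2.1)
    have hb2 : snk (sgn 0 1 (cp n) (cq n) (cp (mk a c 0 0))) (sm (cb n) (twist (cp n) (cq n)
        (ca (mk a c 0 0)) (cb (mk a c 0 0))).2) < 24 :=
      snk_lt _ (sm_lt _ (Frame.code_lt hn).2.1 _ t2)
    obtain ⟨-, -, m1, m2⟩ := Frame.mk_read (a := sm (ca n) (twist (cp n) (cq n)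
        (ca (mk a c 0 0)) (cb (mk a c 0 0))).1)
      (p := Nat.add (cp n) (cp (mk a c 0 0))) (q := Nat.add (cq n) (cq (mk a c 0 0))) hb2
    refine ⟨n, hn, en.symm ▸ hb, ?_, ?_⟩
    · have := congrArg cp e'
      rw [c1, show cp (mm 0 1 n (mk a c 0 0)) = _ from m1, k1] at this
      rw [Nat.mod_eq_of_lt hp] at this
      simp only [Nat.add_eq, Nat.zero_mod, add_zero, Nat.mod_eq_of_lt n3] at this
      exact this.symm
    · have := congrArg cq e'
      rw [c2, show cq (mm 0 1 n (mk a c 0 0)) = _ from m2, k2] at this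
      rw [Nat.mod_eq_of_lt hq] at this
      simp only [Nat.add_eq, Nat.zero_mod, add_zero, Nat.mod_eq_of_lt n4] at this
      exact this.symm
  obtain ⟨b0, hb0, B0, p0, q0⟩ := coset (p := 1) (q := 0) (by norm_num) (by norm_num)
  obtain ⟨b1, hb1, B1, p1, q1⟩ := coset (p := 0) (q := 1) (by norm_num) (by norm_num)
  set b2 := mm 0 1 b0 b1 with hb2
  have hb2' : b2 < 1152 := Frame.mm_lt hb0 hb1
  have B2 : InB F.hom F.hom2 z g (F.phi b2) := by
    rw [hb2, F.phi_mul hb0 hb1]; exact (R.Bgrp g).mul_mem B0 B1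
  have li := ((Frame.lists_ok b0 hb0 (hcu hb0 B0)).2.1) p0 q0
  have lw := ((Frame.lists_ok b1 hb1 (hcu hb1 B1)).2.2.1) p1 q1
  set BL := Frame.uL.flatMap fun p => [p, mm 0 1 p b0, mm 0 1 p b1, mm 0 1 p b2] with hBL
  have hne := Frame.pairs_ne b0 li b1 lw (hsqc hb0 B0) (hsqc hb1 B1) (hsqc hb2' B2)
  -- the list `BL` runs over `B`
  have hBmem : ∀ x ∈ BL, x < 1152 ∧ InB F.hom F.hom2 z g (F.phi x) := by
    have hu' : ∀ p ∈ Frame.uL, p < 1152 ∧ InB F.hom F.hom2 z g (F.phi p) := by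
      have iz : InB F.hom F.hom2 z g z := ⟨rfl, R.symm hg⟩
      have iu : InB F.hom F.hom2 z g u := ⟨F.phi_comm_z cU, by
        rw [← h1, show g⁻¹ * (g * z * g⁻¹) * g = z by group]; exact R.inQ_z⟩
      have izu := (R.Bgrp g).mul_mem iz iu
      have e548 : F.phi 548 = z * u := by
        rw [show (548 : ℕ) = mm 0 1 cZ cU by decide +kernel, F.phi_mul hZ hU, F.phi_Z R, hu]
      intro p hp
      simp only [Frame.uL, List.mem_cons, List.not_mem_nil, or_false] at hp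
      rcases hp with rfl | rfl | rfl | rfl
      · exact ⟨by norm_num, by rw [F.phi_zero]; exact (R.Bgrp g).one_mem⟩
      · exact ⟨by norm_num, by rw [show (48 : ℕ) = cZ from rfl, F.phi_Z R]; exact iz⟩
      · exact ⟨by norm_num, iu⟩
      · exact ⟨by norm_num, e548 ▸ izu⟩
    intro x hx
    simp only [hBL, List.mem_flatMap, List.mem_cons, List.not_mem_nil, or_false] at hx
    obtain ⟨p, hp, hx⟩ := hx
    obtain ⟨hp1, hp2⟩ := hu' p hp
    have step : ∀ {b : ℕ}, b < 1152 → InB F.hom F.hom2 z g (F.phi b) →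
        mm 0 1 p b < 1152 ∧ InB F.hom F.hom2 z g (F.phi (mm 0 1 p b)) := fun hb hB =>
      ⟨Frame.mm_lt hp1 hb, by rw [F.phi_mul hp1 hb]; exact (R.Bgrp g).mul_mem hp2 hB⟩
    rcases hx with rfl | rfl | rfl | rfl
    · exact ⟨hp1, hp2⟩
    · exact step hb0 B0
    · exact step hb1 B1
    · exact step hb2' B2
  have hBn : BL.Nodup := by
    have key : ∀ b0 ∈ Frame.iL, ∀ b1 ∈ Frame.wL, (Frame.uL.flatMap fun p =>
        [p, mm 0 1 p b0, mm 0 1 p b1, mm 0 1 p (mm 0 1 b0 b1)]).Nodup := by decide +kernel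
    exact key b0 li b1 lw
  have hBall : ∀ x < 1152, InB F.hom F.hom2 z g (F.phi x) → x ∈ BL := by
    intro x hx hB
    have hlen : BL.length = 16 := by simp [hBL, Frame.uL]
    let φ : BL.toFinset → R.Bgrp g := fun k =>
      ⟨F.phi k.1, (hBmem k.1 (List.mem_toFinset.1 k.2)).2⟩
    have hφ : Function.Injective φ := fun k l h => Subtype.ext (F.phi_inj
      (hBmem _ (List.mem_toFinset.1 k.2)).1 (hBmem _ (List.mem_toFinset.1 l.2)).1
      (Subtype.ext_iff.1 h))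
    have hb : Function.Bijective φ := (Nat.bijective_iff_injective_and_card φ).2 ⟨hφ, by
      rw [R.card_Bgrp hg, Nat.card_eq_fintype_card, Fintype.card_coe,
        List.toFinset_card_of_nodup hBn, hlen]⟩
    obtain ⟨k, hk⟩ := hb.2 ⟨F.phi x, hB⟩
    have := F.phi_inj (hBmem _ (List.mem_toFinset.1 k.2)).1 hx (Subtype.ext_iff.1 hk)
    exact this ▸ List.mem_toFinset.1 k.2
  -- conjugation by `g` maps the commuting pairs for `C_Q(u)` to those for `B`
  apply hne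
  rw [Frame.pairs_card Frame.lists_mem.2.2.2, Frame.pairs_card hBn]
  obtain ⟨invm, qm, -, -⟩ := Frame.lists_mem
  have img : ∀ (x : ℕ), x < 1152 → mm 0 1 x cU = mm 0 1 cU x →
      ∃ y < 1152, F.phi y = g * F.phi x * g⁻¹ ∧ mm 0 1 y cU = mm 0 1 cU y := by
    intro x hx hc
    have c1 : g * F.phi x * g⁻¹ * z = z * (g * F.phi x * g⁻¹) := by
      calc g * F.phi x * g⁻¹ * z = g * F.phi x * g⁻¹ * (g * u * g⁻¹) := by rw [h2]
        _ = g * (F.phi x * u) * g⁻¹ := by group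
        _ = g * (u * F.phi x) * g⁻¹ := by rw [hu, (F.commute_iff hx hU).2 hc]
        _ = g * u * g⁻¹ * (g * F.phi x * g⁻¹) := by group
        _ = _ := by rw [h2]
    obtain ⟨y, hy, ey⟩ := F.phi_surj c1
    refine ⟨y, hy, ey, (F.commute_iff hy hU).1 ?_⟩
    rw [ey, ← hu]
    calc g * F.phi x * g⁻¹ * u = g * (F.phi x * z) * g⁻¹ := by
          nth_rewrite 1 [← h1]; group
      _ = g * (z * F.phi x) * g⁻¹ := by rw [F.phi_comm_z]
      _ = g * z * g⁻¹ * (g * F.phi x * g⁻¹) := by group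
      _ = _ := by rw [h1]
  have bak : ∀ (y : ℕ), y < 1152 → mm 0 1 y cU = mm 0 1 cU y →
      ∃ x < 1152, g⁻¹ * F.phi y * g = F.phi x ∧ mm 0 1 x cU = mm 0 1 cU x := by
    intro y hy hc
    have c1 : g⁻¹ * F.phi y * g * z = z * (g⁻¹ * F.phi y * g) := by
      calc g⁻¹ * F.phi y * g * z = g⁻¹ * (F.phi y * u) * g := by rw [← h1]; group
        _ = g⁻¹ * (u * F.phi y) * g := by rw [hu, (F.commute_iff hy hU).2 hc]
        _ = _ := by rw [← h1]; group
    obtain ⟨x, hx, ex⟩ := F.phi_surj c1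
    refine ⟨x, hx, ex.symm, (F.commute_iff hx hU).1 ?_⟩
    rw [ex, ← hu]
    calc g⁻¹ * F.phi y * g * u = g⁻¹ * (F.phi y * (g * u * g⁻¹)) * g := by group
      _ = g⁻¹ * (g * u * g⁻¹ * F.phi y) * g := by rw [h2, F.phi_comm_z]
      _ = _ := by group
  choose! σ hσ1 hσ2 hσ3 using img
  refine Finset.card_bij (fun p _ => (σ p.1, σ p.2)) ?_ ?_ ?_
  · rintro ⟨x, a⟩ hp
    simp only [Finset.mem_filter, Finset.mem_product, List.mem_toFinset] at hp ⊢
    obtain ⟨⟨hx, ha⟩, hc⟩ := hp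
    obtain ⟨x1, x2, x3⟩ := invm x hx
    obtain ⟨a1, a2, ap, aq, qa, qb⟩ := qm a ha
    refine ⟨⟨?_, ?_⟩, ?_⟩
    · refine (Frame.lists_ok _ (hσ1 x x1 x2) (hσ3 x x1 x2)).1 (F.phi_inj
        (Frame.mm_lt (hσ1 x x1 x2) (hσ1 x x1 x2)) (by norm_num) ?_)
      rw [F.phi_mul (hσ1 x x1 x2) (hσ1 x x1 x2), hσ2 x x1 x2, F.phi_zero]
      calc g * F.phi x * g⁻¹ * (g * F.phi x * g⁻¹) = g * (F.phi x * F.phi x) * g⁻¹ := by group
        _ = 1 := by rw [← F.phi_mul x1 x1, x3, F.phi_zero]; group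
    · refine hBall _ (hσ1 a a1 a2) ⟨F.phi_comm_z _, ?_⟩
      rw [hσ2 a a1 a2, show g⁻¹ * (g * F.phi a * g⁻¹) * g = F.phi a by group,
        code_split a a1, ap, aq, F.phi_pp (by have := (Frame.code_lt a1).1; omega)
          (Frame.code_lt a1).2.1]
      exact R.inQ_pp (by have := (Frame.code_lt a1).1; omega) (Frame.code_lt a1).2.1 qa qb
    · refine (F.commute_iff (hσ1 x x1 x2) (hσ1 a a1 a2)).1 ?_
      rw [hσ2 x x1 x2, hσ2 a a1 a2]
      calc g * F.phi x * g⁻¹ * (g * F.phi a * g⁻¹) = g * (F.phi x * F.phi a) * g⁻¹ := by group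
        _ = g * (F.phi a * F.phi x) * g⁻¹ := by rw [(F.commute_iff x1 a1).2 hc]
        _ = _ := by group
  · rintro ⟨x, a⟩ hp ⟨x', a'⟩ hp' he
    simp only [Finset.mem_filter, Finset.mem_product, List.mem_toFinset] at hp hp'
    obtain ⟨x1, x2, -⟩ := invm x hp.1.1
    obtain ⟨a1, a2, -⟩ := qm a hp.1.2
    obtain ⟨x1', x2', -⟩ := invm x' hp'.1.1
    obtain ⟨a1', a2', -⟩ := qm a' hp'.1.2
    simp only [Prod.mk.injEq] at he
    have k1 := (hσ2 x x1 x2).symm.trans ((congrArg F.phi he.1).trans (hσ2 x' x1' x2'))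
    have k2 := (hσ2 a a1 a2).symm.trans ((congrArg F.phi he.2).trans (hσ2 a' a1' a2'))
    exact Prod.ext (F.phi_inj x1 x1' (mul_left_cancel (mul_right_cancel k1)))
      (F.phi_inj a1 a1' (mul_left_cancel (mul_right_cancel k2)))
  · rintro ⟨y, b⟩ hp
    simp only [Finset.mem_filter, Finset.mem_product, List.mem_toFinset] at hp
    obtain ⟨⟨hy, hb⟩, hc⟩ := hp
    obtain ⟨y1, y2, y3⟩ := invm y hy
    obtain ⟨hb1', hbB⟩ := hBmem b hb
    obtain ⟨x, x1, x2, x3⟩ := bak y y1 y2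
    obtain ⟨a, a1, a2, a3⟩ := bak b hb1' (hcu hb1' hbB)
    have sx : σ x = y := F.phi_inj (hσ1 x x1 x3) y1 (by rw [hσ2 x x1 x3, ← x2]; group)
    have sa : σ a = b := F.phi_inj (hσ1 a a1 a3) hb1' (by rw [hσ2 a a1 a3, ← a2]; group)
    refine ⟨(x, a), ?_, by rw [sx, sa]⟩
    simp only [Finset.mem_filter, Finset.mem_product, List.mem_toFinset]
    refine ⟨⟨(Frame.lists_ok x x1 x3).1 (F.phi_inj (Frame.mm_lt x1 x1) (by norm_num) ?_), ?_⟩, ?_⟩
    · rw [F.phi_mul x1 x1, ← x2, F.phi_zero]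
      calc g⁻¹ * F.phi y * g * (g⁻¹ * F.phi y * g) = g⁻¹ * (F.phi y * F.phi y) * g := by group
        _ = 1 := by rw [← F.phi_mul y1 y1, y3, F.phi_zero]; group
    · obtain ⟨c, hc', d, hd, qc, qd, ec⟩ := hbB.2
      have haQ : F.phi a = F.phi (mk c d 0 0) := by rw [F.phi_pp hc' hd, ec, a2]
      have haeq := F.phi_inj a1 (mk_lt hd _ _) haQ
      subst haeq
      obtain ⟨r1, r2, r3, r4⟩ := Frame.mk_read (a := c) (p := 0) (q := 0) hd
      refine (Frame.lists_ok _ a1 a3).2.2.2 r3 r4 ?_ ?_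
      · rw [r1]; exact (show ∀ k < 24, isQ k = true → isQ (k % 12) = true by decide +kernel) c hc' qc
      · rw [r2]; cases Nat.blt c 12
        · exact (q_closed d hd qd d hd qd).2.2
        · exact qd
    · refine (F.commute_iff x1 a1).1 ?_
      rw [← x2, ← a2]
      calc g⁻¹ * F.phi y * g * (g⁻¹ * F.phi b * g) = g⁻¹ * (F.phi y * F.phi b) * g := by group
        _ = g⁻¹ * (F.phi b * F.phi y) * g := by rw [(F.commute_iff y1 hb1').2 hc]
        _ = _ := by group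

/-- the model is determined -/
theorem Raw.exists_good_frame [Finite G] {z : G} {e1 e2 : S2 →* G} (R : Raw z e1 e2) :
    ∃ F : Frame z 1 1, Raw z F.hom F.hom2 := by
  obtain ⟨e, he, f, hf, F, RF⟩ := R.exists_frame
  obtain ⟨g, -, h1, h2⟩ := F.exists_swap_g RF
  have hroots := F.roots_card RF h1 h2
  interval_cases e <;> interval_cases f
  · exact absurd hroots Frame.root_counts.1
  · exact (no_zero_one F RF).elim
  · exact absurd hroots Frame.root_counts.2
  · exact ⟨F, RF⟩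

/-- the good frame can be taken on the first homomorphism -/
theorem Raw.exists_good_frame_hom [Finite G] {z : G} {e1 e2 : S2 →* G} (R : Raw z e1 e2) :
    ∃ F : Frame z 1 1, Raw z F.hom F.hom2 ∧ F.hom = e1 := by
  obtain ⟨e, he, f, hf, F, RF, eF⟩ := R.exists_frame_hom
  obtain ⟨g, -, h1, h2⟩ := F.exists_swap_g RF
  have hroots := F.roots_card RF h1 h2
  interval_cases e <;> interval_cases f
  · exact absurd hroots Frame.root_counts.1
  · exact (no_zero_one F RF).elim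
  · exact absurd hroots Frame.root_counts.2
  · exact ⟨F, RF, eF⟩

end Cfsg.Agent.H66.UFour
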