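import Cfsg.Agent.H66.UFour.Raw

/-!
The involution centraliser permutes the two factors.
-/

set_option autoImplicit false

namespace Cfsg.Agent.H66.UFour

variable {G : Type*} [Group G]

/-- `h` conjugates the range of `f` into that of `g` -/
def Into (f g : S2 →* G) (h : G) : Prop := ∀ A, ∃ B, h * f A * h⁻¹ = g B

/-- `h` fixes both factors -/
def Fix (e1 e2 : S2 →* G) (h : G) : Prop := Into e1 e1 h ∧ Into e2 e2 h

/-- `h` interchanges the factors -/
def Swp (e1 e2 : S2 →* G) (h : G) : Prop := Into e1 e2 h ∧ Into e2 e1 h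

theorem Into.mul {f g k : S2 →* G} {x y : G} (hx : Into g k x) (hy : Into f g y) :
    Into f k (x * y) := fun A => by
  obtain ⟨B, hB⟩ := hy A
  obtain ⟨C, hC⟩ := hx B
  exact ⟨C, by rw [← hC, ← hB]; group⟩

theorem Swp.mul {e1 e2 : S2 →* G} {x y : G} (hx : Swp e1 e2 x) (hy : Swp e1 e2 y) :
    Fix e1 e2 (x * y) :=
  ⟨hx.2.mul hy.1, hx.1.mul hy.2⟩

theorem Fix.mul {e1 e2 : S2 →* G} {x y : G} (hx : Fix e1 e2 x) (hy : Fix e1 e2 y) :
    Fix e1 e2 (x * y) :=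
  ⟨hx.1.mul hy.1, hx.2.mul hy.2⟩

theorem Fix.mul_swp {e1 e2 : S2 →* G} {x y : G} (hx : Fix e1 e2 x) (hy : Swp e1 e2 y) :
    Swp e1 e2 (x * y) :=
  ⟨hx.2.mul hy.1, hx.1.mul hy.2⟩

theorem Swp.mul_fix {e1 e2 : S2 →* G} {x y : G} (hx : Swp e1 e2 x) (hy : Fix e1 e2 y) :
    Swp e1 e2 (x * y) :=
  ⟨hx.1.mul hy.1, hx.2.mul hy.2⟩

namespace Raw

variable {z : G} {e1 e2 : S2 →* G} (R : Raw z e1 e2)
include R

theorem fix_pp {a b : ℕ} : Fix e1 e2 (pp e1 e2 a b) := by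
  refine ⟨fun A => ⟨sl a * A * (sl a)⁻¹, ?_⟩, fun B => ⟨sl b * B * (sl b)⁻¹, ?_⟩⟩
  · rw [map_mul, map_mul, map_inv, pp]
    calc e1 (sl a) * e2 (sl b) * e1 A * (e1 (sl a) * e2 (sl b))⁻¹ =
        e1 (sl a) * (e2 (sl b) * e1 A) * (e2 (sl b))⁻¹ * (e1 (sl a))⁻¹ := by group
      _ = e1 (sl a) * (e1 A * e2 (sl b)) * (e2 (sl b))⁻¹ * (e1 (sl a))⁻¹ := by rw [R.comm]
      _ = _ := by group
  · rw [map_mul, map_mul, map_inv, pp, mul_inv_rev]
    calc e1 (sl a) * e2 (sl b) * e2 B * ((e2 (sl b))⁻¹ * (e1 (sl a))⁻¹) =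
        e1 (sl a) * (e2 (sl b) * e2 B * (e2 (sl b))⁻¹) * (e1 (sl a))⁻¹ := by group
      _ = (e2 (sl b) * e2 B * (e2 (sl b))⁻¹) * e1 (sl a) * (e1 (sl a))⁻¹ := by
        rw [← map_inv, ← map_mul, ← map_mul, R.comm]
      _ = _ := by group

theorem e1_sq_five : e1 (sl 5) * e1 (sl 5) = z ∧ e2 (sl 5) * e2 (sl 5) = z ∧
    e1 (sl 8) * e1 (sl 8) = z ∧ e2 (sl 8) * e2 (sl 8) = z := by
  obtain ⟨-, -, -, h5, h8⟩ := q5
  refine ⟨?_, ?_, ?_, ?_⟩ <;>
  first
  | rw [← map_mul, ← sl_mul (by norm_num) (by norm_num), h5, sl_twelve, R.neg1]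
  | rw [← map_mul, ← sl_mul (by norm_num) (by norm_num), h5, sl_twelve, R.neg2]
  | rw [← map_mul, ← sl_mul (by norm_num) (by norm_num), h8, sl_twelve, R.neg1]
  | rw [← map_mul, ← sl_mul (by norm_num) (by norm_num), h8, sl_twelve, R.neg2]

/-- an element of order four of the central product lies in one of the factors -/
theorem one_factor {x : G} (hx : InQ e1 e2 x) (hsq : x * x = z) :
    (∃ a < 24, isQ a = true ∧ x = e1 (sl a)) ∨ ∃ a < 24, isQ a = true ∧ x = e2 (sl a) := by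
  obtain ⟨a, ha, b, hb, qa, qb, rfl⟩ := hx
  rw [R.pp_mul ha hb ha hb, ← R.pp_z1,
    R.pp_eq_iff (sm_lt a ha a ha) (sm_lt b hb b hb) (by norm_num) (by norm_num)] at hsq
  rcases pair_sq_z a ha qa b hb qb hsq with (rfl | rfl) | (rfl | rfl)
  · exact Or.inr ⟨b, hb, qb, R.pp_second⟩
  · refine Or.inr ⟨sn b, sn_lt b hb, (q_closed b hb qb b hb qb).2.2, ?_⟩
    rw [← R.pp_second, ← R.pp_sn ha hb]
    rfl
  · exact Or.inl ⟨a, ha, qa, R.pp_first⟩
  · refine Or.inl ⟨sn a, sn_lt a ha, (q_closed a ha qa a ha qa).2.2, ?_⟩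
    rw [← R.pp_first, ← R.pp_sn ha hb]
    rfl

theorem permute {h : G} (hh : h * z = z * h) : Fix e1 e2 h ∨ Swp e1 e2 h := by
  obtain ⟨s5, t5, s8, t8⟩ := R.e1_sq_five
  obtain ⟨q5', q8', hne, -, -⟩ := q5
  have conj_sq : ∀ x : G, x * x = z → (h * x * h⁻¹) * (h * x * h⁻¹) = z := by
    intro x hx
    calc h * x * h⁻¹ * (h * x * h⁻¹) = h * (x * x) * h⁻¹ := by group
      _ = h * z * h⁻¹ := by rw [hx]
      _ = z := by rw [hh]; group
  have img1 : ∀ a, a < 24 → isQ a = true → e1 (sl a) * e1 (sl a) = z →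
      (∃ b < 24, isQ b = true ∧ h * e1 (sl a) * h⁻¹ = e1 (sl b)) ∨
        ∃ b < 24, isQ b = true ∧ h * e1 (sl a) * h⁻¹ = e2 (sl b) := by
    intro a ha qa hs
    refine R.one_factor (R.conjQ h hh _ ?_) (conj_sq _ hs)
    exact ⟨a, ha, 0, by norm_num, qa, rfl, R.pp_first⟩
  have img2 : ∀ a, a < 24 → isQ a = true → e2 (sl a) * e2 (sl a) = z →
      (∃ b < 24, isQ b = true ∧ h * e2 (sl a) * h⁻¹ = e1 (sl b)) ∨
        ∃ b < 24, isQ b = true ∧ h * e2 (sl a) * h⁻¹ = e2 (sl b) := by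
    intro a ha qa hs
    refine R.one_factor (R.conjQ h hh _ ?_) (conj_sq _ hs)
    exact ⟨0, by norm_num, a, ha, rfl, qa, R.pp_second⟩
  have ne1 : e1 (sl 5) * e1 (sl 8) ≠ e1 (sl 8) * e1 (sl 5) := by
    rw [← map_mul, ← map_mul, ← sl_mul (by norm_num) (by norm_num),
      ← sl_mul (by norm_num) (by norm_num)]
    exact fun e => hne (sl_inj (sm_lt _ (by norm_num) _ (by norm_num))
      (sm_lt _ (by norm_num) _ (by norm_num)) (R.inj1 e))
  have ne2 : e2 (sl 5) * e2 (sl 8) ≠ e2 (sl 8) * e2 (sl 5) := by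
    rw [← map_mul, ← map_mul, ← sl_mul (by norm_num) (by norm_num),
      ← sl_mul (by norm_num) (by norm_num)]
    exact fun e => hne (sl_inj (sm_lt _ (by norm_num) _ (by norm_num))
      (sm_lt _ (by norm_num) _ (by norm_num)) (R.inj2 e))
  -- two images in one factor determine where the whole factor goes
  have same : ∀ (f : S2 →* G), f (sl 5) * f (sl 8) ≠ f (sl 8) * f (sl 5) →
      ((∃ b < 24, isQ b = true ∧ h * f (sl 5) * h⁻¹ = e1 (sl b)) ∨
        ∃ b < 24, isQ b = true ∧ h * f (sl 5) * h⁻¹ = e2 (sl b)) →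
      ((∃ b < 24, isQ b = true ∧ h * f (sl 8) * h⁻¹ = e1 (sl b)) ∨
        ∃ b < 24, isQ b = true ∧ h * f (sl 8) * h⁻¹ = e2 (sl b)) →
      ∃ a < 24, isQ a = true ∧ ∃ c < 24, isQ c = true ∧ sm a c ≠ sm c a ∧
        ((h * f (sl 5) * h⁻¹ = e1 (sl a) ∧ h * f (sl 8) * h⁻¹ = e1 (sl c)) ∨
          (h * f (sl 5) * h⁻¹ = e2 (sl a) ∧ h * f (sl 8) * h⁻¹ = e2 (sl c))) := by
    intro f hf h5 h8
    have hne' : h * f (sl 5) * h⁻¹ * (h * f (sl 8) * h⁻¹) ≠
        h * f (sl 8) * h⁻¹ * (h * f (sl 5) * h⁻¹) := by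
      intro e
      apply hf
      calc f (sl 5) * f (sl 8) = h⁻¹ * (h * f (sl 5) * h⁻¹ * (h * f (sl 8) * h⁻¹)) * h := by group
        _ = _ := by rw [e]; group
    rcases h5 with ⟨a, ha, qa, ea⟩ | ⟨a, ha, qa, ea⟩ <;>
      rcases h8 with ⟨c, hc, qc, ec⟩ | ⟨c, hc, qc, ec⟩ <;> rw [ea, ec] at hne'
    · exact ⟨a, ha, qa, c, hc, qc, fun e => hne' (by
        rw [← map_mul, ← map_mul, ← sl_mul ha hc, ← sl_mul hc ha, e]), Or.inl ⟨ea, ec⟩⟩
    · exact absurd (R.comm _ _) hne'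
    · exact absurd (R.comm _ _).symm hne'
    · exact ⟨a, ha, qa, c, hc, qc, fun e => hne' (by
        rw [← map_mul, ← map_mul, ← sl_mul ha hc, ← sl_mul hc ha, e]), Or.inr ⟨ea, ec⟩⟩
  obtain ⟨a, ha, qa, c, hc, qc, hac, hf1⟩ := same e1 ne1 (img1 5 (by norm_num) q5' s5)
    (img1 8 (by norm_num) q8' s8)
  obtain ⟨a', ha', qa', c', hc', qc', hac', hf2⟩ := same e2 ne2 (img2 5 (by norm_num) q5' t5)
    (img2 8 (by norm_num) q8' t8)
  -- the images of the two factors commute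
  have cm : ∀ (A B : S2), h * e1 A * h⁻¹ * (h * e2 B * h⁻¹) = h * e2 B * h⁻¹ * (h * e1 A * h⁻¹) :=
    fun A B => by
      calc h * e1 A * h⁻¹ * (h * e2 B * h⁻¹) = h * (e1 A * e2 B) * h⁻¹ := by group
        _ = h * (e2 B * e1 A) * h⁻¹ := by rw [R.comm]
        _ = _ := by group
  -- something commuting with two elements in one factor lies in the other
  have other : ∀ {x : G} {C D : S2}, x = e1 C * e2 D → ∀ {a c : ℕ}, a < 24 → isQ a = true →
      c < 24 → isQ c = true → sm a c ≠ sm c a →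
      (x * e2 (sl a) = e2 (sl a) * x → x * e2 (sl c) = e2 (sl c) * x → ∃ B, x = e1 B) ∧
      (x * e1 (sl a) = e1 (sl a) * x → x * e1 (sl c) = e1 (sl c) * x → ∃ B, x = e2 B) := by
    intro x C D hx a c ha qa hc qc hac
    obtain ⟨m, hm, rfl⟩ := sl_surj C
    obtain ⟨n, hn, rfl⟩ := sl_surj D
    constructor <;> intro e e'
    · have k : ∀ {k : ℕ}, k < 24 → x * e2 (sl k) = e2 (sl k) * x → sm n k = sm k n := by
        intro k hk he
        rw [hx, mul_assoc, ← mul_assoc (e2 (sl k)), ← R.comm (sl m) (sl k), mul_assoc,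
          mul_left_cancel_iff, ← map_mul, ← map_mul, ← sl_mul hn hk, ← sl_mul hk hn] at he
        exact sl_inj (sm_lt n hn k hk) (sm_lt k hk n hn) (R.inj2 he)
      rcases commute_two a ha qa c hc qc hac n hn (k ha e) (k hc e') with rfl | rfl
      · exact ⟨sl m, by rw [hx, sl_zero, map_one, mul_one]⟩
      · exact ⟨sl m * -1, by rw [hx, sl_twelve, R.neg2, map_mul, R.neg1]⟩
    · have k : ∀ {k : ℕ}, k < 24 → x * e1 (sl k) = e1 (sl k) * x → sm m k = sm k m := by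
        intro k hk he
        rw [hx, mul_assoc, ← R.comm (sl k) (sl n), ← mul_assoc, ← mul_assoc,
          mul_right_cancel_iff, ← map_mul, ← map_mul, ← sl_mul hm hk, ← sl_mul hk hm] at he
        exact sl_inj (sm_lt m hm k hk) (sm_lt k hk m hm) (R.inj1 he)
      rcases commute_two a ha qa c hc qc hac m hm (k ha e) (k hc e') with rfl | rfl
      · exact ⟨sl n, by rw [hx, sl_zero, map_one, one_mul]⟩
      · exact ⟨-1 * sl n, by rw [hx, sl_twelve, R.neg1, map_mul, R.neg2]⟩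
  have c1 := fun A => cm A (sl 5)
  have c1' := fun A => cm A (sl 8)
  have c2 := fun B => cm (sl 5) B
  have c2' := fun B => cm (sl 8) B
  have dec1 : ∀ A, ∃ C D, h * e1 A * h⁻¹ = e1 C * e2 D := fun A => by
    simpa using R.conjK h hh A 1
  have dec2 : ∀ B, ∃ C D, h * e2 B * h⁻¹ = e1 C * e2 D := fun B => by
    simpa using R.conjK h hh 1 B
  rcases hf1 with ⟨u5, u8⟩ | ⟨u5, u8⟩ <;> rcases hf2 with ⟨v5, v8⟩ | ⟨v5, v8⟩
  · exfalso
    have p5 := cm (sl 5) (sl 5)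
    have p8 := cm (sl 8) (sl 5)
    rw [u5, v5, ← map_mul, ← map_mul, ← sl_mul ha ha', ← sl_mul ha' ha] at p5
    rw [u8, v5, ← map_mul, ← map_mul, ← sl_mul hc ha', ← sl_mul ha' hc] at p8
    have e5 := sl_inj (sm_lt a ha a' ha') (sm_lt a' ha' a ha) (R.inj1 p5)
    have e8 := sl_inj (sm_lt c hc a' ha') (sm_lt a' ha' c hc) (R.inj1 p8)
    rcases commute_two a ha qa c hc qc hac a' ha' e5.symm e8.symm with rfl | rfl
    · exact hac' (by have : ∀ k < 24, sm 0 k = sm k 0 := by decide +kernel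
                     exact this c' hc')
    · exact hac' (by have : ∀ k < 24, sm 12 k = sm k 12 := by decide +kernel
                     exact this c' hc')
  · left
    refine ⟨fun A => ?_, fun B => ?_⟩
    · obtain ⟨C, D, e⟩ := dec1 A
      have p := c1 A; have p' := c1' A
      rw [v5] at p; rw [v8] at p'
      exact (other e ha' qa' hc' qc' hac').1 p p'
    · obtain ⟨C, D, e⟩ := dec2 B
      have p := (c2 B).symm; have p' := (c2' B).symm
      rw [u5] at p; rw [u8] at p'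
      exact (other e ha qa hc qc hac).2 p p'
  · right
    refine ⟨fun A => ?_, fun B => ?_⟩
    · obtain ⟨C, D, e⟩ := dec1 A
      have p := c1 A; have p' := c1' A
      rw [v5] at p; rw [v8] at p'
      exact (other e ha' qa' hc' qc' hac').2 p p'
    · obtain ⟨C, D, e⟩ := dec2 B
      have p := (c2 B).symm; have p' := (c2' B).symm
      rw [u5] at p; rw [u8] at p'
      exact (other e ha qa hc qc hac).1 p p'
  · exfalso
    have p5 := cm (sl 5) (sl 5)
    have p8 := cm (sl 8) (sl 5)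
    rw [u5, v5, ← map_mul, ← map_mul, ← sl_mul ha ha', ← sl_mul ha' ha] at p5
    rw [u8, v5, ← map_mul, ← map_mul, ← sl_mul hc ha', ← sl_mul ha' hc] at p8
    have e5 := sl_inj (sm_lt a ha a' ha') (sm_lt a' ha' a ha) (R.inj2 p5)
    have e8 := sl_inj (sm_lt c hc a' ha') (sm_lt a' ha' c hc) (R.inj2 p8)
    rcases commute_two a ha qa c hc qc hac a' ha' e5.symm e8.symm with rfl | rfl
    · exact hac' (by have : ∀ k < 24, sm 0 k = sm k 0 := by decide +kernel
                     exact this c' hc')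
    · exact hac' (by have : ∀ k < 24, sm 12 k = sm k 12 := by decide +kernel
                     exact this c' hc')

theorem not_fix_and_swp {h : G} (hf : Fix e1 e2 h) : ¬Swp e1 e2 h := by
  intro hs
  obtain ⟨B, hB⟩ := hf.1 (sl 5)
  obtain ⟨C, hC⟩ := hs.1 (sl 5)
  have e : e1 B = e2 C := hB.symm.trans hC
  have hone : ∀ D : S2, D = 1 ∨ D = -1 → h * e1 (sl 5) * h⁻¹ = e1 D → False := by
    intro D hD hDe
    have : e1 (sl 5) = 1 ∨ e1 (sl 5) = h⁻¹ * z * h := by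
      rcases hD with rfl | rfl
      · left
        calc e1 (sl 5) = h⁻¹ * (h * e1 (sl 5) * h⁻¹) * h := by group
          _ = 1 := by rw [hDe, map_one]; group
      · right
        calc e1 (sl 5) = h⁻¹ * (h * e1 (sl 5) * h⁻¹) * h := by group
          _ = _ := by rw [hDe, R.neg1]
    have hs5 := R.e1_sq_five.1
    rcases this with h1 | h1
    · rw [h1, one_mul] at hs5; exact R.z_ne hs5.symm
    · rw [h1] at hs5
      have : h⁻¹ * z * h * (h⁻¹ * z * h) = 1 := by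
        calc h⁻¹ * z * h * (h⁻¹ * z * h) = h⁻¹ * (z * z) * h := by group
          _ = 1 := by rw [R.z_sq]; group
      exact R.z_ne (hs5.symm.trans this)
  rcases R.meet _ _ e with ⟨rfl, -⟩ | ⟨rfl, -⟩
  · exact hone 1 (Or.inl rfl) hB
  · exact hone (-1) (Or.inr rfl) hB

end Raw

end Cfsg.Agent.H66.UFour
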