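import Cfsg.Agent.H66.UFour.HFacts

/-!
The elements of order three fusing `z` and `w` inside the centraliser of a four-group of `Q`.
-/

set_option autoImplicit false

namespace Cfsg.Agent.H66.UFour

/-- the conclusion: an element of order three centralising `a` and `d₁, d₂` and cycling
`z, w, z w` -/
structure IsFus {G : Type*} [Group G] (z a w d1 d2 b : G) : Prop where
  cube : b * b * b = 1
  comm_a : b * a = a * b
  comm_d1 : b * d1 = d1 * b
  comm_d2 : b * d2 = d2 * b
  conj_z : b * z * b⁻¹ = w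
  conj_w : b * w * b⁻¹ = z * w

namespace Hyp

variable {G : Type*} [Group G] [Finite G] {z : G} (K : Hyp z)

theorem exists_fus (D : FourCodes) (ok : D.OK) (hD : D = fourA ∨ D = fourB) :
    ∃ b, IsFus z (K.p D.a) (K.p D.w) (K.p D.d1) (K.p D.d2) b := by
  classical
  obtain ⟨⟨la, lw, l1, l2⟩, ⟨hlen, hnd⟩, hE, ⟨qa1, qb1, p1, q1, s1, n1, z1⟩,
    ⟨qa2, qb2, p2, q2, s2, n2, z2, n21, nz21, c12, n3⟩, e1, e2, a3, hzE, hwE⟩ := ok
  have lZ : cZ < 1152 := by decide +kernel
  set A := K.p D.a with hA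
  set W := K.p D.w with hW
  set D1 := K.p D.d1 with hD1
  set D2 := K.p D.d2 with hD2
  obtain ⟨g, hgz, hg⟩ := K.conj_to_Q l1 qa1 qb1 p1 q1 s1 n1 z1
  replace hgz : g * z * g⁻¹ = D1 := hgz
  have hd12 : D1 * D2 = D2 * D1 := (K.comm_iff l1 l2).2 c12
  have hD2sq : D2 * D2 = 1 := by rw [hD2, ← K.p_mh l2 l2, s2, K.p_zero]
  -- the involution corresponding to `d₂` in `C(z)`
  set v := g⁻¹ * D2 * g with hv
  have hvz : v * z = z * v := K.raw.back_comm hg (by rw [hgz]; exact hd12.symm)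
  have hvv : v * v = 1 := by
    calc v * v = g⁻¹ * (D2 * D2) * g := by rw [hv]; group
      _ = 1 := by rw [hD2sq]; group
  have hv1 : v ≠ 1 := fun h => n2 (K.p_inj l2 (by norm_num) (by
    rw [K.p_zero, show K.p D.d2 = g * v * g⁻¹ by rw [hv, hD2]; group, h]; group))
  have hvne : v ≠ z := fun h => n21 (K.p_inj l2 l1 (by
    rw [show K.p D.d2 = g * v * g⁻¹ by rw [hv, hD2]; group, h, hgz]))
  have hvQ : ¬InQ K.F.hom K.F.hom2 v := by
    intro h
    rcases K.raw.four hg (K.p_inQ l2 qa2 qb2 p2 q2) h with h' | h' | h' | h'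
    · exact n2 (K.p_inj l2 (by norm_num) (by rw [K.p_zero]; exact h'))
    · exact z2 (K.p_inj l2 lZ (by rw [K.p_z]; exact h'))
    · exact n21 (K.p_inj l2 l1 (h'.trans hgz))
    · refine nz21 (K.p_inj l2 (Hyp.mh_lt lZ l1) ?_)
      rw [K.p_mh lZ l1, K.p_z]
      exact h'.trans (by rw [hgz])
  obtain ⟨h, hh, hcase⟩ := K.invol_cases hvz hvv hv1 hvne
  obtain ⟨w0, hw0, E0, hE0, hcent, hcnt, hv0⟩ : ∃ w0 < 1152, ∃ E0 : List ℕ, E0.length = 16 ∧
      (∀ x < 1152, mh x w0 = mh w0 x → (mh x x = 0 → x ∈ E0) ∧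
        (mh x (mh x x) = 0 → x ≠ 0 → ∀ e ∈ E0, mh e x = mh x e →
          e = 0 ∨ e = cZ ∨ e = w0 ∨ e = mh cZ w0)) ∧
      cntB 1152 (fun x => Nat.beq (mh x w0) (mh w0 x) && Nat.beq (mh x (mh x x)) 0) = 9 ∧
      h * v * h⁻¹ = K.p w0 := by
    rcases hcase with hc | hc | hc
    · exfalso
      apply hvQ
      have hUQ : InQ K.F.hom K.F.hom2 (K.p cU) :=
        K.p_inQ (by decide +kernel) (by decide +kernel) (by decide +kernel) (by decide +kernel)
          (by decide +kernel)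
      have hi : h⁻¹ * z = z * h⁻¹ := Raw.mem_H.1 (inv_mem (Raw.mem_H.2 hh))
      have := K.raw.conjQ h⁻¹ hi _ hUQ
      rw [← hc] at this
      rw [show v = h⁻¹ * (h * v * h⁻¹) * h⁻¹⁻¹ by group]
      exact this
    · exact ⟨cW, by decide +kernel, fourA.E, by decide +kernel, fun x hx hc' =>
        (cent_facts x hx).1 hc', cent_count.1, hc⟩
    · exact ⟨cW', by decide +kernel, fourB.E, by decide +kernel, fun x hx hc' =>
        (cent_facts x hx).2 hc', cent_count.2, hc⟩
  set k := g * h⁻¹ with hk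
  have kz : k * z * k⁻¹ = D1 := by
    rw [← hgz, hk, show g * h⁻¹ * z * (g * h⁻¹)⁻¹ = g * (h⁻¹ * z * h) * g⁻¹ by group,
      show h⁻¹ * z * h = z by rw [mul_assoc, ← hh, inv_mul_cancel_left]]
  have kw : k * K.p w0 * k⁻¹ = D2 := by rw [← hv0, hk, hv]; group
  -- the centraliser of the four-group
  have cd : ∀ {x : G}, x * D1 = D1 * x → x * D2 = D2 * x →
      ∃ n < 1152, mh n w0 = mh w0 n ∧ x = k * K.p n * k⁻¹ := by
    intro x h1 h2
    have c1 : k⁻¹ * x * k * z = z * (k⁻¹ * x * k) := by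
      calc k⁻¹ * x * k * z = k⁻¹ * (x * D1) * k := by rw [← kz]; group
        _ = k⁻¹ * (D1 * x) * k := by rw [h1]
        _ = _ := by rw [← kz]; group
    obtain ⟨n, hn, en⟩ := K.surj c1
    refine ⟨n, hn, (K.comm_iff hn hw0).1 ?_, by rw [en]; group⟩
    calc K.p n * K.p w0 = k⁻¹ * (x * D2) * k := by rw [en, ← kw]; group
      _ = k⁻¹ * (D2 * x) * k := by rw [h2]
      _ = _ := by rw [en, ← kw]; group
  have dc : ∀ {n : ℕ}, n < 1152 → mh n w0 = mh w0 n →
      k * K.p n * k⁻¹ * D1 = D1 * (k * K.p n * k⁻¹) ∧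
      k * K.p n * k⁻¹ * D2 = D2 * (k * K.p n * k⁻¹) := by
    intro n hn hc
    constructor
    · rw [← kz, show k * K.p n * k⁻¹ * (k * z * k⁻¹) = k * (K.p n * z) * k⁻¹ by group,
        K.p_comm_z]
      group
    · rw [← kw, show k * K.p n * k⁻¹ * (k * K.p w0 * k⁻¹) = k * (K.p n * K.p w0) * k⁻¹ by group,
        (K.comm_iff hn hw0).2 hc]
      group
  -- every involution of the centraliser lies in `E`
  have inE : ∀ {x : G}, x * D1 = D1 * x → x * D2 = D2 * x → x * x = 1 →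
      ∃ e ∈ D.E, x = K.p e := by
    intro x h1 h2 h3
    have toE0 : ∀ {y : G}, y * D1 = D1 * y → y * D2 = D2 * y → y * y = 1 →
        ∃ n ∈ E0, n < 1152 ∧ y = k * K.p n * k⁻¹ := by
      intro y g1 g2 g3
      obtain ⟨n, hn, hc, rfl⟩ := cd g1 g2
      refine ⟨n, (hcent n hn hc).1 (K.p_inj (Hyp.mh_lt hn hn) (by norm_num) ?_), hn, rfl⟩
      rw [K.p_mh hn hn, K.p_zero]
      calc K.p n * K.p n = k⁻¹ * (k * K.p n * k⁻¹ * (k * K.p n * k⁻¹)) * k := by group
        _ = 1 := by rw [g3]; group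
    have hex : ∀ e ∈ D.E, ∃ n ∈ E0, n < 1152 ∧ K.p e = k * K.p n * k⁻¹ := fun e he => by
      obtain ⟨le, se, c1, c2, -⟩ := hE e he
      exact toE0 ((K.comm_iff le l1).2 c1) ((K.comm_iff le l2).2 c2)
        (by rw [← K.p_mh le le, se, K.p_zero])
    choose! f hf1 hf2 hf3 using hex
    obtain ⟨m, hm, hm', rfl⟩ := toE0 h1 h2 h3
    have himg : (D.E.toFinset.image f) = E0.toFinset := by
      refine Finset.eq_of_subset_of_card_le (fun y hy => ?_) ?_
      · obtain ⟨e, he, rfl⟩ := Finset.mem_image.1 hy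
        exact List.mem_toFinset.2 (hf1 e (List.mem_toFinset.1 he))
      · rw [Finset.card_image_of_injOn, List.toFinset_card_of_nodup hnd, hlen, ← hE0]
        · exact List.toFinset_card_le E0
        · intro e he e' he' heq
          simp only [Finset.mem_coe, List.mem_toFinset] at he he'
          exact K.p_inj (hE e he).1 (hE e' he').1 (by rw [hf3 e he, hf3 e' he', heq])
    have : m ∈ D.E.toFinset.image f := by rw [himg]; exact List.mem_toFinset.2 hm
    obtain ⟨e, he, rfl⟩ := Finset.mem_image.1 this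
    exact ⟨e, List.mem_toFinset.1 he, (hf3 e (List.mem_toFinset.1 he)).symm⟩
  -- a fixed point of `a` on the nine elements killed by three
  let T := {x : G // x * D1 = D1 * x ∧ x * D2 = D2 * x ∧ x * x * x = 1}
  have hTcard : Nat.card T = 9 := by
    rw [← hcnt, cntB_eq, ← Fintype.card_coe, ← Nat.card_eq_fintype_card]
    refine (Nat.card_congr (Equiv.ofBijective (fun n => (⟨k * K.p n.1 * k⁻¹, ?_⟩ : T)) ⟨?_, ?_⟩)).symm
    · have hn := n.2
      simp only [Finset.mem_filter, Finset.mem_range, Bool.and_eq_true, Nat.beq_eq] at hn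
      obtain ⟨hn1, hn2, hn3⟩ := hn
      refine ⟨(dc hn1 hn2).1, (dc hn1 hn2).2, ?_⟩
      calc k * K.p n.1 * k⁻¹ * (k * K.p n.1 * k⁻¹) * (k * K.p n.1 * k⁻¹) =
          k * (K.p n.1 * (K.p n.1 * K.p n.1)) * k⁻¹ := by group
        _ = 1 := by
          rw [← K.p_mh hn1 hn1, ← K.p_mh hn1 (Hyp.mh_lt hn1 hn1), hn3, K.p_zero]; group
    · intro m n hmn
      have h' := mul_left_cancel (mul_right_cancel (Subtype.ext_iff.1 hmn))
      exact Subtype.ext (K.p_inj (Finset.mem_range.1 (Finset.mem_filter.1 m.2).1)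
        (Finset.mem_range.1 (Finset.mem_filter.1 n.2).1) h')
    · rintro ⟨x, h1, h2, h3⟩
      obtain ⟨n, hn, hc, rfl⟩ := cd h1 h2
      refine ⟨⟨n, ?_⟩, rfl⟩
      simp only [Finset.mem_filter, Finset.mem_range, Bool.and_eq_true, Nat.beq_eq]
      refine ⟨hn, hc, K.p_inj (Hyp.mh_lt hn (Hyp.mh_lt hn hn)) (by norm_num) ?_⟩
      rw [K.p_mh hn (Hyp.mh_lt hn hn), K.p_mh hn hn, K.p_zero]
      calc K.p n * (K.p n * K.p n) =
            k⁻¹ * (k * K.p n * k⁻¹ * (k * K.p n * k⁻¹) * (k * K.p n * k⁻¹)) * k := by group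
        _ = 1 := by rw [h3]; group
  have hA3 : A * (A * A) = 1 := by
    rw [hA, ← K.p_mh la la, ← K.p_mh la (Hyp.mh_lt la la), a3, K.p_zero]
  have hAD : ∀ {x : G}, x * D1 = D1 * x → x * D2 = D2 * x →
      A * x * A⁻¹ * D1 = D1 * (A * x * A⁻¹) ∧ A * x * A⁻¹ * D2 = D2 * (A * x * A⁻¹) := by
    intro x h1 h2
    have h3 : x * (D1 * D2) = D1 * D2 * x := by rw [← mul_assoc, h1, mul_assoc, h2, mul_assoc]
    have cv : ∀ {d t : G}, A * d = t * A → A⁻¹ * t * A = d := fun e => by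
      rw [mul_assoc, ← e, inv_mul_cancel_left]
    have A2 : A⁻¹ = A * A := inv_eq_of_mul_eq_one_right hA3
    -- images of `D1`, `D2` under `A` commute with `x`, hence so do their preimages
    have img : ∀ {d : G}, (d = D1 ∨ d = D2 ∨ d = D1 * D2) →
        A * d * A⁻¹ = D1 ∨ A * d * A⁻¹ = D2 ∨ A * d * A⁻¹ = D1 * D2 := by
      have q1 : A * D1 * A⁻¹ = D2 ∨ A * D1 * A⁻¹ = D1 * D2 := by
        rcases e1 with e | e
        · left; rw [hA, hD1, hD2, ← K.p_mh la l1, e, K.p_mh l2 la, mul_inv_cancel_right]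
        · right; rw [hA, hD1, hD2, ← K.p_mh la l1, e, K.p_mh (Hyp.mh_lt l1 l2) la, K.p_mh l1 l2,
            mul_inv_cancel_right]
      have q2 : A * D2 * A⁻¹ = D1 ∨ A * D2 * A⁻¹ = D1 * D2 := by
        rcases e2 with e | e
        · left; rw [hA, hD1, hD2, ← K.p_mh la l2, e, K.p_mh l1 la, mul_inv_cancel_right]
        · right; rw [hA, hD1, hD2, ← K.p_mh la l2, e, K.p_mh (Hyp.mh_lt l1 l2) la, K.p_mh l1 l2,
            mul_inv_cancel_right]
      have hD1sq : D1 * D1 = 1 := by rw [hD1, ← K.p_mh l1 l1, s1, K.p_zero]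
      have ne12 : D2 ≠ D1 := fun h => n21 (K.p_inj l2 l1 h)
      intro d hd
      rcases hd with rfl | rfl | rfl
      · exact Or.inr q1
      · rcases q2 with e | e
        · exact Or.inl e
        · exact Or.inr (Or.inr e)
      · rw [show A * (D1 * D2) * A⁻¹ = A * D1 * A⁻¹ * (A * D2 * A⁻¹) by group]
        rcases q1 with e | e <;> rcases q2 with e' | e' <;> rw [e, e']
        · exact Or.inr (Or.inr hd12.symm)
        · left; rw [← mul_assoc, ← hd12, mul_assoc, hD2sq, mul_one]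
        · right; left; rw [hd12, mul_assoc, hD1sq, mul_one]
        · exfalso
          have := e.trans e'.symm
          exact ne12 (mul_left_cancel (mul_right_cancel this)).symm
    have back : ∀ {d : G}, (d = D1 ∨ d = D2 ∨ d = D1 * D2) → x * (A⁻¹ * d * A) = A⁻¹ * d * A * x := by
      intro d hd
      have := img (img hd)
      rw [show A * (A * d * A⁻¹) * A⁻¹ = A * A * d * (A * A)⁻¹ by group, ← A2, inv_inv] at this
      rcases this with e | e | e <;> rw [e]
      exacts [h1, h2, h3]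
    constructor
    · rw [show A * x * A⁻¹ * D1 = A * (x * (A⁻¹ * D1 * A)) * A⁻¹ by group, back (Or.inl rfl)]
      group
    · rw [show A * x * A⁻¹ * D2 = A * (x * (A⁻¹ * D2 * A)) * A⁻¹ by group,
        back (Or.inr (Or.inl rfl))]
      group
  let σ : T → T := fun x => ⟨A * x.1 * A⁻¹, (hAD x.2.1 x.2.2.1).1, (hAD x.2.1 x.2.2.1).2, by
    calc A * x.1 * A⁻¹ * (A * x.1 * A⁻¹) * (A * x.1 * A⁻¹) = A * (x.1 * x.1 * x.1) * A⁻¹ := by group
      _ = 1 := by rw [x.2.2.2]; group⟩
  have hσ3 : ∀ x, σ (σ (σ x)) = x := fun x => Subtype.ext (by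
    show A * (A * (A * x.1 * A⁻¹) * A⁻¹) * A⁻¹ = x.1
    calc A * (A * (A * x.1 * A⁻¹) * A⁻¹) * A⁻¹ = A * (A * A) * x.1 * (A * (A * A))⁻¹ := by group
      _ = x.1 := by rw [hA3]; group)
  haveI : Finite T := Subtype.finite
  haveI := Fintype.ofFinite T
  let σe : Equiv.Perm T := ⟨σ, fun x => σ (σ x), fun x => hσ3 x, fun x => hσ3 x⟩
  haveI : Fact (Nat.Prime 3) := ⟨Nat.prime_three⟩
  have hpow : σe ^ 3 ^ 1 = 1 := Equiv.ext fun x => hσ3 x
  let one' : T := ⟨1, by simp, by simp, by simp⟩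
  have hone : σe one' = one' := Subtype.ext (show A * 1 * A⁻¹ = 1 by group)
  obtain ⟨b, hb, hbne⟩ := Equiv.Perm.exists_fixed_point_of_prime'
    (p := 3) (n := 1) (by rw [← Nat.card_eq_fintype_card, hTcard]; norm_num) hpow hone
  obtain ⟨b, hb1, hb2, hb3⟩ := b
  have hb0 : b ≠ 1 := fun h => hbne (Subtype.ext h)
  have hba : b * A = A * b := by
    have := congrArg Subtype.val hb
    change A * b * A⁻¹ = b at this
    exact (mul_inv_eq_iff_eq_mul.1 this).symm
  -- `b` centralises only the four-group in `E`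
  have cen : ∀ {e : G}, e * D1 = D1 * e → e * D2 = D2 * e → e * e = 1 → e * b = b * e →
      e = 1 ∨ e = D1 ∨ e = D2 ∨ e = D1 * D2 := by
    intro e g1 g2 g3 g4
    obtain ⟨n, hn, hnc, en⟩ := cd g1 g2
    obtain ⟨m, hm, hmc, em⟩ := cd hb1 hb2
    have hnn : mh n n = 0 := K.p_inj (Hyp.mh_lt hn hn) (by norm_num) (by
      rw [K.p_mh hn hn, K.p_zero, show K.p n = k⁻¹ * e * k by rw [en]; group,
        show k⁻¹ * e * k * (k⁻¹ * e * k) = k⁻¹ * (e * e) * k by group, g3]
      group)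
    have hmm3 : mh m (mh m m) = 0 := K.p_inj (Hyp.mh_lt hm (Hyp.mh_lt hm hm)) (by norm_num) (by
      rw [K.p_mh hm (Hyp.mh_lt hm hm), K.p_mh hm hm, K.p_zero,
        show K.p m = k⁻¹ * b * k by rw [em]; group,
        show k⁻¹ * b * k * (k⁻¹ * b * k * (k⁻¹ * b * k)) = k⁻¹ * (b * b * b) * k by group, hb3]
      group)
    have hm0 : m ≠ 0 := fun h => hb0 (by rw [em, h, K.p_zero]; group)
    have hnm : mh n m = mh m n := (K.comm_iff hn hm).1 (by
      calc K.p n * K.p m = k⁻¹ * (e * b) * k := by rw [en, em]; group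
        _ = k⁻¹ * (b * e) * k := by rw [g4]
        _ = _ := by rw [en, em]; group)
    rcases (hcent m hm hmc).2 hmm3 hm0 n ((hcent n hn hnc).1 hnn) hnm with h | h | h | h <;>
      subst h <;> rw [en]
    · left; rw [K.p_zero]; group
    · right; left; rw [K.p_z, kz]
    · right; right; left; exact kw
    · right; right; right
      rw [K.p_mh lZ hw0, K.p_z, ← kz, ← kw]; group
  -- images of `z` and `w`
  have hzD : ∀ d, (d = D1 ∨ d = D2 ∨ d = D1 * D2) → z ≠ d := by
    intro d hd e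
    rcases hd with rfl | rfl | rfl
    · exact z1 (K.p_inj l1 lZ (by rw [K.p_z]; exact e.symm))
    · exact z2 (K.p_inj l2 lZ (by rw [K.p_z]; exact e.symm))
    · exact n3 (K.p_inj (Hyp.mh_lt l1 l2) lZ (by rw [K.p_mh l1 l2, K.p_z]; exact e.symm))
  have hzsq := K.raw.z_sq
  have zD : z * D1 = D1 * z ∧ z * D2 = D2 * z := ⟨(K.p_comm_z _).symm, (K.p_comm_z _).symm⟩
  have hbz : b * z ≠ z * b := by
    intro h
    rcases cen zD.1 zD.2 hzsq h.symm with e | e | e | e
    · exact K.raw.z_ne e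
    · exact hzD _ (Or.inl rfl) e
    · exact hzD _ (Or.inr (Or.inl rfl)) e
    · exact hzD _ (Or.inr (Or.inr rfl)) e
  have sends : ∀ {t : G}, t * D1 = D1 * t → t * D2 = D2 * t → t * t = 1 → t * A = A * t →
      b * t * b⁻¹ = 1 ∨ b * t * b⁻¹ = z ∨ b * t * b⁻¹ = W ∨ b * t * b⁻¹ = z * W := by
    intro t g1 g2 g3 g4
    have cc : ∀ {d : G}, b * d = d * b → t * d = d * t →
        b * t * b⁻¹ * d = d * (b * t * b⁻¹) := by
      intro d f1 f2
      calc b * t * b⁻¹ * d = b * t * (b⁻¹ * (d * b)) * b⁻¹ := by group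
        _ = b * (t * d) * b⁻¹ := by rw [← f1]; group
        _ = b * d * t * b⁻¹ := by rw [f2]; group
        _ = _ := by rw [f1]; group
    obtain ⟨e, he, ee⟩ := inE (cc hb1 g1) (cc hb2 g2) (by
      calc b * t * b⁻¹ * (b * t * b⁻¹) = b * (t * t) * b⁻¹ := by group
        _ = 1 := by rw [g3]; group)
    have hc := cc hba g4
    rw [ee, hA, K.comm_iff (hE e he).1 la] at hc
    rw [ee]
    rcases (hE e he).2.2.2.2 hc with r | r | r | r <;> subst r
    · exact Or.inl K.p_zero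
    · exact Or.inr (Or.inl K.p_z)
    · exact Or.inr (Or.inr (Or.inl hW.symm))
    · exact Or.inr (Or.inr (Or.inr (by rw [K.p_mh lZ lw, K.p_z])))
  obtain ⟨lwE, sW, cW1, cW2, -⟩ := hE D.w hwE
  have hWA : W * A = A * W := by
    rw [hW, hA, K.comm_iff lw la]
    rcases hD with rfl | rfl <;> decide +kernel
  have hWsq : W * W = 1 := by rw [hW, ← K.p_mh lw lw, sW, K.p_zero]
  have Wc1 : W * D1 = D1 * W := (K.comm_iff lw l1).2 cW1
  have Wc2 : W * D2 = D2 * W := (K.comm_iff lw l2).2 cW2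
  have hzW : z * W = W * z := (K.p_comm_z _).symm
  have hz1 : b * z * b⁻¹ ≠ 1 := fun h => K.raw.z_ne (by
    calc z = b⁻¹ * (b * z * b⁻¹) * b := by group
      _ = 1 := by rw [h]; group)
  have hW1 : W ≠ 1 := fun h => by
    have := K.p_inj lw (by norm_num) (h.trans K.p_zero.symm)
    rcases hD with rfl | rfl <;> exact absurd this (by decide +kernel)
  have hzW1 : z * W ≠ 1 := fun h => by
    have := K.p_inj (Hyp.mh_lt lZ lw) (by norm_num) (((K.p_mh lZ lw).trans (by rw [K.p_z]; exact h)).trans K.p_zero.symm)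
    rcases hD with rfl | rfl <;> exact absurd this (by decide +kernel)
  have hWz : W ≠ z := fun h => hzW1 (by rw [h, hzsq])
  have first : b * z * b⁻¹ = W ∨ b * z * b⁻¹ = z * W := by
    rcases sends zD.1 zD.2 hzsq (K.p_comm_z _).symm with e | e | e | e
    · exact absurd e hz1
    · exact absurd (mul_inv_eq_iff_eq_mul.1 e) hbz
    · exact Or.inl e
    · exact Or.inr e
  have bi : b⁻¹ = b * b := inv_eq_of_mul_eq_one_right (by rw [← mul_assoc]; exact hb3)
  have not2 : b * b * z ≠ z * (b * b) := by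
    intro h
    apply hbz
    have h4 : b = b * b * (b * b) := by
      rw [show b * b * (b * b) = b * (b * b * b) by group, hb3, mul_one]
    have hc : Commute (b * b * (b * b)) z := Commute.mul_left h h
    rw [← h4] at hc
    exact hc.eq
  -- the image of the second involution
  have second : ∀ {t : G}, b * z * b⁻¹ = t → t * D1 = D1 * t → t * D2 = D2 * t → t * t = 1 →
      t * A = A * t → (t = W ∨ t = z * W) → b * t * b⁻¹ ≠ t ∧ b * t * b⁻¹ ≠ z := by
    intro t e1' g1 g2 g3 g4 ht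
    refine ⟨fun h => ?_, fun h => ?_⟩
    · have : z = t := by
        calc z = b⁻¹ * (b * z * b⁻¹) * b := by group
          _ = b⁻¹ * (b * t * b⁻¹) * b := by rw [e1', h]
          _ = t := by group
      rcases ht with r | r
      · exact hWz (r.symm.trans this.symm)
      · exact hW1 (mul_eq_left.1 (r.symm.trans this.symm))
    · apply not2
      rw [← e1'] at h
      calc b * b * z = b * (b * z * b⁻¹) * b⁻¹ * (b * b) := by group
        _ = z * (b * b) := by rw [h]
  rcases first with e | e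
  · refine ⟨b, hb3, hba, hb1, hb2, e, ?_⟩
    obtain ⟨n1', n2'⟩ := second e Wc1 Wc2 hWsq hWA (Or.inl rfl)
    rcases sends Wc1 Wc2 hWsq hWA with r | r | r | r
    · exfalso; apply hW1
      calc W = b⁻¹ * (b * W * b⁻¹) * b := by group
        _ = 1 := by rw [r]; group
    · exact absurd r n2'
    · exact absurd r n1'
    · exact r
  · have c1 : z * W * D1 = D1 * (z * W) := by rw [mul_assoc, Wc1, ← mul_assoc, zD.1, mul_assoc]
    have c2 : z * W * D2 = D2 * (z * W) := by rw [mul_assoc, Wc2, ← mul_assoc, zD.2, mul_assoc]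
    have c3 : z * W * (z * W) = 1 := by
      rw [mul_assoc, ← mul_assoc W, ← hzW, mul_assoc z W W, hWsq, mul_one, hzsq]
    have c4 : z * W * A = A * (z * W) := by
      rw [mul_assoc, hWA, ← mul_assoc, ← K.p_comm_z, mul_assoc]
    obtain ⟨n1', n2'⟩ := second e c1 c2 c3 c4 (Or.inr rfl)
    have r : b * (z * W) * b⁻¹ = W := by
      rcases sends c1 c2 c3 c4 with r | r | r | r
      · exfalso; apply hzW1
        calc z * W = b⁻¹ * (b * (z * W) * b⁻¹) * b := by group
          _ = 1 := by rw [r]; group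
      · exact absurd r n2'
      · exact r
      · exact absurd r n1'
    have hbinv : b⁻¹ * z * b = W := by
      have e' : b * b * z * (b * b)⁻¹ = W := by
        rw [show b * b * z * (b * b)⁻¹ = b * (b * z * b⁻¹) * b⁻¹ by group, e, r]
      rw [← bi, inv_inv] at e'
      exact e'
    refine ⟨b⁻¹, ?_, (Commute.inv_left (show Commute b A from hba)).eq,
      (Commute.inv_left (show Commute b D1 from hb1)).eq,
      (Commute.inv_left (show Commute b D2 from hb2)).eq, by rw [inv_inv]; exact hbinv, ?_⟩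
    · calc b⁻¹ * b⁻¹ * b⁻¹ = (b * b * b)⁻¹ := by group
        _ = 1 := by rw [hb3, inv_one]
    · rw [inv_inv, ← r]
      calc b⁻¹ * (b * (z * W) * b⁻¹) * b = z * W := by group
        _ = z * (b * (z * W) * b⁻¹) := by rw [r]

end Hyp

end Cfsg.Agent.H66.UFour
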