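import Cfsg.Agent.H66.UFour.Swap

/-!
The involution centraliser is one of four models.
-/

set_option autoImplicit false

namespace Cfsg.Agent.H66.UFour

variable {G : Type*} [Group G]

/-- a parametrisation of `C(z)` by the model with parameters `e`, `f` -/
structure Frame (z : G) (e f : ℕ) where
  /-- the first factor -/
  hom : S2 →* G
  /-- the swap -/
  w : G
  /-- the outer element -/
  i : G
  z_ne : z ≠ 1
  z_sq : z * z = 1
  neg : hom (-1) = z
  comm : ∀ A B, hom A * (w * hom B * w) = w * hom B * w * hom A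
  w_sq : w * w = 1
  wz : w * z = z * w
  iz : i * z = z * i
  i_conj : ∀ A, i * hom A * i⁻¹ = hom (slG A)
  i_sq : i * i = z ^ e
  wi : w * i = z ^ f * (i * w)
  card : Nat.card ↥(Subgroup.centralizer ({z} : Set G)) = 1152
  surj' : ∀ x : G, x * z = z * x → ∃ A B, ∃ p q : ℕ, x = hom A * (w * hom B * w) * (i ^ p * w ^ q)

namespace Frame

variable {z : G} {e f : ℕ} (F : Frame z e f)

/-- the element with code `x` -/
def phi (x : ℕ) : G :=
  F.hom (sl (ca x)) * (F.w * F.hom (sl (cb x)) * F.w) * (F.i ^ cp x * F.w ^ cq x)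

theorem z_inv (F : Frame z e f) : z⁻¹ = z := inv_eq_of_mul_eq_one_right F.z_sq

theorem hom_z (A : S2) : F.hom A * z = z * F.hom A := by
  calc F.hom A * z = F.hom (A * -1) := by rw [map_mul, F.neg]
    _ = F.hom (-1 * A) := by simp
    _ = _ := by rw [map_mul, F.neg]

theorem w_inv : F.w⁻¹ = F.w := inv_eq_of_mul_eq_one_right F.w_sq

/-- the second factor -/
def hom2 : S2 →* G where
  toFun B := F.w * F.hom B * F.w
  map_one' := by rw [map_one, mul_one, F.w_sq]
  map_mul' A B := by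
    rw [map_mul]
    calc F.w * (F.hom A * F.hom B) * F.w = F.w * F.hom A * (F.w * F.w) * F.hom B * F.w := by
          rw [F.w_sq, mul_one, ← mul_assoc F.w]
      _ = _ := by group

theorem hom2_apply (B : S2) : F.hom2 B = F.w * F.hom B * F.w := rfl

theorem hom2_neg : F.hom2 (-1) = z := by
  rw [hom2_apply, F.neg, F.wz, mul_assoc, F.w_sq, mul_one]

theorem commz_pow {x : G} (hx : x * z = z * x) (n : ℕ) : z ^ n * x = x * z ^ n :=
  ((Commute.symm hx : Commute z x).pow_left n).eq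

theorem hom2_z (B : S2) : F.hom2 B * z = z * F.hom2 B := by
  calc F.hom2 B * z = F.hom2 (B * -1) := by rw [map_mul, F.hom2_neg]
    _ = F.hom2 (-1 * B) := by simp
    _ = _ := by rw [map_mul, F.hom2_neg]

theorem i_conj2 (B : S2) : F.i * F.hom2 B * F.i⁻¹ = F.hom2 (slG B) := by
  have h1 : F.w * F.i = F.i * F.w * z ^ f := by
    rw [F.wi, commz_pow (show F.i * F.w * z = z * (F.i * F.w) by
      rw [mul_assoc, F.wz, ← mul_assoc, F.iz, mul_assoc])]
  have hA : z ^ f * F.hom B = F.hom B * z ^ f := commz_pow (F.hom_z B) f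
  have h2 : F.i * F.w = F.w * F.i * (z ^ f)⁻¹ := by rw [h1, mul_inv_cancel_right]
  rw [hom2_apply, hom2_apply, ← F.i_conj B]
  calc F.i * (F.w * F.hom B * F.w) * F.i⁻¹ =
      F.i * F.w * F.hom B * (F.i * F.w)⁻¹ := by rw [mul_inv_rev, F.w_inv]; group
    _ = F.w * F.i * ((z ^ f)⁻¹ * F.hom B * z ^ f) * F.i⁻¹ * F.w⁻¹ := by rw [h2]; group
    _ = F.w * F.i * F.hom B * F.i⁻¹ * F.w⁻¹ := by
        rw [mul_assoc (z ^ f)⁻¹, ← hA, inv_mul_cancel_left]
    _ = _ := by rw [F.w_inv]; group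

theorem pp_mul' (A B C D : S2) :
    F.hom A * F.hom2 B * (F.hom C * F.hom2 D) = F.hom (A * C) * F.hom2 (B * D) := by
  rw [map_mul, map_mul]
  calc F.hom A * F.hom2 B * (F.hom C * F.hom2 D) =
      F.hom A * (F.hom2 B * F.hom C) * F.hom2 D := by group
    _ = F.hom A * (F.hom C * F.hom2 B) * F.hom2 D := by
      rw [show F.hom2 B * F.hom C = F.hom C * F.hom2 B from (F.comm C B).symm]
    _ = _ := by group

theorem twist_spec {p q a b : ℕ} (hp : p < 2) (hq : q < 2) (ha : a < 24) (hb : b < 24) :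
    F.i ^ p * F.w ^ q * (F.hom (sl a) * F.hom2 (sl b)) =
      F.hom (sl (twist p q a b).1) * F.hom2 (sl (twist p q a b).2) * (F.i ^ p * F.w ^ q) := by
  have hsw : F.w * (F.hom (sl a) * F.hom2 (sl b)) =
      F.hom (sl b) * F.hom2 (sl a) * F.w := by
    calc F.w * (F.hom (sl a) * F.hom2 (sl b)) =
        F.w * F.hom (sl a) * F.w * F.hom (sl b) * F.w := by rw [hom2_apply]; group
      _ = F.hom (sl b) * (F.w * F.hom (sl a) * F.w) * F.w := by rw [← F.comm]
      _ = _ := by rw [hom2_apply]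
  have hi : ∀ c d, c < 24 → d < 24 → F.i * (F.hom (sl c) * F.hom2 (sl d)) =
      F.hom (sl (sg c)) * F.hom2 (sl (sg d)) * F.i := by
    intro c d hc hd
    rw [sl_sg hc, sl_sg hd, ← F.i_conj, ← F.i_conj2]
    group
  interval_cases p <;> interval_cases q <;>
    simp only [twist, pow_zero, pow_one, one_mul, mul_one, Nat.beq_eq, Nat.reduceBEq,
      cond_true, cond_false]
  all_goals first
    | exact hsw
    | exact hi a b ha hb
    | (rw [mul_assoc F.i, hsw, ← mul_assoc, hi b a hb ha, mul_assoc]; rfl)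
    | rfl

theorem twist_lt {p q a b : ℕ} (ha : a < 24) (hb : b < 24) :
    (twist p q a b).1 < 24 ∧ (twist p q a b).2 < 24 := by
  unfold twist
  cases Nat.beq p 0 <;> cases Nat.beq q 0 <;> simp [ha, hb, sg_lt a ha, sg_lt b hb]

theorem hom2_sn {b : ℕ} (hb : b < 24) : F.hom2 (sl (sn b)) = z * F.hom2 (sl b) := by
  rw [sl_sn hb, sl_twelve, map_mul, F.hom2_neg]

theorem hom_sn {a : ℕ} (ha : a < 24) : F.hom (sl (sn a)) = z * F.hom (sl a) := by
  rw [sl_sn ha, sl_twelve, map_mul, F.neg]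

theorem pow_mod_two {x : G} (hx : x * x = 1) (n : ℕ) : x ^ n = x ^ (n % 2) := by
  conv_lhs => rw [← Nat.div_add_mod n 2, pow_add, pow_mul, pow_two, hx, one_pow, one_mul]

theorem hom2_snk {b : ℕ} (hb : b < 24) (k : ℕ) :
    F.hom2 (sl (snk k b)) = z ^ k * F.hom2 (sl b) := by
  rw [pow_mod_two F.z_sq k, snk]
  rcases Nat.mod_two_eq_zero_or_one k with h | h
  · simp [h, show Nat.mod k 2 = 0 from h]
  · rw [show Nat.mod k 2 = 1 from h, h, pow_one]
    exact F.hom2_sn hb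

theorem mk_read {a b p q : ℕ} (hb : b < 24) :
    ca (UFour.mk a b p q) = a % 12 ∧ cb (UFour.mk a b p q) = cond (Nat.blt a 12) b (sn b) ∧
      cp (UFour.mk a b p q) = p % 2 ∧ cq (UFour.mk a b p q) = q % 2 := by
  have h1 : (cond (Nat.blt a 12) b (sn b)) < 24 := by
    cases Nat.blt a 12 <;> simp [hb, sn_lt b hb]
  have h2 : a % 12 < 12 := Nat.mod_lt _ (by norm_num)
  have h3 : p % 2 < 2 := Nat.mod_lt _ (by norm_num)
  have h4 : q % 2 < 2 := Nat.mod_lt _ (by norm_num)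
  show (4 * (24 * (a % 12) + _) + (2 * (p % 2) + q % 2)) / 96 = _ ∧
    (4 * (24 * (a % 12) + _) + (2 * (p % 2) + q % 2)) / 4 % 24 = _ ∧
    (4 * (24 * (a % 12) + _) + (2 * (p % 2) + q % 2)) / 2 % 2 = _ ∧
    (4 * (24 * (a % 12) + _) + (2 * (p % 2) + q % 2)) % 2 = _
  omega

theorem phi_mk {a b p q : ℕ} (ha : a < 24) (hb : b < 24) (hp : p < 2) (hq : q < 2) :
    F.phi (UFour.mk a b p q) = F.hom (sl a) * F.hom2 (sl b) * (F.i ^ p * F.w ^ q) := by
  obtain ⟨h1, h2, h3, h4⟩ := mk_read (a := a) (p := p) (q := q) hb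
  rw [phi, h1, h2, h3, h4, Nat.mod_eq_of_lt hp, Nat.mod_eq_of_lt hq, ← hom2_apply]
  congr 1
  by_cases h : a < 12
  · rw [Nat.mod_eq_of_lt h, show Nat.blt a 12 = true from Nat.ble_eq ▸ (show a + 1 ≤ 12 from h), cond_true]
  · have hs : ∀ k < 24, 12 ≤ k → sn k = k % 12 := by decide +kernel
    have hb' : Nat.blt a 12 = false := by
      rw [← Bool.not_eq_true]; exact fun h' => h (Nat.le_of_ble_eq_true h')
    rw [hb', cond_false, ← hs a ha (by omega), F.hom_sn ha, F.hom2_sn hb]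
    calc z * F.hom (sl a) * (z * F.hom2 (sl b)) =
        z * (F.hom (sl a) * z) * F.hom2 (sl b) := by group
      _ = z * z * F.hom (sl a) * F.hom2 (sl b) := by rw [F.hom_z]; group
      _ = _ := by rw [F.z_sq, one_mul]

theorem code_lt {x : ℕ} (hx : x < 1152) : ca x < 12 ∧ cb x < 24 ∧ cp x < 2 ∧ cq x < 2 := by
  refine ⟨?_, Nat.mod_lt _ (by norm_num), Nat.mod_lt _ (by norm_num), Nat.mod_lt _ (by norm_num)⟩
  show x / 96 < 12
  omega

theorem mm_lt {e f x y : ℕ} (hx : x < 1152) (hy : y < 1152) : mm e f x y < 1152 := by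
  obtain ⟨h1, h2, -, -⟩ := code_lt hx
  obtain ⟨k1, k2, -, -⟩ := code_lt hy
  refine UFour.mk_lt (snk_lt _ (sm_lt _ h2 _ ?_)) _ _
  exact (twist_lt (by omega) k2).2

theorem phi_mul {x y : ℕ} (hx : x < 1152) (hy : y < 1152) :
    F.phi (mm e f x y) = F.phi x * F.phi y := by
  obtain ⟨h1, h2, h3, h4⟩ := code_lt hx
  obtain ⟨k1, k2, k3, k4⟩ := code_lt hy
  unfold phi
  simp only [← hom2_apply]
  obtain ⟨t1, t2⟩ := twist_lt (p := cp x) (q := cq x) (show ca y < 24 by omega) k2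
  set a := ca x with hA
  set b := cb x with hB
  set p := cp x with hP
  set q := cq x with hQ
  set c := ca y with hC
  set d := cb y with hD
  set r := cp y with hR
  set s := cq y with hS
  set t := twist p q c d with hT
  have e1 : F.hom (sl a) * F.hom2 (sl b) * (F.i ^ p * F.w ^ q) *
      (F.hom (sl c) * F.hom2 (sl d) * (F.i ^ r * F.w ^ s)) =
      F.hom (sl (sm a t.1)) * F.hom2 (sl (sm b t.2)) *
        (F.i ^ p * F.w ^ q * (F.i ^ r * F.w ^ s)) := by
    calc F.hom (sl a) * F.hom2 (sl b) * (F.i ^ p * F.w ^ q) *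
          (F.hom (sl c) * F.hom2 (sl d) * (F.i ^ r * F.w ^ s)) =
        F.hom (sl a) * F.hom2 (sl b) * (F.i ^ p * F.w ^ q * (F.hom (sl c) * F.hom2 (sl d))) *
          (F.i ^ r * F.w ^ s) := by group
      _ = F.hom (sl a) * F.hom2 (sl b) * (F.hom (sl t.1) * F.hom2 (sl t.2) *
          (F.i ^ p * F.w ^ q)) * (F.i ^ r * F.w ^ s) := by
        rw [F.twist_spec h3 h4 (by omega) k2]
      _ = (F.hom (sl a) * F.hom2 (sl b) * (F.hom (sl t.1) * F.hom2 (sl t.2))) *
          (F.i ^ p * F.w ^ q * (F.i ^ r * F.w ^ s)) := by group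
      _ = _ := by rw [F.pp_mul', ← sl_mul (by omega) t1, ← sl_mul h2 t2]
  have hzw : ∀ n, z ^ n * F.w = F.w * z ^ n := commz_pow F.wz
  have e2 : F.i ^ p * F.w ^ q * (F.i ^ r * F.w ^ s) =
      z ^ sgn e f p q r * (F.i ^ ((p + r) % 2) * F.w ^ ((q + s) % 2)) := by
    show _ = z ^ (f * (q * r) + e * (p * r)) * _
    have hzi : ∀ n, z ^ n * F.i = F.i * z ^ n := commz_pow F.iz
    interval_cases p <;> interval_cases q <;> interval_cases r <;> interval_cases s <;>
      simp only [pow_zero, pow_one, one_mul, mul_one, Nat.reduceAdd, Nat.reduceMod, mul_zero,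
        zero_mul, add_zero, zero_add, F.w_sq, F.i_sq, F.wi]
    all_goals first
      | rfl
      | (simp [mul_assoc, F.w_sq]; done)
      | (rw [← mul_assoc, F.wi]; simp only [mul_assoc, F.w_sq, mul_one])
      | (rw [← mul_assoc, F.i_sq])
      | (rw [mul_assoc F.i, F.wi, ← mul_assoc, ← hzi f, mul_assoc, ← mul_assoc F.i, F.i_sq,
         ← mul_assoc, ← pow_add])
      | (rw [mul_assoc F.i, ← mul_assoc F.w, F.wi, mul_assoc (z ^ f), mul_assoc F.i F.w, F.w_sq,
         mul_one, ← mul_assoc, ← hzi f, mul_assoc, F.i_sq, ← pow_add])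
  rw [e1, e2]
  have hm : mm e f x y = UFour.mk (sm a t.1) (snk (sgn e f p q r) (sm b t.2))
      ((p + r) % 2) ((q + s) % 2) := by
    show UFour.mk _ _ (p + r) (q + s) = _
    simp only [UFour.mk, Nat.mod_eq_mod_iff, hT, hA, hB, hP, hQ, hC, hD, hR]
    rw [show Nat.mod ((cp x + cp y) % 2) 2 = Nat.mod (cp x + cp y) 2 from Nat.mod_mod _ _,
      show Nat.mod ((cq x + cq y) % 2) 2 = Nat.mod (cq x + cq y) 2 from Nat.mod_mod _ _]
  have hst := sm_lt b h2 _ t2
  have := F.phi_mk (sm_lt a (by omega) _ t1) (snk_lt (sgn e f p q r) hst)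
    (Nat.mod_lt (p + r) (by norm_num : 0 < 2)) (Nat.mod_lt (q + s) (by norm_num : 0 < 2))
  rw [← hm] at this
  unfold phi at this
  simp only [← hom2_apply] at this
  rw [this, F.hom2_snk hst]
  have hzh : z ^ sgn e f p q r * F.hom2 (sl (sm b t.2)) =
      F.hom2 (sl (sm b t.2)) * z ^ sgn e f p q r := commz_pow (F.hom2_z _) _
  rw [hzh]
  simp only [mul_assoc]

theorem phi_zero : F.phi 0 = 1 := by
  show F.hom (sl 0) * (F.w * F.hom (sl 0) * F.w) * (F.i ^ 0 * F.w ^ 0) = 1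
  simp [sl_zero, F.w_sq]

theorem phi_comm_z (x : ℕ) : F.phi x * z = z * F.phi x := by
  unfold phi
  have hpow : ∀ {t : G}, t * z = z * t → ∀ n : ℕ, Commute (t ^ n) z :=
    fun h n => (Commute.pow_left h n)
  exact ((Commute.mul_left (F.hom_z _) (F.hom2_z _)).mul_left
    ((hpow F.iz _).mul_left (hpow F.wz _))).eq

theorem phi_surj {x : G} (hx : x * z = z * x) : ∃ n < 1152, F.phi n = x := by
  obtain ⟨A, B, p, q, rfl⟩ := F.surj' x hx
  obtain ⟨a, ha, rfl⟩ := sl_surj A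
  obtain ⟨b, hb, rfl⟩ := sl_surj B
  have hzi : ∀ n, z ^ n * F.i = F.i * z ^ n := commz_pow F.iz
  have hb' := snk_lt (e * (p / 2)) hb
  refine ⟨UFour.mk a (snk (e * (p / 2)) b) (p % 2) (q % 2), UFour.mk_lt hb' _ _, ?_⟩
  rw [F.phi_mk ha hb' (Nat.mod_lt _ (by norm_num)) (Nat.mod_lt _ (by norm_num)), F.hom2_snk hb,
    ← hom2_apply]
  have hp : F.i ^ p = z ^ (e * (p / 2)) * F.i ^ (p % 2) := by
    conv_lhs => rw [← Nat.div_add_mod p 2, pow_add, pow_mul, pow_two, F.i_sq, ← pow_mul]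
  rw [hp, pow_mod_two F.w_sq q, commz_pow (F.hom2_z (sl b)) (e * (p / 2))]
  simp only [mul_assoc]

theorem phi_inj [Finite G] {x y : ℕ} (hx : x < 1152) (hy : y < 1152) (h : F.phi x = F.phi y) :
    x = y := by
  let φ : Fin 1152 → Subgroup.centralizer ({z} : Set G) := fun n =>
    ⟨F.phi n, Subgroup.mem_centralizer_singleton_iff.2 (F.phi_comm_z n)⟩
  have hs : Function.Surjective φ := by
    rintro ⟨g, hg⟩
    obtain ⟨n, hn, rfl⟩ := F.phi_surj (Subgroup.mem_centralizer_singleton_iff.1 hg)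
    exact ⟨⟨n, hn⟩, rfl⟩
  have hb := (Nat.bijective_iff_surjective_and_card φ).2 ⟨hs, by rw [Nat.card_fin, F.card]⟩
  exact Fin.ext_iff.1 (@hb.1 ⟨x, hx⟩ ⟨y, hy⟩ (Subtype.ext h))

theorem phi_pp {a b : ℕ} (ha : a < 24) (hb : b < 24) :
    F.phi (UFour.mk a b 0 0) = pp F.hom F.hom2 a b := by
  rw [F.phi_mk ha hb (by norm_num) (by norm_num), pow_zero, pow_zero, mul_one, mul_one]
  rfl

end Frame

end Cfsg.Agent.H66.UFour
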