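import Cfsg.Agent.H66.UFour.Factors

/-!
A conjugate of the central involution inside the central product, and the group
`C_{Q^g}(z)` complementing the two quaternion groups.
-/

set_option autoImplicit false

namespace Cfsg.Agent.H66.UFour

variable {G : Type*} [Group G]

/-- membership in the central product of the two copies of `SL(2,3)` -/
def InK (e1 e2 : S2 →* G) (x : G) : Prop := ∃ A B, x = e1 A * e2 B

namespace Raw

variable {z : G} {e1 e2 : S2 →* G} (R : Raw z e1 e2)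
include R

theorem inK_code {x : G} (hx : InK e1 e2 x) : ∃ a < 24, ∃ b < 24, x = pp e1 e2 a b := by
  obtain ⟨A, B, rfl⟩ := hx
  obtain ⟨a, ha, rfl⟩ := sl_surj A
  obtain ⟨b, hb, rfl⟩ := sl_surj B
  exact ⟨a, ha, b, hb, rfl⟩

theorem inQ_inK {x : G} (hx : InQ e1 e2 x) : InK e1 e2 x := by
  obtain ⟨a, -, b, -, -, -, rfl⟩ := hx
  exact ⟨_, _, rfl⟩

theorem inQ_pow {x : G} (hx : InQ e1 e2 x) : x ^ 4 = 1 := by
  obtain ⟨a, ha, b, hb, qa, qb, rfl⟩ := hx
  rw [pow_succ, pow_succ, pow_succ, pow_one, mul_assoc, R.pp_mul ha hb ha hb,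
    R.pp_mul (sm_lt a ha a ha) (sm_lt b hb b hb) (sm_lt a ha a ha) (sm_lt b hb b hb)]
  simp only [isQ, Nat.beq_eq] at qa qb
  rw [qa, qb, R.pp_one]

/-- a `2`-element of `K` lies in `Q` -/
theorem inQ_of_pow {x : G} (hx : InK e1 e2 x) (h4 : x ^ 4 = 1) : InQ e1 e2 x := by
  obtain ⟨a, ha, b, hb, rfl⟩ := R.inK_code hx
  rw [pow_succ, pow_succ, pow_succ, pow_one, mul_assoc, R.pp_mul ha hb ha hb,
    R.pp_mul (sm_lt a ha a ha) (sm_lt b hb b hb) (sm_lt a ha a ha) (sm_lt b hb b hb), ← R.pp_one,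
    R.pp_eq_iff (sm_lt _ (sm_lt a ha a ha) _ (sm_lt a ha a ha))
      (sm_lt _ (sm_lt b hb b hb) _ (sm_lt b hb b hb)) (by norm_num) (by norm_num)] at h4
  obtain ⟨qa, qb⟩ := pair_four a ha b hb h4
  exact R.inQ_pp ha hb qa qb

theorem invol_codes {u : G} (hu : InQ e1 e2 u) (hsq : u * u = 1) (h1 : u ≠ 1) (hz : u ≠ z) :
    ∃ a < 24, ∃ b < 24, sm a a = 12 ∧ sm b b = 12 ∧ isQ a = true ∧ isQ b = true ∧
      u = pp e1 e2 a b := by
  obtain ⟨a, ha, b, hb, -, -, rfl⟩ := hu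
  rw [R.pp_mul ha hb ha hb, ← R.pp_one, R.pp_eq_iff (sm_lt a ha a ha) (sm_lt b hb b hb)
    (by norm_num) (by norm_num)] at hsq
  rw [← R.pp_one, Ne, R.pp_eq_iff ha hb (by norm_num) (by norm_num), Bool.not_eq_true] at h1
  rw [← R.pp_z1, Ne, R.pp_eq_iff ha hb (by norm_num) (by norm_num), Bool.not_eq_true] at hz
  obtain ⟨p, q, qa, qb⟩ := pair_invol a ha b hb hsq h1 hz
  exact ⟨a, ha, b, hb, p, q, qa, qb, rfl⟩

/-- the subgroup `Q` -/
def Qgrp : Subgroup G where
  carrier := {x | InQ e1 e2 x}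
  one_mem' := R.inQ_one
  mul_mem' := R.inQ_mul
  inv_mem' := R.inQ_inv

/-- the central product as a subgroup -/
def Kgrp : Subgroup G where
  carrier := {x | InK e1 e2 x}
  one_mem' := ⟨1, 1, by simp⟩
  mul_mem' := by
    rintro _ _ ⟨A, B, rfl⟩ ⟨C, D, rfl⟩
    refine ⟨A * C, B * D, ?_⟩
    rw [map_mul, map_mul]
    calc e1 A * e2 B * (e1 C * e2 D) = e1 A * (e2 B * e1 C) * e2 D := by group
      _ = e1 A * (e1 C * e2 B) * e2 D := by rw [R.comm]
      _ = _ := by group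
  inv_mem' := by
    rintro _ ⟨A, B, rfl⟩
    exact ⟨A⁻¹, B⁻¹, by rw [mul_inv_rev, map_inv, map_inv, ← map_inv, ← map_inv, R.comm]⟩

theorem inK_comm_z {x : G} (hx : InK e1 e2 x) : x * z = z * x := by
  obtain ⟨a, -, b, -, rfl⟩ := R.inK_code hx
  exact R.pp_comm_z a b

theorem card_Kgrp : Nat.card R.Kgrp = 288 := by
  have hbij : Function.Bijective (fun k : Fin 288 =>
      (⟨pp e1 e2 (k / 24) (k % 24), ⟨_, _, rfl⟩⟩ : R.Kgrp)) := by
    constructor
    · intro k l h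
      have h' := (R.pp_eq_iff (by omega) (Nat.mod_lt _ (by norm_num)) (by omega)
        (Nat.mod_lt _ (by norm_num))).1 (Subtype.ext_iff.1 h)
      have hsn : ∀ a < 12, sn a = a + 12 := by decide +kernel
      rcases peq_spec.1 h' with ⟨p, q⟩ | ⟨p, -⟩
      · exact Fin.ext (by omega)
      · rw [hsn _ (by omega)] at p
        omega
    · rintro ⟨x, hx⟩
      obtain ⟨a, ha, b, hb, rfl⟩ := R.inK_code hx
      by_cases h : a < 12
      · refine ⟨⟨24 * a + b, by omega⟩, Subtype.ext ?_⟩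
        show pp e1 e2 ((24 * a + b) / 24) ((24 * a + b) % 24) = _
        rw [show (24 * a + b) / 24 = a by omega, show (24 * a + b) % 24 = b by omega]
      · have hsn : ∀ a < 24, 12 ≤ a → sn a = a - 12 := by decide +kernel
        have hb' := sn_lt b hb
        refine ⟨⟨24 * (a - 12) + sn b, by omega⟩, Subtype.ext ?_⟩
        show pp e1 e2 ((24 * (a - 12) + sn b) / 24) ((24 * (a - 12) + sn b) % 24) = _
        rw [show (24 * (a - 12) + sn b) / 24 = a - 12 by omega,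
          show (24 * (a - 12) + sn b) % 24 = sn b by omega, ← hsn a ha (by omega)]
        exact R.pp_sn ha hb
  simpa using (Nat.card_congr (Equiv.ofBijective _ hbij)).symm

end Raw

end Cfsg.Agent.H66.UFour
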