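import Cfsg.Agent.H66.UFour.Sub

/-!
The generated subgroup contains `C(z)`, and all involutions of `C(z)` are conjugate to `z` in it.
-/

set_option autoImplicit false
set_option synthInstance.maxSize 4000
set_option synthInstance.maxHeartbeats 400000
set_option maxRecDepth 10000

namespace Cfsg.Agent.H66.UFour

/-- the code of `(a₂ or s)` -/
def gcode (j : ℕ) : ℕ := if j = 0 then cA2 else cS

/-- words in `a₂, s` for `(1, b)` -/
def slw (b : ℕ) : List ℕ :=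
  [[], [0], [0, 0], [0, 1, 0, 1, 1], [0, 0, 1, 0, 0], [1], [1, 0, 0], [1, 0], [0, 0, 1, 0, 1],
    [0, 0, 1], [0, 1, 1, 1], [0, 0, 1, 0], [1, 1], [0, 1, 1], [0, 0, 1, 1], [0, 1, 0], [1, 0, 1],
    [1, 1, 1], [0, 1, 0, 1], [1, 0, 1, 1], [0, 1, 0, 0], [1, 0, 1, 0], [0, 1],
    [1, 0, 1, 0, 0]].getD b []

/-- the code of a word -/
def slv : List ℕ → ℕ
  | [] => 0
  | j :: l => mh (gcode j) (slv l)

theorem gen_codes : (∀ n < 1152, n =
      mh (mh (mh (mh (mh cW (slv (slw (Nat.div n 96)))) cW) (slv (slw (Nat.mod (Nat.div n 4) 24))))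
        (if Nat.mod (Nat.div n 2) 2 = 0 then 0 else cI)) (if Nat.mod n 2 = 0 then 0 else cW)) ∧
    (∀ b < 24, slv (slw b) < 1152) ∧ cS < 1152 ∧ cA2 < 1152 ∧ cA1 < 1152 ∧
    (mh cW' cZU = 503 ∧ mh 21 503 = mh cW' 21 ∧ cW' < 1152 ∧ cZU < 1152) := by
  decide +kernel

theorem word_bc : (∀ v < 81, act [3] v = act ([2] ++ (wY2 ++ ([1] ++ (wY2 ++ wY2)))) v) ∧
    ∀ v < 81, act [4] v = act (wY1 ++ (wY1 ++ (wY2 ++ ([1] ++ (wY1 ++ wY2))))) v := by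
  decide +kernel

namespace Hyp

variable {G : Type*} [Group G] [Finite G] {z : G} (K : Hyp z)
variable {T : Subgroup G} {b c : G}

/-- the generated subgroup -/
def G1 (_C : K.Coords T b c) : Subgroup G :=
  Subgroup.closure {K.p cA1, K.p cA2, K.psi b 9, K.psi b 27, K.wv b c wY1, K.wv b c wY2, K.p cI,
    K.p cW, K.p cS}

variable (C : K.Coords T b c)

theorem G1_gens : K.p cA1 ∈ K.G1 C ∧ K.p cA2 ∈ K.G1 C ∧ K.wv b c wY1 ∈ K.G1 C ∧
    K.wv b c wY2 ∈ K.G1 C ∧ K.p cI ∈ K.G1 C ∧ K.p cW ∈ K.G1 C ∧ K.p cS ∈ K.G1 C := by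
  refine ⟨?_, ?_, ?_, ?_, ?_, ?_, ?_⟩ <;> exact Subgroup.subset_closure (by simp)

theorem slv_mem : ∀ l : List ℕ, slv l < 1152 ∧ K.p (slv l) ∈ K.G1 C
  | [] => ⟨by norm_num [slv], by
      show K.p 0 ∈ _
      rw [K.p_zero]; exact one_mem _⟩
  | j :: l => by
    obtain ⟨hl, hm⟩ := slv_mem l
    obtain ⟨-, g2, -, -, -, -, g7⟩ := K.G1_gens C
    obtain ⟨-, -, lS, lA2, -, -⟩ := gen_codes
    have hj : gcode j < 1152 ∧ K.p (gcode j) ∈ K.G1 C := by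
      unfold gcode
      split_ifs
      · exact ⟨lA2, g2⟩
      · exact ⟨lS, g7⟩
    refine ⟨Hyp.mh_lt hj.1 hl, ?_⟩
    show K.p (mh (gcode j) (slv l)) ∈ _
    rw [K.p_mh hj.1 hl]
    exact mul_mem hj.2 hm

theorem cent_le : Subgroup.centralizer ({z} : Set G) ≤ K.G1 C := by
  intro g hg
  rw [Subgroup.mem_centralizer_singleton_iff] at hg
  obtain ⟨n, hn, rfl⟩ := K.surj hg
  have hW : cW < 1152 := coord_facts.2.1.2.1
  have hI : cI < 1152 := zW'.2.1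
  obtain ⟨-, -, -, -, gI, gW, -⟩ := K.G1_gens C
  have m : ∀ {x y : ℕ}, x < 1152 ∧ K.p x ∈ K.G1 C → y < 1152 ∧ K.p y ∈ K.G1 C →
      mh x y < 1152 ∧ K.p (mh x y) ∈ K.G1 C := fun {x y} hx hy =>
    ⟨Hyp.mh_lt hx.1 hy.1, by rw [K.p_mh hx.1 hy.1]; exact mul_mem hx.2 hy.2⟩
  have z0 : (0 : ℕ) < 1152 ∧ K.p 0 ∈ K.G1 C := ⟨by norm_num, by rw [K.p_zero]; exact one_mem _⟩
  have hp : (if Nat.mod (Nat.div n 2) 2 = 0 then 0 else cI) < 1152 ∧
      K.p (if Nat.mod (Nat.div n 2) 2 = 0 then 0 else cI) ∈ K.G1 C := by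
    split_ifs
    exacts [z0, ⟨hI, gI⟩]
  have hq : (if Nat.mod n 2 = 0 then 0 else cW) < 1152 ∧
      K.p (if Nat.mod n 2 = 0 then 0 else cW) ∈ K.G1 C := by
    split_ifs
    exacts [z0, ⟨hW, gW⟩]
  rw [gen_codes.1 n hn]
  exact (m (m (m (m (m ⟨hW, gW⟩ (K.slv_mem C _)) ⟨hW, gW⟩) (K.slv_mem C _)) hp) hq).2

theorem bc_mem : b ∈ K.G1 C ∧ c ∈ K.G1 C := by
  obtain ⟨-, -, g3, g4, g5, g6, -⟩ := K.G1_gens C
  have h1 := K.word_eq C _ _ word_bc.1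
  have h2 := K.word_eq C _ _ word_bc.2
  rw [K.wv_append, K.wv_append, K.wv_append, K.wv_append, K.wv_one, K.wv_one, K.wv_one] at h1
  rw [K.wv_append, K.wv_append, K.wv_append, K.wv_append, K.wv_append, K.wv_one, K.wv_one] at h2
  change b = _ at h1
  change c = _ at h2
  have m1 : K.lv b c 2 * (K.wv b c wY2 * (K.lv b c 1 * (K.wv b c wY2 * K.wv b c wY2))) ∈ K.G1 C :=
    mul_mem g5 (mul_mem g4 (mul_mem g6 (mul_mem g4 g4)))
  have m2 : K.wv b c wY1 * (K.wv b c wY1 * (K.wv b c wY2 *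
      (K.lv b c 1 * (K.wv b c wY1 * K.wv b c wY2)))) ∈ K.G1 C :=
    mul_mem g3 (mul_mem g3 (mul_mem g4 (mul_mem g6 (mul_mem g3 g4))))
  rw [← h1] at m1
  rw [← h2] at m2
  exact ⟨m1, m2⟩

/-- every involution of `C(z)` is conjugate to `z` in the generated subgroup -/
theorem conj_z_of_invol {t : G} (htz : t * z = z * t) (htt : t * t = 1) (ht1 : t ≠ 1) :
    ∃ g ∈ K.G1 C, g * z * g⁻¹ = t := by
  rcases eq_or_ne t z with rfl | hne
  · exact ⟨1, one_mem _, by group⟩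
  obtain ⟨hb, hc⟩ := K.bc_mem C
  have inH : ∀ {x : G}, x * z = z * x → x ∈ K.G1 C := fun hx =>
    K.cent_le C (Subgroup.mem_centralizer_singleton_iff.2 hx)
  obtain ⟨f1, f2, lW', lZU⟩ := gen_codes.2.2.2.2.2
  have kw : ∃ g ∈ K.G1 C, g * z * g⁻¹ = K.p cW := ⟨b, hb, C.pre.hb.conj_z⟩
  have kw' : ∃ g ∈ K.G1 C, g * z * g⁻¹ = K.p cW' := ⟨c, hc, C.hc.conj_z⟩
  have ku : ∃ g ∈ K.G1 C, g * z * g⁻¹ = K.p cU := by
    obtain ⟨g, hg, eg⟩ := kw'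
    set q := K.p 21
    have hq : q ∈ K.G1 C := inH (K.p_comm_z _)
    refine ⟨c⁻¹ * (q⁻¹ * g), mul_mem (inv_mem hc) (mul_mem (inv_mem hq) hg), ?_⟩
    have e1 : q⁻¹ * K.p cW' * q = K.p 503 := by
      rw [mul_assoc, ← K.p_mh lW' (by norm_num), ← f2, K.p_mh (by norm_num) (by norm_num),
        inv_mul_cancel_left]
    have lU : cU < 1152 := coord_facts.2.1.1
    have e2 : c⁻¹ * K.p 503 * c = K.p cU := by
      have hu : K.p cU = z * K.p cZU := by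
        rw [coord_facts.2.2.2.2.2.1, K.p_mh zW'.2.2.1 lU, K.p_z, ← mul_assoc, K.raw.z_sq, one_mul]
      rw [← f1, K.p_mh lW' lZU, hu]
      calc c⁻¹ * (K.p cW' * K.p cZU) * c = c⁻¹ * K.p cW' * (K.p cZU * c) := by group
        _ = c⁻¹ * K.p cW' * (c * K.p cZU) := by rw [C.hc.comm_d1]
        _ = c⁻¹ * K.p cW' * c * K.p cZU := by group
        _ = _ := by rw [K.b_inv_w sideB C.hc]
    rw [← e2, ← e1, ← eg]
    group
  obtain ⟨h, hh, hcase⟩ := K.invol_cases htz htt ht1 hne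
  have hhG : h ∈ K.G1 C := inH hh
  have key : ∀ {v : G}, (∃ g ∈ K.G1 C, g * z * g⁻¹ = v) → h * t * h⁻¹ = v →
      ∃ g ∈ K.G1 C, g * z * g⁻¹ = t := by
    rintro v ⟨g, hg, eg⟩ e
    refine ⟨h⁻¹ * g, mul_mem (inv_mem hhG) hg, ?_⟩
    calc h⁻¹ * g * z * (h⁻¹ * g)⁻¹ = h⁻¹ * (g * z * g⁻¹) * h := by group
      _ = t := by rw [eg, ← e]; group
  rcases hcase with e | e | e
  exacts [key ku e, key kw e, key kw' e]

end Hyp

end Cfsg.Agent.H66.UFour
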