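import Cfsg.Agent.H66.UFour.Exclude
import Mathlib.GroupTheory.Perm.Cycle.Type

/-!
Computations in the model of the involution centraliser and their transfer.
-/

set_option autoImplicit false
set_option synthInstance.maxSize 4000
set_option synthInstance.maxHeartbeats 400000
set_option maxRecDepth 10000

namespace Cfsg.Agent.H66.UFour

/-- product in the model -/
def mh (x y : ℕ) : ℕ := mm 1 1 x y

/-- the code of `w` -/
def cW : ℕ := 1
/-- the code of `w i` -/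
def cW' : ℕ := 51
/-- the code of `i` -/
def cI : ℕ := 2
/-- the code of `a₁` -/
def cA1 : ℕ := 96
/-- the code of `a₂` -/
def cA2 : ℕ := 4
/-- the code of `a₁ a₂` -/
def cA : ℕ := 100
/-- the code of `a₁ a₂⁻¹` -/
def cA' : ℕ := 104
/-- the code of `(1, q)` -/
def cS : ℕ := 20
/-- the code of `z u` -/
def cZU : ℕ := 548

theorem code_facts : mh cW cI = cW' ∧ mh cA1 cA2 = cA ∧ mh cA' cA2 = cA1 ∧ mh cZ cU = cZU := by
  decide +kernel

/-- candidates for conjugating involutions to their representatives -/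
def conjK (j : ℕ) : ℕ := 4 * (j / 2) + 2 * (j % 2)

theorem invol_reps : allB 1152 (fun x =>
    !(Nat.beq (mh x x) 0) || Nat.beq x 0 || Nat.beq x cZ || anyB 576 (fun j =>
      Nat.beq (mh (conjK j) x) (mh cU (conjK j)) || Nat.beq (mh (conjK j) x) (mh cW (conjK j)) ||
        Nat.beq (mh (conjK j) x) (mh cW' (conjK j)))) = true := by
  decide +kernel

/-- the data producing the element `b` -/
structure FourCodes where
  /-- the element of order three -/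
  a : ℕ
  /-- the swapping involution -/
  w : ℕ
  /-- first involution of the four-group -/
  d1 : ℕ
  /-- second involution of the four-group -/
  d2 : ℕ
  /-- the elementary abelian group of order sixteen -/
  E : List ℕ

/-- the checks on the data -/
def FourCodes.OK (D : FourCodes) : Prop :=
  (D.a < 1152 ∧ D.w < 1152 ∧ D.d1 < 1152 ∧ D.d2 < 1152) ∧
  (D.E.length = 16 ∧ D.E.Nodup) ∧
  (∀ e ∈ D.E, e < 1152 ∧ mh e e = 0 ∧ mh e D.d1 = mh D.d1 e ∧ mh e D.d2 = mh D.d2 e ∧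
    (mh e D.a = mh D.a e → e = 0 ∨ e = cZ ∨ e = D.w ∨ e = mh cZ D.w)) ∧
  (isQ (ca D.d1) = true ∧ isQ (cb D.d1) = true ∧ cp D.d1 = 0 ∧ cq D.d1 = 0 ∧
    mh D.d1 D.d1 = 0 ∧ D.d1 ≠ 0 ∧ D.d1 ≠ cZ) ∧
  (isQ (ca D.d2) = true ∧ isQ (cb D.d2) = true ∧ cp D.d2 = 0 ∧ cq D.d2 = 0 ∧
    mh D.d2 D.d2 = 0 ∧ D.d2 ≠ 0 ∧ D.d2 ≠ cZ ∧ D.d2 ≠ D.d1 ∧ D.d2 ≠ mh cZ D.d1 ∧
    mh D.d1 D.d2 = mh D.d2 D.d1 ∧ mh D.d1 D.d2 ≠ cZ) ∧
  ((mh D.a D.d1 = mh D.d2 D.a ∨ mh D.a D.d1 = mh (mh D.d1 D.d2) D.a) ∧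
    (mh D.a D.d2 = mh D.d1 D.a ∨ mh D.a D.d2 = mh (mh D.d1 D.d2) D.a) ∧
    mh D.a (mh D.a D.a) = 0 ∧ cZ ∈ D.E ∧ D.w ∈ D.E)

/-- the data for `(a, w)` -/
def fourA : FourCodes := ⟨cA, cW, cU, 1100,
  [0, 1, 48, 49, 500, 501, 548, 549, 800, 801, 848, 849, 1100, 1101, 1148, 1149]⟩

/-- the data for `(a', w')` -/
def fourB : FourCodes := ⟨cA', cW', cZU, 812,
  [0, 3, 48, 51, 500, 503, 548, 551, 812, 815, 860, 863, 1088, 1091, 1136, 1139]⟩

theorem fourA_ok : fourA.OK := by unfold FourCodes.OK; decide +kernel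

theorem fourB_ok : fourB.OK := by unfold FourCodes.OK; decide +kernel

theorem cent_facts : ∀ x < 1152,
    (mh x cW = mh cW x → (mh x x = 0 → x ∈ fourA.E) ∧
      (mh x (mh x x) = 0 → x ≠ 0 → ∀ e ∈ fourA.E, mh e x = mh x e →
        e = 0 ∨ e = cZ ∨ e = cW ∨ e = mh cZ cW)) ∧
    (mh x cW' = mh cW' x → (mh x x = 0 → x ∈ fourB.E) ∧
      (mh x (mh x x) = 0 → x ≠ 0 → ∀ e ∈ fourB.E, mh e x = mh x e →
        e = 0 ∨ e = cZ ∨ e = cW' ∨ e = mh cZ cW')) := by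
  decide +kernel

theorem cent_count :
    cntB 1152 (fun x => Nat.beq (mh x cW) (mh cW x) && Nat.beq (mh x (mh x x)) 0) = 9 ∧
    cntB 1152 (fun x => Nat.beq (mh x cW') (mh cW' x) && Nat.beq (mh x (mh x x)) 0) = 9 := by
  decide +kernel

/-- the hypothesis bundle -/
structure Hyp {G : Type*} [Group G] (z : G) where
  /-- the parametrisation -/
  F : Frame z 1 1
  raw : Raw z F.hom F.hom2

namespace Hyp

variable {G : Type*} [Group G] [Finite G] {z : G} (K : Hyp z)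

/-- the element with given code -/
def p (x : ℕ) : G := K.F.phi x

omit [Finite G] in
theorem p_mh {x y : ℕ} (hx : x < 1152) (hy : y < 1152) : K.p (mh x y) = K.p x * K.p y :=
  K.F.phi_mul hx hy

omit [Finite G] in
theorem mh_lt {x y : ℕ} (hx : x < 1152) (hy : y < 1152) : mh x y < 1152 := Frame.mm_lt hx hy

theorem p_inj {x y : ℕ} (hx : x < 1152) (hy : y < 1152) (h : K.p x = K.p y) : x = y :=
  K.F.phi_inj hx hy h

omit [Finite G] in
theorem p_z : K.p cZ = z := K.F.phi_Z K.raw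

omit [Finite G] in
theorem p_zero : K.p 0 = 1 := K.F.phi_zero

omit [Finite G] in
theorem p_comm_z (x : ℕ) : K.p x * z = z * K.p x := K.F.phi_comm_z x

omit [Finite G] in
theorem surj {x : G} (hx : x * z = z * x) : ∃ n < 1152, K.p n = x := K.F.phi_surj hx

theorem comm_iff {x y : ℕ} (hx : x < 1152) (hy : y < 1152) :
    K.p x * K.p y = K.p y * K.p x ↔ mh x y = mh y x := K.F.commute_iff hx hy

omit [Finite G] in
theorem p_inQ {x : ℕ} (hx : x < 1152) (qa : isQ (ca x) = true) (qb : isQ (cb x) = true)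
    (hp : cp x = 0) (hq : cq x = 0) : InQ K.F.hom K.F.hom2 (K.p x) := by
  obtain ⟨a1, a2, -, -⟩ := Frame.code_lt hx
  rw [p, code_split x hx, hp, hq, K.F.phi_pp (by omega) a2]
  exact K.raw.inQ_pp (by omega) a2 qa qb

omit [Finite G] in
theorem invol_cases {x : G} (hx : x * z = z * x) (hxx : x * x = 1) (h1 : x ≠ 1) (hz : x ≠ z)
    [Finite G] : ∃ h, h * z = z * h ∧
      (h * x * h⁻¹ = K.p cU ∨ h * x * h⁻¹ = K.p cW ∨ h * x * h⁻¹ = K.p cW') := by
  obtain ⟨n, hn, rfl⟩ := K.surj hx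
  have h := allB_iff.1 invol_reps n hn
  simp only [Bool.or_eq_true, Bool.not_eq_true', anyB_iff] at h
  have hcU : cU < 1152 := by decide +kernel
  have hcW : cW < 1152 := by decide +kernel
  have hcW' : cW' < 1152 := by decide +kernel
  rcases h with ((h | h) | h) | ⟨j, hj, h⟩
  · have : mh n n = 0 := K.p_inj (mh_lt hn hn) (by norm_num) (by rw [K.p_mh hn hn, hxx, K.p_zero])
    rw [this] at h
    exact absurd h (by simp)
  · exact absurd (by rw [Nat.eq_of_beq_eq_true h, K.p_zero]) h1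
  · exact absurd (by rw [Nat.eq_of_beq_eq_true h, K.p_z]) hz
  · have hk : conjK j < 1152 := by unfold conjK; omega
    refine ⟨K.p (conjK j), K.p_comm_z _, ?_⟩
    have key : ∀ {r : ℕ}, r < 1152 → mh (conjK j) n = mh r (conjK j) →
        K.p (conjK j) * K.p n * (K.p (conjK j))⁻¹ = K.p r := fun hr e => by
      rw [← K.p_mh hk hn, e, K.p_mh hr hk, mul_inv_cancel_right]
    rcases h with (h | h) | h
    · exact Or.inl (key hcU (Nat.eq_of_beq_eq_true h))
    · exact Or.inr (Or.inl (key hcW (Nat.eq_of_beq_eq_true h)))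
    · exact Or.inr (Or.inr (key hcW' (Nat.eq_of_beq_eq_true h)))

/-- conjugation to an involution of `Q` -/
theorem conj_to_Q {x : ℕ} (hx : x < 1152) (qa : isQ (ca x) = true) (qb : isQ (cb x) = true)
    (hp : cp x = 0) (hq : cq x = 0) (hxx : mh x x = 0) (h1 : x ≠ 0) (hz : x ≠ cZ) :
    ∃ g, g * z * g⁻¹ = K.p x ∧ Good K.F.hom K.F.hom2 z g := by
  obtain ⟨g, hg, e, -⟩ := K.F.exists_swap_g K.raw
  have hQ := K.p_inQ hx qa qb hp hq
  have hne1 : K.p x ≠ 1 := fun h => h1 (K.p_inj hx (by norm_num) (by rw [h, K.p_zero]))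
  have hnez : K.p x ≠ z := fun h => hz (K.p_inj hx (by decide +kernel) (by rw [h, K.p_z]))
  have hsq : K.p x * K.p x = 1 := by rw [← K.p_mh hx hx, hxx, K.p_zero]
  obtain ⟨a, ha, b, hb, sa, sb, -, -, e'⟩ := K.raw.invol_codes hQ hsq hne1 hnez
  obtain ⟨h, hh, hc⟩ := K.raw.conj_pp ha hb sa sb
  refine ⟨h⁻¹ * g, ?_⟩
  have e2 : h⁻¹ * g * z * (h⁻¹ * g)⁻¹ = K.p x := by
    calc h⁻¹ * g * z * (h⁻¹ * g)⁻¹ = h⁻¹ * (g * z * g⁻¹) * h := by group
      _ = h⁻¹ * (h * K.p x * h⁻¹) * h := by rw [e, K.F.phi_U, ← hc, e']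
      _ = _ := by group
  exact ⟨e2, e2 ▸ hQ, e2 ▸ hnez⟩

end Hyp

end Cfsg.Agent.H66.UFour
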