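import Cfsg.Agent.H66.UFour.HFacts
import Cfsg.Agent.Cores.PCore
import Cfsg.Agent.Components.Basic
import Cfsg.Prelude.Def_Local

/-!
From the statement of U4(3) type to the parametrised hypotheses.
-/

set_option autoImplicit false
set_option maxRecDepth 10000

namespace Cfsg.Agent.H66.UFour

theorem sl_gen : ∀ a < 24, ∃ b < 24, ∃ c < 24, ∃ d < 24, sm b (sm b b) = 0 ∧ sm c (sm c c) = 0 ∧
    sm d (sm d d) = 0 ∧ sm (sm b c) d = a := by
  decide +kernel

theorem sl_invol : ∀ a < 24, sm a a = 0 → a = 0 ∨ a = 12 := by decide +kernel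

theorem sl_q8 : (∀ a < 24, isQ a = true → ∀ b < 24, isQ (sm (sm b a) (si b)) = true) ∧
    (∀ a < 24, isQ a = true → sm (sm a a) (sm a a) = 0) ∧ isQ 12 = true ∧ isQ 0 = true := by
  decide +kernel

/-- eighth power -/
def sp8 (a : ℕ) : ℕ := sm (sm (sm a a) (sm a a)) (sm (sm a a) (sm a a))

theorem q8_pairs : ∀ a < 24, ∀ b < 24,
    ((sp8 a = 0 ∧ sp8 b = 0) ∨ (sp8 a = 12 ∧ sp8 b = 12)) → isQ a = true ∧ isQ b = true := by
  decide +kernel

theorem sl_pow24 (g : S2) : g ^ 24 = 1 := by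
  let f : Fin 24 → S2 := fun a => sl a
  have hb : Function.Bijective f := ⟨fun a b h => Fin.ext (sl_inj a.2 b.2 h), fun g => by
    obtain ⟨a, ha, rfl⟩ := sl_surj g
    exact ⟨⟨a, ha⟩, rfl⟩⟩
  have hc : Nat.card S2 = 24 := by rw [← Nat.card_congr (Equiv.ofBijective f hb), Nat.card_fin]
  rw [← hc]
  exact pow_card_eq_one'

/-- the quaternion group in `SL(2,3)` -/
def Q8 : Subgroup S2 where
  carrier := {g | ∃ a < 24, isQ a = true ∧ sl a = g}
  one_mem' := ⟨0, by norm_num, sl_q8.2.2.2, sl_zero⟩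
  mul_mem' := by
    rintro _ _ ⟨a, ha, qa, rfl⟩ ⟨b, hb, qb, rfl⟩
    exact ⟨_, sm_lt a ha b hb, (q_closed a ha qa b hb qb).1, sl_mul ha hb⟩
  inv_mem' := by
    rintro _ ⟨a, ha, qa, rfl⟩
    exact ⟨_, (si_spec a ha).1, (q_closed a ha qa a ha qa).2.1, sl_inv ha⟩

theorem Q8_normal : Q8.Normal := by
  constructor
  rintro _ ⟨a, ha, qa, rfl⟩ g
  obtain ⟨b, hb, rfl⟩ := sl_surj g
  exact ⟨_, sm_lt _ (sm_lt b hb a ha) _ (si_spec b hb).1, sl_q8.1 a ha qa b hb, by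
    rw [sl_mul (sm_lt b hb a ha) (si_spec b hb).1, sl_mul hb ha, sl_inv hb]⟩

theorem Q8_pgroup : IsPGroup 2 Q8 := by
  rintro ⟨g, a, ha, qa, rfl⟩
  refine ⟨2, Subtype.ext ?_⟩
  show sl a ^ 2 ^ 2 = 1
  rw [show (2 : ℕ) ^ 2 = 2 + 2 from rfl, pow_add, pow_two, ← sl_mul ha ha,
    ← sl_mul (sm_lt a ha a ha) (sm_lt a ha a ha), sl_q8.2.1 a ha qa, sl_zero]

theorem sl_neg_one_sq : (-1 : S2) * -1 = 1 := by
  rw [← sl_twelve, ← sl_mul (by norm_num) (by norm_num), show sm 12 12 = 0 by decide +kernel,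
    sl_zero]

theorem sl_closure_cubes (P : Subgroup S2) (h : ∀ g : S2, g * (g * g) = 1 → g ∈ P) (g : S2) :
    g ∈ P := by
  obtain ⟨a, ha, rfl⟩ := sl_surj g
  obtain ⟨b, hb, c, hc, d, hd, b3, c3, d3, e⟩ := sl_gen a ha
  have m : ∀ {x : ℕ}, x < 24 → sm x (sm x x) = 0 → sl x ∈ P := fun {x} hx h3 => h _ (by
    rw [← sl_mul hx hx, ← sl_mul hx (sm_lt x hx x hx), h3, sl_zero])
  rw [← e, sl_mul (sm_lt b hb c hc) hd, sl_mul hb hc]
  exact mul_mem (mul_mem (m hb b3) (m hc c3)) (m hd d3)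

variable {G : Type*} [Group G] [Finite G]

/-- the statement's hypotheses give the parametrised ones -/
theorem exists_hyp (z : G) (hz : orderOf z = 2)
    (H₁ H₂ : Subgroup (Subgroup.centralizer ({z} : Set G)))
    (hK : H₁ ⊔ H₂ = Subgroup.closure {x : Subgroup.centralizer ({z} : Set G) | Odd (orderOf x)})
    (hn₁ : (H₁.subgroupOf (H₁ ⊔ H₂)).Normal) (hn₂ : (H₂.subgroupOf (H₁ ⊔ H₂)).Normal)
    (e₁ : H₁ ≃* S2) (e₂ : H₂ ≃* S2)
    (hmeet : (H₁ ⊓ H₂).map (Subgroup.subtype (Subgroup.centralizer ({z} : Set G))) =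
      Subgroup.zpowers z)
    (Q : Subgroup (Subgroup.centralizer ({z} : Set G)))
    (hQ : Q = (Cfsg.pCore 2 ↥(H₁ ⊔ H₂)).map (Subgroup.subtype (H₁ ⊔ H₂)))
    (hF : Cfsg.generalizedFittingSubgroup (Subgroup.centralizer ({z} : Set G)) = Q)
    (hnwc : ∃ g : G, (∃ hq : g * z * g⁻¹ ∈ Subgroup.centralizer ({z} : Set G),
      (⟨g * z * g⁻¹, hq⟩ : Subgroup.centralizer ({z} : Set G)) ∈ Q) ∧ g * z * g⁻¹ ≠ z)
    (hH : Nat.card ↥(Subgroup.centralizer ({z} : Set G)) = 2 ^ 7 * 3 ^ 2)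
    (hQQg : ∀ g : G, g * z * g⁻¹ ∈ Q.map (Subgroup.subtype (Subgroup.centralizer ({z} : Set G))) →
      g * z * g⁻¹ ≠ z →
      Nat.card ↥((Q.map (Subgroup.subtype (Subgroup.centralizer ({z} : Set G)))) ⊓
        (Q.map (Subgroup.subtype (Subgroup.centralizer ({z} : Set G)))).map
          (MulAut.conj g).toMonoidHom) = 4) :
    Nonempty (Hyp z) := by
  classical
  have zz : z * z = 1 := by rw [← pow_two, ← hz, pow_orderOf_eq_one]
  have zne : z ≠ 1 := fun h => by rw [h, orderOf_one] at hz; norm_num at hz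
  have hzH : z ∈ (Subgroup.centralizer ({z} : Set G)) := Subgroup.mem_centralizer_singleton_iff.2 rfl
  set zH : (Subgroup.centralizer ({z} : Set G)) := ⟨z, hzH⟩ with hzH'
  have zcen : ∀ x : (Subgroup.centralizer ({z} : Set G)), x * zH = zH * x := fun x =>
    Subtype.ext (Subgroup.mem_centralizer_singleton_iff.1 x.2)
  have inf_cases : ∀ {x : (Subgroup.centralizer ({z} : Set G))}, x ∈ H₁ ⊓ H₂ → x = 1 ∨ x = zH := by
    intro x hx
    have : (x : G) ∈ Subgroup.zpowers z := by rw [← hmeet]; exact ⟨x, hx, rfl⟩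
    obtain ⟨k, hk⟩ := (mem_powers_iff_mem_zpowers.2 this : (x : G) ∈ Submonoid.powers z)
    change z ^ k = x at hk
    rw [← pow_mod_orderOf, hz] at hk
    rcases Nat.mod_two_eq_zero_or_one k with e | e <;> rw [e] at hk
    · left; exact Subtype.ext (by rw [← hk, pow_zero]; rfl)
    · right; exact Subtype.ext (by rw [← hk, pow_one])
  have hzI : zH ∈ H₁ ⊓ H₂ := by
    have : z ∈ (H₁ ⊓ H₂).map (Subgroup.centralizer ({z} : Set G)).subtype := by rw [hmeet]; exact Subgroup.mem_zpowers z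
    obtain ⟨x, hx, e⟩ := this
    have : x = zH := Subtype.ext e
    exact this ▸ hx
  set f₁ : S2 →* (Subgroup.centralizer ({z} : Set G)) := H₁.subtype.comp e₁.symm.toMonoidHom with hf₁
  set f₂ : S2 →* (Subgroup.centralizer ({z} : Set G)) := H₂.subtype.comp e₂.symm.toMonoidHom with hf₂
  have i₁ : Function.Injective f₁ := H₁.subtype_injective.comp e₁.symm.injective
  have i₂ : Function.Injective f₂ := H₂.subtype_injective.comp e₂.symm.injective
  have r₁ : ∀ {x : (Subgroup.centralizer ({z} : Set G))}, x ∈ H₁ → ∃ A, f₁ A = x := fun {x} hx =>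
    ⟨e₁ ⟨x, hx⟩, congrArg Subtype.val (e₁.symm_apply_apply _)⟩
  have r₂ : ∀ {x : (Subgroup.centralizer ({z} : Set G))}, x ∈ H₂ → ∃ A, f₂ A = x := fun {x} hx =>
    ⟨e₂ ⟨x, hx⟩, congrArg Subtype.val (e₂.symm_apply_apply _)⟩
  have negOne : ∀ (f : S2 →* (Subgroup.centralizer ({z} : Set G))), Function.Injective f → (∃ A, f A = zH) → f (-1) = zH := by
    rintro f hf ⟨A, hA⟩
    obtain ⟨a, ha, rfl⟩ := sl_surj A
    have : sl (sm a a) = sl 0 := by
      refine hf ?_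
      rw [sl_mul ha ha, map_mul, hA, sl_zero, map_one]
      exact Subtype.ext zz
    rcases sl_invol a ha (sl_inj (sm_lt a ha a ha) (by norm_num) this) with rfl | rfl
    · exfalso
      rw [sl_zero, map_one] at hA
      exact zne (congrArg Subtype.val hA).symm
    · rw [← sl_twelve]; exact hA
  have n₁ : f₁ (-1) = zH := negOne f₁ i₁ (r₁ hzI.1)
  have n₂ : f₂ (-1) = zH := negOne f₂ i₂ (r₂ hzI.2)
  have hcomm : ∀ A B, Commute (f₁ A) (f₂ B) := by
    intro A B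
    let P : Subgroup S2 := (Subgroup.centralizer ({f₂ B} : Set (Subgroup.centralizer ({z} : Set G)))).comap f₁
    suffices hA : A ∈ P from Subgroup.mem_centralizer_singleton_iff.1 hA
    refine sl_closure_cubes P (fun X hX => ?_) A
    show f₁ X ∈ Subgroup.centralizer ({f₂ B} : Set (Subgroup.centralizer ({z} : Set G)))
    rw [Subgroup.mem_centralizer_singleton_iff]
    set x := f₁ X with hx
    set y := f₂ B with hy
    have hx1 : x ∈ H₁ := (e₁.symm X).2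
    have hy2 : y ∈ H₂ := (e₂.symm B).2
    have xK : x ∈ H₁ ⊔ H₂ := Subgroup.mem_sup_left hx1
    have yK : y ∈ H₁ ⊔ H₂ := Subgroup.mem_sup_right hy2
    have c1 : y * x * y⁻¹ ∈ H₁ := hn₁.conj_mem ⟨x, xK⟩ hx1 ⟨y, yK⟩
    have c2 : x * y⁻¹ * x⁻¹ ∈ H₂ := hn₂.conj_mem ⟨y⁻¹, inv_mem yK⟩ (inv_mem hy2) ⟨x, xK⟩
    have hI : y * x * y⁻¹ * x⁻¹ ∈ H₁ ⊓ H₂ := Subgroup.mem_inf.2 ⟨mul_mem c1 (inv_mem hx1), by
      have := mul_mem hy2 c2
      rwa [show y * (x * y⁻¹ * x⁻¹) = y * x * y⁻¹ * x⁻¹ by group] at this⟩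
    have hx3 : x * (x * x) = 1 := by rw [hx, ← map_mul, ← map_mul, hX, map_one]
    rcases inf_cases hI with h | h
    · exact (mul_inv_eq_iff_eq_mul.1 (mul_inv_eq_one.1 h)).symm
    · exfalso
      have e : y * x * y⁻¹ = zH * x := mul_inv_eq_iff_eq_mul.1 h
      have e3 : zH * x * (zH * x * (zH * x)) = 1 := by
        rw [← e]
        calc y * x * y⁻¹ * (y * x * y⁻¹ * (y * x * y⁻¹)) = y * (x * (x * x)) * y⁻¹ := by group
          _ = 1 := by rw [hx3]; group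
      have hc : Commute zH x := (zcen x).symm
      have : zH = 1 := by
        calc zH = zH * (x * (x * x)) := by rw [hx3, mul_one]
          _ = zH * (zH * zH) * (x * (x * x)) := by
            rw [show zH * zH = 1 from Subtype.ext zz, mul_one]
          _ = zH * x * (zH * x * (zH * x)) := by
            simp only [mul_assoc]
            rw [← mul_assoc x zH, ← hc.eq, mul_assoc, ← mul_assoc x zH, ← hc.eq, mul_assoc,
              ← mul_assoc x zH, ← hc.eq, mul_assoc]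
          _ = 1 := e3
      exact zne (congrArg Subtype.val this)
  set ψ : S2 × S2 →* (Subgroup.centralizer ({z} : Set G)) := MonoidHom.noncommCoprod f₁ f₂ hcomm with hψ
  have ψ_eq : ∀ A B, ψ (A, B) = f₁ A * f₂ B := fun A B => rfl
  have hψr : ψ.range = H₁ ⊔ H₂ := by
    rw [hψ, MonoidHom.noncommCoprod_range]
    congr 1
    · exact le_antisymm (by rintro _ ⟨A, rfl⟩; exact (e₁.symm A).2) (fun x hx => r₁ hx)
    · exact le_antisymm (by rintro _ ⟨A, rfl⟩; exact (e₂.symm A).2) (fun x hx => r₂ hx)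
  set g₁ : S2 →* G := (Subgroup.centralizer ({z} : Set G)).subtype.comp f₁ with hg₁
  set g₂ : S2 →* G := (Subgroup.centralizer ({z} : Set G)).subtype.comp f₂ with hg₂
  have meet : ∀ A B, g₁ A = g₂ B → (A = 1 ∧ B = 1) ∨ (A = -1 ∧ B = -1) := by
    intro A B h
    have h' : f₁ A = f₂ B := Subtype.ext h
    have hI : f₁ A ∈ H₁ ⊓ H₂ := ⟨(e₁.symm A).2, h' ▸ (e₂.symm B).2⟩
    rcases inf_cases hI with e | e
    · exact Or.inl ⟨i₁ (e.trans f₁.map_one.symm), i₂ (h'.symm.trans (e.trans f₂.map_one.symm))⟩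
    · exact Or.inr ⟨i₁ (e.trans n₁.symm), i₂ (h'.symm.trans (e.trans n₂.symm))⟩
  -- identify `Q`
  have ψpp : ∀ a b, ((ψ (sl a, sl b) : (Subgroup.centralizer ({z} : Set G))) : G) = pp g₁ g₂ a b := fun a b => rfl
  have hQm : ∀ x : (Subgroup.centralizer ({z} : Set G)), x ∈ Q ↔ InQ g₁ g₂ (x : G) := by
    let ψK : S2 × S2 →* ↥(H₁ ⊔ H₂) := ψ.codRestrict (H₁ ⊔ H₂) (fun p => hψr ▸ ⟨p, rfl⟩)
    have sK : Function.Surjective ψK := by
      rintro ⟨x, hx⟩
      rw [← hψr] at hx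
      obtain ⟨p, hp⟩ := hx
      exact ⟨p, Subtype.ext hp⟩
    haveI := Q8_normal
    intro x
    rw [hQ]
    constructor
    · rintro ⟨⟨y, hy⟩, hyC, rfl⟩
      obtain ⟨⟨A, B⟩, hp⟩ := sK ⟨y, hy⟩
      obtain ⟨a, ha, rfl⟩ := sl_surj A
      obtain ⟨b, hb, rfl⟩ := sl_surj B
      obtain ⟨k, hk⟩ := Cores.pCore_isPGroup ⟨_, hyC⟩
      have h24 : (⟨y, hy⟩ : ↥(H₁ ⊔ H₂)) ^ 24 = 1 := by
        rw [← hp, ← map_pow, Prod.pow_mk, sl_pow24, sl_pow24]
        exact map_one ψK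
      have h2 : (⟨y, hy⟩ : ↥(H₁ ⊔ H₂)) ^ 2 ^ k = 1 := congrArg Subtype.val hk
      have h8 : (⟨y, hy⟩ : ↥(H₁ ⊔ H₂)) ^ 8 = 1 := by
        rw [← orderOf_dvd_iff_pow_eq_one] at h24 h2 ⊢
        obtain ⟨j, -, hj⟩ := (Nat.dvd_prime_pow Nat.prime_two).1 h2
        rw [hj] at h24 ⊢
        have : j ≤ 3 := by
          by_contra h
          have : 2 ^ 4 ∣ 24 := (Nat.pow_dvd_pow 2 (show 4 ≤ j by omega)).trans h24
          norm_num at this
        exact Nat.pow_dvd_pow 2 this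
      have s2 := fun {c : ℕ} (hc : c < 24) => sm_lt c hc c hc
      have p8 : ∀ {c : ℕ}, c < 24 → sl c ^ 8 = sl (sp8 c) := fun {c} hc => by
        rw [show sp8 c = sm (sm (sm c c) (sm c c)) (sm (sm c c) (sm c c)) from rfl,
          show (8 : ℕ) = 2 * 2 * 2 by norm_num, pow_mul, pow_mul,
          sl_mul (s2 (s2 hc)) (s2 (s2 hc)), sl_mul (s2 hc) (s2 hc), sl_mul hc hc, pow_two, pow_two,
          pow_two]
      rw [← hp, ← map_pow, Prod.pow_mk, p8 ha, p8 hb] at h8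
      have l8 : sp8 a < 24 ∧ sp8 b < 24 := ⟨s2 (s2 (s2 ha)), s2 (s2 (s2 hb))⟩
      have l8b := (si_spec _ l8.2)
      have e8 : g₁ (sl (sp8 a)) = g₂ (sl (si (sp8 b))) := by
        have h8' : g₁ (sl (sp8 a)) * g₂ (sl (sp8 b)) = 1 :=
          congrArg (fun t : ↥(H₁ ⊔ H₂) => ((t : (Subgroup.centralizer ({z} : Set G))) : G)) h8
        rw [sl_inv l8.2, map_inv]
        exact eq_inv_of_mul_eq_one_left h8'
      have hcase : (sp8 a = 0 ∧ sp8 b = 0) ∨ (sp8 a = 12 ∧ sp8 b = 12) := by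
        rw [sl_inv l8.2] at e8
        rcases meet _ _ e8 with ⟨p, q⟩ | ⟨p, q⟩
        · exact Or.inl ⟨sl_inj l8.1 (by norm_num) (p.trans sl_zero.symm),
            sl_inj l8.2 (by norm_num) ((inv_eq_one.1 q).trans sl_zero.symm)⟩
        · refine Or.inr ⟨sl_inj l8.1 (by norm_num) (p.trans sl_twelve.symm),
            sl_inj l8.2 (by norm_num) ?_⟩
          rw [sl_twelve, ← inv_inv (sl (sp8 b)), q]
          exact inv_eq_of_mul_eq_one_right sl_neg_one_sq
      obtain ⟨qa, qb⟩ := q8_pairs a ha b hb hcase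
      exact ⟨a, ha, b, hb, qa, qb, congrArg (fun t : ↥(H₁ ⊔ H₂) => ((t : (Subgroup.centralizer ({z} : Set G))) : G)) hp⟩
    · rintro ⟨a, ha, b, hb, qa, qb, e⟩
      haveI : ((Q8.prod Q8).map ψK).Normal :=
        Subgroup.Normal.map (Subgroup.prod_normal Q8 Q8) ψK sK
      have hp : IsPGroup 2 (Q8.prod Q8) := by
        rintro ⟨⟨A, B⟩, hA, hB⟩
        obtain ⟨k, hk⟩ := Q8_pgroup ⟨A, hA⟩
        obtain ⟨l, hl⟩ := Q8_pgroup ⟨B, hB⟩
        refine ⟨k + l, Subtype.ext ?_⟩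
        have hk' : A ^ 2 ^ k = 1 := congrArg Subtype.val hk
        have hl' : B ^ 2 ^ l = 1 := congrArg Subtype.val hl
        show (A, B) ^ 2 ^ (k + l) = 1
        rw [Prod.pow_mk, pow_add, pow_mul, hk', one_pow, mul_comm, pow_mul, hl', one_pow]
        rfl
      exact ⟨ψK (sl a, sl b), Cores.le_pCore (hp.map ψK)
        ⟨(sl a, sl b), ⟨⟨a, ha, qa, rfl⟩, ⟨b, hb, qb, rfl⟩⟩, rfl⟩, Subtype.ext e⟩
  have hQH : ∀ {x : G}, InQ g₁ g₂ x → x ∈ (Subgroup.centralizer ({z} : Set G)) := by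
    rintro x ⟨a, -, b, -, -, -, rfl⟩
    exact (ψ (sl a, sl b)).2
  have hQmap : ∀ x : G, x ∈ Q.map (Subgroup.centralizer ({z} : Set G)).subtype ↔ InQ g₁ g₂ x := fun x =>
    ⟨by rintro ⟨y, hy, rfl⟩; exact (hQm y).1 hy, fun h => ⟨⟨x, hQH h⟩, (hQm _).2 h, rfl⟩⟩
  have hKn : (H₁ ⊔ H₂).Normal := by
    constructor
    intro n hn g
    rw [hK] at hn ⊢
    induction hn using Subgroup.closure_induction with
    | mem x hx =>
      refine Subgroup.subset_closure ?_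
      show Odd (orderOf (g * x * g⁻¹))
      have := (MulAut.conj g).orderOf_eq x
      simp only [MulAut.conj_apply] at this
      rwa [this]
    | one => simp
    | mul x y _ _ hx hy => rw [← conj_mul]; exact mul_mem hx hy
    | inv x _ hx => rw [← conj_inv]; exact inv_mem hx
  have hQn : Q.Normal := by
    rw [hQ]
    haveI : (Cfsg.pCore 2 ↥(H₁ ⊔ H₂)).Characteristic := Cores.pCore_characteristic
    exact ConjAct.normal_of_characteristic_of_normal
  have R : Raw z g₁ g₂ := by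
    refine ⟨zne, zz, congrArg Subtype.val n₁, congrArg Subtype.val n₂,
      (Subgroup.centralizer ({z} : Set G)).subtype_injective.comp i₁, (Subgroup.centralizer ({z} : Set G)).subtype_injective.comp i₂,
      fun A B => congrArg Subtype.val (hcomm A B), meet, by rw [hH]; norm_num, ?_, ?_, ?_, ?_, ?_⟩
    · intro h hh A B
      have hm : (⟨h, Subgroup.mem_centralizer_singleton_iff.2 hh⟩ : (Subgroup.centralizer ({z} : Set G))) * ψ (A, B) *
          (⟨h, Subgroup.mem_centralizer_singleton_iff.2 hh⟩ : (Subgroup.centralizer ({z} : Set G)))⁻¹ ∈ H₁ ⊔ H₂ :=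
        hKn.conj_mem _ (hψr ▸ ⟨(A, B), rfl⟩) _
      rw [← hψr] at hm
      obtain ⟨⟨C, D⟩, e⟩ := hm
      exact ⟨C, D, (congrArg Subtype.val e).symm⟩
    · intro h hh x hx
      exact (hQm _).1 (hQn.conj_mem _ ((hQm ⟨x, hQH hx⟩).2 hx)
        ⟨h, Subgroup.mem_centralizer_singleton_iff.2 hh⟩)
    · intro h hh hcent
      refine (hQm ⟨h, Subgroup.mem_centralizer_singleton_iff.2 hh⟩).1 ?_
      rw [← hF]
      refine Components.centralizer_genFitting_le ?_
      rw [hF, Subgroup.mem_centralizer_iff]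
      intro y hy
      exact Subtype.ext (hcent y ((hQm y).1 hy)).symm
    · obtain ⟨g, ⟨hq, hgQ⟩, hne⟩ := hnwc
      exact ⟨g, (hQm _).1 hgQ, hne⟩
    · intro g hg hne
      rw [← hQQg g ((hQmap _).2 hg) hne]
      refine Nat.card_congr (Equiv.subtypeEquivRight fun x => ?_)
      rw [Subgroup.mem_inf, hQmap, Subgroup.mem_map_equiv, hQmap, MulAut.conj_symm_apply]
  obtain ⟨F, RF⟩ := R.exists_good_frame
  exact ⟨⟨F, RF⟩⟩

end Cfsg.Agent.H66.UFour
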