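import Cfsg.Agent.H66.UFour.Fours

/-!
Model computations around the elementary abelian group `A` of order nine.
-/

set_option autoImplicit false
set_option synthInstance.maxSize 4000
set_option synthInstance.maxHeartbeats 400000
set_option maxRecDepth 10000

namespace Cfsg.Agent.H66.UFour

/-- the codes of `A` -/
def listA : List ℕ := [0, 4, 8, 96, 100, 104, 192, 196, 200]

/-- ninth power -/
def pw9 (x : ℕ) : ℕ := mh (mh (mh x (mh x x)) (mh x (mh x x))) (mh x (mh x x))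

/-- thirty-sixth power -/
def pw36 (x : ℕ) : ℕ := mh (mh (pw9 x) (pw9 x)) (mh (pw9 x) (pw9 x))

theorem a_facts : ∀ x < 1152,
    (mh x cA1 = mh cA1 x → mh x x = 0 → x = 0 ∨ x = cZ) ∧
    (mh x cA2 = mh cA2 x → mh x x = 0 → x = 0 ∨ x = cZ) ∧
    (mh x cA = mh cA x → pw36 x = 0 ∧ (pw9 x = 0 → x ∈ listA)) ∧
    (mh x cA' = mh cA' x → pw36 x = 0 ∧ (pw9 x = 0 → x ∈ listA)) ∧
    (mh x cA1 = mh cA1 x → mh x cA2 = mh cA2 x → x ∈ listA ∨ mh cZ x ∈ listA) := by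
  decide +kernel

theorem listA_ok : (∀ x ∈ listA, x < 1152 ∧ mh x (mh x x) = 0 ∧ mh x cA1 = mh cA1 x ∧
    mh x cA2 = mh cA2 x) ∧ (∀ x ∈ listA, ∀ y ∈ listA, mh x y ∈ listA) ∧
    (∀ x ∈ listA, ∃ i < 3, ∃ j < 3, x = 96 * i + 4 * j) := by
  decide +kernel

theorem norm_facts : ∀ x < 1152, (∃ y ∈ listA, mh x cA1 = mh y x) → (∃ y ∈ listA, mh x cA2 = mh y x) →
    mh (mh x x) (mh x x) ∈ listA ∧ (pw9 x = 0 → x ∈ listA) ∧
      mh x cA ≠ mh cA' x ∧ mh x cA ≠ mh (mh cA' cA') x := by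
  decide +kernel

/-- coordinates on the group `⟨z, w, d₁, d₂⟩` -/
def eCode (k : ℕ) : ℕ := [0, 48, 1, 49, 500, 548, 501, 549, 1100, 1148, 1101, 1149, 800, 848, 801,
  849].getD k 0

/-- action of `(q, 1)` -/
def actT (k : ℕ) : ℕ := [0, 1, 7, 6, 4, 5, 3, 2, 9, 8, 14, 15, 13, 12, 10, 11].getD k 0

/-- action of `a` -/
def actA (k : ℕ) : ℕ := [0, 1, 2, 3, 12, 13, 14, 15, 4, 5, 6, 7, 8, 9, 10, 11].getD k 0

/-- action of `b` -/
def actB (k : ℕ) : ℕ := [0, 2, 3, 1, 4, 6, 7, 5, 8, 10, 11, 9, 12, 14, 15, 13].getD k 0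

theorem e_ok : ∀ k < 16, eCode k < 1152 ∧ eCode k ∈ fourA.E ∧ mh (eCode k) (eCode k) = 0 ∧
    actT k < 16 ∧ actA k < 16 ∧ actB k < 16 ∧
    mh 480 (eCode k) = mh (eCode (actT k)) 480 ∧ mh cA (eCode k) = mh (eCode (actA k)) cA ∧
    eCode k = mh (mh (cond (Nat.beq (Nat.mod k 2) 0) 0 cZ) (cond (Nat.beq (Nat.mod (Nat.div k 2) 2) 0) 0 cW))
      (mh (cond (Nat.beq (Nat.mod (Nat.div k 4) 2) 0) 0 cU) (cond (Nat.beq (Nat.div k 8) 0) 0 1100)) ∧
    eCode (actB k) = mh (mh (cond (Nat.beq (Nat.mod k 2) 0) 0 cW) (cond (Nat.beq (Nat.mod (Nat.div k 2) 2) 0) 0 49))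
      (mh (cond (Nat.beq (Nat.mod (Nat.div k 4) 2) 0) 0 cU) (cond (Nat.beq (Nat.div k 8) 0) 0 1100)) := by
  decide +kernel

theorem e_cover : ∀ x < 1152, mh x cW = mh cW x → mh x cU = mh cU x → mh x 1100 = mh 1100 x →
    ∃ k < 16, x = eCode k := by
  decide +kernel

/-- the composite action of the conjugating word -/
def actN (k : ℕ) : ℕ :=
  actT (actB (actA (actT (actB (actA (actA (actT k)))))))

theorem word_ok : ∀ k < 16, actN (actA k) = actB (actN k) := by decide +kernel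

theorem split_ok : ∀ k < 16, mh (mh (eCode (actB k)) (eCode (actB (actB k)))) (eCode k) = 0 →
    ∃ j < 16, eCode k = mh (eCode (actB (actB j))) (eCode j) := by
  decide +kernel

end Cfsg.Agent.H66.UFour
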