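import Cfsg.Agent.H66.UFour.CentA

/-!
The elementary abelian group `J` of order `81` inside `C(A)`.
-/

set_option autoImplicit false
set_option synthInstance.maxSize 4000
set_option synthInstance.maxHeartbeats 400000
set_option maxRecDepth 10000

namespace Cfsg.Agent.H66.UFour

/-- small powers of a code -/
def pk (c i : ℕ) : ℕ := [0, c, mh c c].getD i 0

theorem pk_facts : (∀ x ∈ listA, (∃ i < 3, ∃ j < 3, x = mh (pk cA1 i) (pk cA2 j)) ∧
    (∃ i < 3, ∃ j < 3, x = mh (pk cA i) (pk cA' j)) ∧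
    (∃ i < 3, ∃ j < 3, x = mh (pk cA' i) (pk cA j))) ∧
    (∀ c ∈ [cW, cW', cI, cA1, cA2], ∃ y1 ∈ listA, mh c y1 = mh cA1 c ∧
      ∃ y2 ∈ listA, mh c y2 = mh cA2 c) ∧
    mh cI cW = mh (mh cZ cW) cI ∧ mh cI cW' = mh (mh cZ cW') cI ∧
    (∀ c ∈ [cA, cA'], ∀ x ∈ listA, ∃ y ∈ listA, mh cI x = mh y cI ∧ mh x c = mh c x) ∧
    (cA ∈ listA ∧ cA' ∈ listA ∧ cA1 ∈ listA ∧ cA2 ∈ listA) := by
  decide +kernel

/-- the data of one side -/
structure SideCodes (a a' w : ℕ) : Prop where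
  la : a < 1152
  la' : a' < 1152
  lw : w < 1152
  mem : a ∈ listA
  mem' : a' ∈ listA
  cent : ∀ x < 1152, mh x a = mh a x → pw36 x = 0 ∧ (pw9 x = 0 → x ∈ listA)
  span : ∀ x ∈ listA, ∃ i < 3, ∃ j < 3, x = mh (pk a i) (pk a' j)
  iw : mh cI w = mh (mh cZ w) cI
  wnorm : ∃ y1 ∈ listA, mh w y1 = mh cA1 w ∧ ∃ y2 ∈ listA, mh w y2 = mh cA2 w
  wa : mh w a = mh a w

theorem sideA : SideCodes cA cA' cW where
  la := by decide +kernel
  la' := by decide +kernel
  lw := by decide +kernel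
  mem := pk_facts.2.2.2.2.2.1
  mem' := pk_facts.2.2.2.2.2.2.1
  cent x hx := (a_facts x hx).2.2.1
  span x hx := (pk_facts.1 x hx).2.1
  iw := pk_facts.2.2.1
  wnorm := pk_facts.2.1 cW (by decide +kernel)
  wa := by decide +kernel

theorem sideB : SideCodes cA' cA cW' where
  la := by decide +kernel
  la' := by decide +kernel
  lw := by decide +kernel
  mem := pk_facts.2.2.2.2.2.2.1
  mem' := pk_facts.2.2.2.2.2.1
  cent x hx := (a_facts x hx).2.2.2.1
  span x hx := (pk_facts.1 x hx).2.2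
  iw := pk_facts.2.2.2.1
  wnorm := pk_facts.2.1 cW' (by decide +kernel)
  wa := by decide +kernel

theorem zW' : mh cZ cW' < 1152 ∧ cI < 1152 ∧ cZ < 1152 ∧ cA1 < 1152 ∧ cA2 < 1152 := by
  decide +kernel

theorem ord_conj {G : Type*} [Group G] (g x : G) : orderOf (g * x * g⁻¹) = orderOf x := by
  simpa [MulAut.conj_apply] using (MulAut.conj g).orderOf_eq x

namespace Hyp

variable {G : Type*} [Group G] [Finite G] {z : G} (K : Hyp z)

/-- membership in `A` -/
def InA (x : G) : Prop := ∃ n ∈ listA, K.p n = x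

theorem inA_mem_CA {x : G} (hx : K.InA x) : x ∈ K.CA := by
  obtain ⟨n, hn, rfl⟩ := hx
  obtain ⟨hn1, -, c1, c2⟩ := listA_ok.1 n hn
  exact K.mem_CA.2 ⟨(K.comm_iff hn1 zW'.2.2.2.1).2 c1, (K.comm_iff hn1 zW'.2.2.2.2).2 c2⟩

theorem inA_cube {x : G} (hx : K.InA x) : x * x * x = 1 := by
  obtain ⟨n, hn, rfl⟩ := hx
  obtain ⟨hn1, hn3, -, -⟩ := listA_ok.1 n hn
  rw [mul_assoc, ← K.p_mh hn1 hn1, ← K.p_mh hn1 (Hyp.mh_lt hn1 hn1), hn3, K.p_zero]

omit [Finite G] in
theorem p_pk {c i : ℕ} (hc : c < 1152) (hi : i < 3) : K.p (pk c i) = K.p c ^ i := by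
  interval_cases i
  · show K.p 0 = _
    rw [K.p_zero, pow_zero]
  · show K.p c = _
    rw [pow_one]
  · show K.p (mh c c) = _
    rw [K.p_mh hc hc, pow_two]

omit [Finite G] in
theorem pk_lt {c i : ℕ} (hc : c < 1152) (hi : i < 3) : pk c i < 1152 := by
  interval_cases i
  · exact (by norm_num : (0 : ℕ) < 1152)
  · exact hc
  · exact Hyp.mh_lt hc hc

theorem CA_comm_A {x y : G} (hx : x ∈ K.CA) (hy : K.InA y) : x * y = y * x := by
  obtain ⟨n, hn, rfl⟩ := hy
  obtain ⟨i, hi, j, hj, rfl⟩ := (pk_facts.1 n hn).1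
  obtain ⟨c1, c2⟩ := K.mem_CA.1 hx
  rw [K.p_mh (pk_lt zW'.2.2.2.1 hi) (pk_lt zW'.2.2.2.2 hj), K.p_pk zW'.2.2.2.1 hi,
    K.p_pk zW'.2.2.2.2 hj]
  exact ((Commute.pow_right c1 i).mul_right (Commute.pow_right c2 j)).eq

/-- an element of `H` normalising `A` normalises `C(A)` -/
theorem conj_CA {c : ℕ} (hc : c < 1152)
    (hn : ∃ y1 ∈ listA, mh c y1 = mh cA1 c ∧ ∃ y2 ∈ listA, mh c y2 = mh cA2 c) {x : G}
    (hx : x ∈ K.CA) : K.p c * x * (K.p c)⁻¹ ∈ K.CA := by
  obtain ⟨y1, h1, e1, y2, h2, e2⟩ := hn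
  have key : ∀ {y t : ℕ}, y ∈ listA → t < 1152 → mh c y = mh t c →
      K.p c * x * (K.p c)⁻¹ * K.p t = K.p t * (K.p c * x * (K.p c)⁻¹) := by
    intro y t hy ht e
    have hy' := (listA_ok.1 y hy).1
    have e' : K.p t = K.p c * K.p y * (K.p c)⁻¹ := by
      rw [← K.p_mh hc hy', e, K.p_mh ht hc, mul_inv_cancel_right]
    rw [e']
    have hc' := K.CA_comm_A hx ⟨y, hy, rfl⟩
    calc K.p c * x * (K.p c)⁻¹ * (K.p c * K.p y * (K.p c)⁻¹) =
        K.p c * (x * K.p y) * (K.p c)⁻¹ := by group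
      _ = K.p c * (K.p y * x) * (K.p c)⁻¹ := by rw [hc']
      _ = _ := by group
  exact K.mem_CA.2 ⟨key h1 zW'.2.2.2.1 e1, key h2 zW'.2.2.2.2 e2⟩

/-- the subgroup of index two -/
structure IsT (T : Subgroup G) : Prop where
  le : T ≤ K.CA
  odd : Odd (Nat.card T)
  odd_mem : ∀ x ∈ K.CA, Odd (orderOf x) → x ∈ T
  cover : ∀ x ∈ K.CA, x ∈ T ∨ x * z ∈ T

variable {T : Subgroup G} (hT : K.IsT T)
include hT

theorem inA_T {x : G} (hx : K.InA x) : x ∈ T := by
  refine hT.odd_mem x (K.inA_mem_CA hx) ?_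
  have : orderOf x ∣ 3 := orderOf_dvd_of_pow_eq_one (by
    rw [pow_succ, pow_two]; exact K.inA_cube hx)
  exact Odd.of_dvd_nat (by decide) this

omit [Finite G] in
theorem T_conj {g : G} (hg : ∀ x ∈ K.CA, g * x * g⁻¹ ∈ K.CA) {x : G} (hx : x ∈ T) :
    g * x * g⁻¹ ∈ T := by
  refine hT.odd_mem _ (hg x (hT.le hx)) ?_
  rw [ord_conj]
  exact Odd.of_dvd_nat hT.odd (Subgroup.orderOf_dvd_natCard T hx)

theorem T_conj_z {x : G} (hx : x ∈ T) : z * x * z⁻¹ ∈ T :=
  K.T_conj hT (fun _ hy => mul_mem (mul_mem K.CA_z hy) (inv_mem K.CA_z)) hx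

omit [Finite G] in
theorem T_dvd {x : G} (hx : x ∈ T) {n : ℕ} (h : x ^ (2 * n) = 1) : x ^ n = 1 := by
  have hodd : Odd (orderOf x) := Odd.of_dvd_nat hT.odd (Subgroup.orderOf_dvd_natCard T hx)
  rw [← orderOf_dvd_iff_pow_eq_one] at h ⊢
  exact (Nat.coprime_two_right.2 hodd).dvd_of_dvd_mul_left h

/-- an element of `T` commuting with `a` and `z` lies in `A` -/
theorem inA_of_comm {a a' w : ℕ} (S : SideCodes a a' w) {y : G} (hyz : y * z = z * y)
    (hya : y * K.p a = K.p a * y) (hodd : Odd (orderOf y)) : K.InA y := by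
  obtain ⟨n, hn, rfl⟩ := K.surj hyz
  obtain ⟨h36, h9⟩ := S.cent n hn ((K.comm_iff hn S.la).1 hya)
  refine ⟨n, h9 ?_, rfl⟩
  have c2 := Hyp.mh_lt hn hn
  have c3 := Hyp.mh_lt hn c2
  have c6 := Hyp.mh_lt c3 c3
  have c9 : pw9 n < 1152 := Hyp.mh_lt c6 c3
  have c18 := Hyp.mh_lt c9 c9
  have e9 : K.p (pw9 n) = K.p n ^ 9 := by
    show K.p (mh (mh (mh n (mh n n)) (mh n (mh n n))) (mh n (mh n n))) = _
    rw [K.p_mh c6 c3, K.p_mh c3 c3, K.p_mh hn c2, K.p_mh hn hn]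
    simp only [pow_succ, pow_zero, one_mul, mul_assoc]
  have e36 : K.p n ^ 36 = 1 := by
    rw [show (36 : ℕ) = 9 + 9 + (9 + 9) by norm_num, pow_add, pow_add, ← e9, ← K.p_mh c9 c9,
      ← K.p_mh c18 c18]
    rw [show mh (mh (pw9 n) (pw9 n)) (mh (pw9 n) (pw9 n)) = pw36 n from rfl, h36, K.p_zero]
  refine K.p_inj c9 (by norm_num) ?_
  rw [e9, K.p_zero]
  rw [← orderOf_dvd_iff_pow_eq_one] at e36 ⊢
  have h4 : Nat.Coprime (orderOf (K.p n)) 4 :=
    (Nat.Coprime.pow_right 2 (Nat.coprime_two_right.2 hodd) : Nat.Coprime _ (2 ^ 2))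
  exact h4.dvd_of_dvd_mul_left (show orderOf (K.p n) ∣ 4 * 9 from e36)

theorem cent_z_T {x : G} (hx : x ∈ T) (hxz : x * z = z * x) : K.InA x :=
  K.inA_of_comm hT sideA hxz (K.CA_comm_A (hT.le hx) ⟨cA, pk_facts.2.2.2.2.2.1, rfl⟩)
    (Odd.of_dvd_nat hT.odd (Subgroup.orderOf_dvd_natCard T hx))

variable {a a' w : ℕ} {b d1 d2 : G} (S : SideCodes a a' w) (hb : IsFus z (K.p a) (K.p w) d1 d2 b)
include S hb

omit hT [Finite G] in
theorem b_inv_w : b⁻¹ * K.p w * b = z := by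
  rw [← hb.conj_z]; group

omit hT [Finite G] in
theorem b_inv_zw : b⁻¹ * (z * K.p w) * b = K.p w := by
  rw [← hb.conj_w]; group

omit hT [Finite G] in
theorem b_inv_comm : Commute b⁻¹ (K.p a) := Commute.inv_left hb.comm_a

/-- `C_T(w)` is contained in `b A b⁻¹` -/
theorem cent_w_T {x : G} (hx : x ∈ T) (hxw : x * K.p w = K.p w * x) : K.InA (b⁻¹ * x * b) := by
  refine K.inA_of_comm hT S ?_ ?_ ?_
  · rw [← K.b_inv_w S hb]
    calc b⁻¹ * x * b * (b⁻¹ * K.p w * b) = b⁻¹ * (x * K.p w) * b := by group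
      _ = b⁻¹ * (K.p w * x) * b := by rw [hxw]
      _ = _ := by group
  · have h1 := K.CA_comm_A (hT.le hx) ⟨a, S.mem, rfl⟩
    have hc := K.b_inv_comm S hb
    calc b⁻¹ * x * b * K.p a = b⁻¹ * x * (b * K.p a) := by group
      _ = b⁻¹ * (x * K.p a) * b := by rw [hb.comm_a]; group
      _ = (b⁻¹ * K.p a) * x * b := by rw [h1]; group
      _ = _ := by rw [hc.eq]; group
  · have := Odd.of_dvd_nat hT.odd (Subgroup.orderOf_dvd_natCard T hx)
    have e := ord_conj b⁻¹ x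
    rw [inv_inv] at e
    rwa [e]

/-- `C_T(z w)` is contained in `b² A b⁻²` -/
theorem cent_zw_T {x : G} (hx : x ∈ T) (hxw : x * (z * K.p w) = z * K.p w * x) :
    K.InA ((b * b)⁻¹ * x * (b * b)) := by
  have hb2 : (b * b)⁻¹ * (z * K.p w) * (b * b) = z := by
    rw [show (b * b)⁻¹ * (z * K.p w) * (b * b) = b⁻¹ * (b⁻¹ * (z * K.p w) * b) * b by group,
      K.b_inv_zw S hb, K.b_inv_w S hb]
  refine K.inA_of_comm hT S ?_ ?_ ?_
  · calc (b * b)⁻¹ * x * (b * b) * z =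
        (b * b)⁻¹ * x * (b * b) * ((b * b)⁻¹ * (z * K.p w) * (b * b)) := by rw [hb2]
      _ = (b * b)⁻¹ * (x * (z * K.p w)) * (b * b) := by group
      _ = (b * b)⁻¹ * (z * K.p w * x) * (b * b) := by rw [hxw]
      _ = (b * b)⁻¹ * (z * K.p w) * (b * b) * ((b * b)⁻¹ * x * (b * b)) := by group
      _ = _ := by rw [hb2]
  · have h1 := K.CA_comm_A (hT.le hx) ⟨a, S.mem, rfl⟩
    have hc : Commute (b * b) (K.p a) := Commute.mul_left hb.comm_a hb.comm_a
    calc (b * b)⁻¹ * x * (b * b) * K.p a = (b * b)⁻¹ * x * (b * b * K.p a) := by group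
      _ = (b * b)⁻¹ * (x * K.p a) * (b * b) := by rw [hc.eq]; group
      _ = ((b * b)⁻¹ * K.p a) * x * (b * b) := by rw [h1]; group
      _ = _ := by rw [hc.inv_left.eq]; group
  · have := Odd.of_dvd_nat hT.odd (Subgroup.orderOf_dvd_natCard T hx)
    have e := ord_conj (b * b)⁻¹ x
    rw [inv_inv] at e
    rwa [e]

omit hb in
theorem T_conj_i {x : G} (hx : x ∈ T) : K.p cI * x * (K.p cI)⁻¹ ∈ T :=
  K.T_conj hT (fun _ hy => K.conj_CA zW'.2.1 (pk_facts.2.1 cI (by decide +kernel)) hy) hx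

omit hb in
theorem T_conj_w {x : G} (hx : x ∈ T) : K.p w * x * (K.p w)⁻¹ ∈ T :=
  K.T_conj hT (fun _ hy => K.conj_CA S.lw S.wnorm hy) hx

omit hT hb in
theorem i_w : K.p cI * K.p w * (K.p cI)⁻¹ = z * K.p w := by
  rw [← K.p_mh zW'.2.1 S.lw, S.iw, K.p_mh (Hyp.mh_lt zW'.2.2.1 S.lw) zW'.2.1,
    K.p_mh zW'.2.2.1 S.lw, K.p_z, mul_inv_cancel_right]

omit hb in
theorem T_four {H : Subgroup G} (h1 : ∀ x, K.InA x → x ∈ H)
    (h2 : ∀ x ∈ T, x * K.p w = K.p w * x → x ∈ H)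
    (h3 : ∀ x ∈ T, x * (z * K.p w) = z * K.p w * x → x ∈ H) (hww : K.p w * K.p w = 1) : T ≤ H :=
  H38.le_of_four_group K.raw.z_sq hww (K.p_comm_z w).symm hT.odd (fun _ hg => K.T_conj_z hT hg)
    (fun _ hg => K.T_conj_w hT S hg) (fun g hg hc => h1 g (K.cent_z_T hT hg hc)) h2 h3

omit hT [Finite G] in
theorem w_sq : K.p w * K.p w = 1 := by
  calc K.p w * K.p w = b * (z * z) * b⁻¹ := by rw [← hb.conj_z]; group
    _ = 1 := by rw [K.raw.z_sq]; group

/-- either `T = A` or `T` contains `b a' b⁻¹` and `b² a' b⁻²` -/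
theorem dichotomy : (∀ x ∈ T, K.InA x) ∨
    (b * K.p a' * b⁻¹ ∈ T ∧ b * b * K.p a' * (b * b)⁻¹ ∈ T) := by
  have hAm : ∀ x y, K.InA x → K.InA y → K.InA (x * y) := by
    rintro _ _ ⟨m, hm, rfl⟩ ⟨n, hn, rfl⟩
    exact ⟨mh m n, listA_ok.2.1 m hm n hn, K.p_mh (listA_ok.1 m hm).1 (listA_ok.1 n hn).1⟩
  let HA : Subgroup G := Subgroup.closure {x | K.InA x}
  have memHA : ∀ x ∈ HA, K.InA x := by
    intro x hx
    refine Subgroup.closure_induction (fun y hy => hy) ⟨0, by decide +kernel, K.p_zero⟩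
      (fun y y' _ _ => hAm y y') (fun y _ hy => ?_) hx
    have h3 := K.inA_cube hy
    have : y⁻¹ = y * y := inv_eq_of_mul_eq_one_right (by rw [← mul_assoc]; exact h3)
    rw [this]; exact hAm y y hy hy
  by_cases h : ∀ x ∈ T, x * K.p w = K.p w * x → K.InA x
  · left
    intro x hx
    refine memHA x (K.T_four hT S (fun y hy => Subgroup.subset_closure hy)
      (fun y hy hc => Subgroup.subset_closure (h y hy hc)) (fun y hy hc => ?_) (K.w_sq S hb) hx)
    set i := K.p cI with hi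
    have hiz : i * z = z * i := K.p_comm_z _
    have hy' : i * y * i⁻¹ ∈ T := K.T_conj_i hT S hy
    have hcomm : i * y * i⁻¹ * K.p w = K.p w * (i * y * i⁻¹) := by
      have e : i * (z * K.p w) * i⁻¹ = K.p w := by
        rw [show i * (z * K.p w) * i⁻¹ = (i * z) * K.p w * i⁻¹ by group, hiz,
          show z * i * K.p w * i⁻¹ = z * (i * K.p w * i⁻¹) by group, K.i_w S, ← mul_assoc,
          K.raw.z_sq, one_mul]
      calc i * y * i⁻¹ * K.p w = i * y * i⁻¹ * (i * (z * K.p w) * i⁻¹) := by rw [e]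
        _ = i * (y * (z * K.p w)) * i⁻¹ := by group
        _ = i * (z * K.p w * y) * i⁻¹ := by rw [hc]
        _ = i * (z * K.p w) * i⁻¹ * (i * y * i⁻¹) := by group
        _ = _ := by rw [e]
    obtain ⟨n, hn, en⟩ := h _ hy' hcomm
    -- `A` is invariant under `i`, so `y` is in `A`
    have hback : ∀ t, K.InA t → K.InA (i * t * i⁻¹) := by
      rintro _ ⟨n, hn, rfl⟩
      obtain ⟨m, hm, em, -⟩ := pk_facts.2.2.2.2.1 cA (by decide +kernel) n hn
      refine ⟨m, hm, ?_⟩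
      rw [hi, ← K.p_mh zW'.2.1 (listA_ok.1 n hn).1, em, K.p_mh (listA_ok.1 m hm).1 zW'.2.1,
        mul_inv_cancel_right]
    have hi2 : i * i = z := by
      rw [hi, ← K.p_mh zW'.2.1 zW'.2.1, show mh cI cI = cZ by decide +kernel, K.p_z]
    have hi4 : i * (i * (i * i)) = 1 := by
      rw [← mul_assoc, hi2, K.raw.z_sq]
    have hy3 : y = i * (i * (i * (i * y * i⁻¹) * i⁻¹) * i⁻¹) * i⁻¹ := by
      calc y = i * (i * (i * i)) * y * (i * (i * (i * i)))⁻¹ := by rw [hi4]; group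
        _ = _ := by group
    refine Subgroup.subset_closure ?_
    show K.InA y
    rw [hy3, ← en]
    exact hback _ (hback _ (hback _ ⟨n, hn, rfl⟩))
  · right
    push Not at h
    obtain ⟨x, hx, hxw, hxA⟩ := h
    obtain ⟨n, hn, en⟩ := K.cent_w_T hT S hb hx hxw
    obtain ⟨i, hi, j, hj, rfl⟩ := S.span n hn
    rw [K.p_mh (pk_lt S.la hi) (pk_lt S.la' hj), K.p_pk S.la hi, K.p_pk S.la' hj] at en
    set α := K.p a with hαdef
    set β := K.p a' with hβdef
    have hbα : b * α ^ i * b⁻¹ = α ^ i := by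
      rw [(Commute.pow_right hb.comm_a i).eq, mul_inv_cancel_right]
    have hx' : x = α ^ i * (b * β ^ j * b⁻¹) := by
      calc x = b * (b⁻¹ * x * b) * b⁻¹ := by group
        _ = b * α ^ i * b⁻¹ * (b * β ^ j * b⁻¹) := by rw [← en]; group
        _ = _ := by rw [hbα]
    have hαA : K.InA (α ^ i) := by
      have h0 : ∀ k < 3, pk a k ∈ listA := by
        intro k hk
        interval_cases k
        · exact (show (0 : ℕ) ∈ listA by decide +kernel)
        · exact S.mem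
        · exact listA_ok.2.1 a S.mem a S.mem
      exact ⟨_, h0 i hi, K.p_pk S.la hi⟩
    have hj0 : j ≠ 0 := by
      rintro rfl
      rw [pow_zero, mul_one, mul_inv_cancel, mul_one] at hx'
      exact hxA (hx' ▸ hαA)
    have hbj : b * β ^ j * b⁻¹ ∈ T := by
      have := T.mul_mem (T.inv_mem (K.inA_T hT hαA)) hx
      rwa [hx', inv_mul_cancel_left] at this
    have hβ3 : β ^ 3 = 1 := by
      rw [pow_succ, pow_two]; exact K.inA_cube ⟨a', S.mem', rfl⟩
    have hb1 : b * β * b⁻¹ ∈ T := by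
      interval_cases j
      · exact absurd rfl hj0
      · rwa [pow_one] at hbj
      · have := T.mul_mem hbj hbj
        rwa [show b * β ^ 2 * b⁻¹ * (b * β ^ 2 * b⁻¹) = b * (β ^ 3 * β) * b⁻¹ by group, hβ3,
          one_mul] at this
    refine ⟨hb1, ?_⟩
    set t := K.p cI * (b * β * b⁻¹) * (K.p cI)⁻¹ with ht
    have htT : t ∈ T := K.T_conj_i hT S hb1
    have hwa : Commute (K.p w) α := (K.comm_iff S.lw S.la).2 S.wa
    have hβw : b * β * b⁻¹ * K.p w = K.p w * (b * β * b⁻¹) := by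
      rw [← hb.conj_z, show b * β * b⁻¹ * (b * z * b⁻¹) = b * (β * z) * b⁻¹ by group,
        show β * z = z * β from K.p_comm_z a']
      group
    have htw : t * (z * K.p w) = z * K.p w * t := by
      rw [← K.i_w S, ht, show K.p cI * (b * β * b⁻¹) * (K.p cI)⁻¹ * (K.p cI * K.p w * (K.p cI)⁻¹) =
        K.p cI * (b * β * b⁻¹ * K.p w) * (K.p cI)⁻¹ by group, hβw]
      group
    obtain ⟨m, hm, em⟩ := K.cent_zw_T hT S hb htT htw
    obtain ⟨k, hk, l, hl, rfl⟩ := S.span m hm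
    rw [K.p_mh (pk_lt S.la hk) (pk_lt S.la' hl), K.p_pk S.la hk, K.p_pk S.la' hl, ← hαdef,
      ← hβdef] at em
    have hc2 : Commute (b * b) α := Commute.mul_left hb.comm_a hb.comm_a
    have ht' : t = α ^ k * (b * b * β ^ l * (b * b)⁻¹) := by
      calc t = b * b * ((b * b)⁻¹ * t * (b * b)) * (b * b)⁻¹ := by group
        _ = b * b * α ^ k * (b * b)⁻¹ * (b * b * β ^ l * (b * b)⁻¹) := by rw [← em]; group
        _ = _ := by rw [(hc2.pow_right k).eq, mul_inv_cancel_right]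
    have hαk : K.InA (α ^ k) := by
      have h0 : ∀ k < 3, pk a k ∈ listA := by
        intro k hk
        interval_cases k
        · exact (show (0 : ℕ) ∈ listA by decide +kernel)
        · exact S.mem
        · exact listA_ok.2.1 a S.mem a S.mem
      exact ⟨_, h0 k hk, K.p_pk S.la hk⟩
    have hl0 : l ≠ 0 := by
      rintro rfl
      rw [pow_zero, mul_one, mul_inv_cancel, mul_one] at ht'
      -- then `b β b⁻¹` would commute with `z` and `w`, forcing it into `⟨α⟩`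
      obtain ⟨q, -, eq⟩ := hαk
      have hz' : t * z = z * t := by rw [ht', ← eq]; exact K.p_comm_z q
      have hbz : b * β * b⁻¹ * z = z * (b * β * b⁻¹) := by
        have e : b * β * b⁻¹ = (K.p cI)⁻¹ * t * K.p cI := by rw [ht]; group
        rw [e]
        calc (K.p cI)⁻¹ * t * K.p cI * z = (K.p cI)⁻¹ * t * (K.p cI * z) := by group
          _ = (K.p cI)⁻¹ * (t * z) * K.p cI := by rw [K.p_comm_z]; group
          _ = (K.p cI)⁻¹ * z * t * K.p cI := by rw [hz']; group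
          _ = _ := by
            rw [(Commute.inv_left (show Commute (K.p cI) z from K.p_comm_z _)).eq]; group
      apply hxA
      rw [hx']
      have hbA := K.cent_z_T hT hb1 hbz
      rcases (show j = 1 ∨ j = 2 by omega) with rfl | rfl
      · rw [pow_one]; exact hAm _ _ hαA hbA
      · rw [show b * β ^ 2 * b⁻¹ = b * β * b⁻¹ * (b * β * b⁻¹) by simp only [pow_two, mul_assoc, inv_mul_cancel_left]]
        exact hAm _ _ hαA (hAm _ _ hbA hbA)
    have hbl : b * b * β ^ l * (b * b)⁻¹ ∈ T := by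
      have := T.mul_mem (T.inv_mem (K.inA_T hT hαk)) htT
      rwa [ht', inv_mul_cancel_left] at this
    interval_cases l
    · exact absurd rfl hl0
    · rwa [pow_one] at hbl
    · have := T.mul_mem hbl hbl
      rwa [show b * b * β ^ 2 * (b * b)⁻¹ * (b * b * β ^ 2 * (b * b)⁻¹) =
        b * b * (β ^ 3 * β) * (b * b)⁻¹ by group, hβ3, one_mul] at this

/-- in the large case `T` is generated by four elements -/
theorem T_eq_closure (h1 : b * K.p a' * b⁻¹ ∈ T) (h2 : b * b * K.p a' * (b * b)⁻¹ ∈ T) :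
    T = Subgroup.closure {K.p a, K.p a', b * K.p a' * b⁻¹, b * b * K.p a' * (b * b)⁻¹} := by
  set S4 : Set G := {K.p a, K.p a', b * K.p a' * b⁻¹, b * b * K.p a' * (b * b)⁻¹} with hS4
  refine le_antisymm ?_ ((Subgroup.closure_le _).2 ?_)
  · have ga : K.p a ∈ Subgroup.closure S4 := Subgroup.subset_closure (by simp [hS4])
    have ga' : K.p a' ∈ Subgroup.closure S4 := Subgroup.subset_closure (by simp [hS4])
    have g1 : b * K.p a' * b⁻¹ ∈ Subgroup.closure S4 := Subgroup.subset_closure (by simp [hS4])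
    have g2 : b * b * K.p a' * (b * b)⁻¹ ∈ Subgroup.closure S4 :=
      Subgroup.subset_closure (by simp [hS4])
    have hA : ∀ x, K.InA x → ∃ i j : ℕ, x = K.p a ^ i * K.p a' ^ j := by
      rintro _ ⟨n, hn, rfl⟩
      obtain ⟨i, hi, j, hj, rfl⟩ := S.span n hn
      exact ⟨i, j, by rw [K.p_mh (pk_lt S.la hi) (pk_lt S.la' hj), K.p_pk S.la hi, K.p_pk S.la' hj]⟩
    refine K.T_four hT S (fun x hx => ?_) (fun x hx hc => ?_) (fun x hx hc => ?_) (K.w_sq S hb)
    · obtain ⟨i, j, rfl⟩ := hA x hx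
      exact mul_mem (pow_mem ga i) (pow_mem ga' j)
    · obtain ⟨i, j, e⟩ := hA _ (K.cent_w_T hT S hb hx hc)
      have : x = K.p a ^ i * (b * K.p a' * b⁻¹) ^ j := by
        rw [conj_pow]
        calc x = b * (b⁻¹ * x * b) * b⁻¹ := by group
          _ = b * K.p a ^ i * b⁻¹ * (b * K.p a' ^ j * b⁻¹) := by rw [e]; group
          _ = _ := by rw [(Commute.pow_right hb.comm_a i).eq, mul_inv_cancel_right]
      rw [this]
      exact mul_mem (pow_mem ga i) (pow_mem g1 j)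
    · obtain ⟨i, j, e⟩ := hA _ (K.cent_zw_T hT S hb hx hc)
      have hc2 : Commute (b * b) (K.p a) := Commute.mul_left hb.comm_a hb.comm_a
      have : x = K.p a ^ i * (b * b * K.p a' * (b * b)⁻¹) ^ j := by
        rw [conj_pow]
        calc x = b * b * ((b * b)⁻¹ * x * (b * b)) * (b * b)⁻¹ := by group
          _ = b * b * K.p a ^ i * (b * b)⁻¹ * (b * b * K.p a' ^ j * (b * b)⁻¹) := by rw [e]; group
          _ = _ := by rw [(hc2.pow_right i).eq, mul_inv_cancel_right]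
      rw [this]
      exact mul_mem (pow_mem ga i) (pow_mem g2 j)
  · rintro x (rfl | rfl | rfl | rfl)
    · exact K.inA_T hT ⟨a, S.mem, rfl⟩
    · exact K.inA_T hT ⟨a', S.mem', rfl⟩
    · exact h1
    · exact h2

end Hyp

end Cfsg.Agent.H66.UFour
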