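import Cfsg.Agent.H66.UFour.Coords

/-!
The subgroup complementing `T` in its normaliser: words with the same action on `T` are equal.
-/

set_option autoImplicit false
set_option synthInstance.maxSize 4000
set_option synthInstance.maxHeartbeats 400000
set_option maxRecDepth 10000

namespace Cfsg.Agent.H66.UFour

/-- the action of one letter: `z w i b c` -/
def lk (k v : ℕ) : ℕ :=
  match k with
  | 0 => lz v
  | 1 => lw v
  | 2 => li v
  | 3 => lb v
  | _ => lc v

/-- the action of a word -/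
def act : List ℕ → ℕ → ℕ
  | [], v => v
  | k :: l, v => lk k (act l v)

/-- `θ` on words -/
def th : List ℕ → List ℕ
  | [] => []
  | k :: l => (if k < 4 then [k] else [0, 4, 0]) ++ th l

theorem act_append (l l' : List ℕ) (v : ℕ) : act (l ++ l') v = act l (act l' v) := by
  induction l with
  | nil => rfl
  | cons k l ih => show lk k (act (l ++ l') v) = lk k (act l (act l' v)); rw [ih]

theorem u_facts : (∀ x ∈ listA, (∀ y ∈ listA, ∃ y' ∈ listA,
      mh (mh (mh cU x) cU) y = mh y' (mh (mh cU x) cU)) → x = 0) ∧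
    mh cU cU = 0 ∧ mh cU cW = mh cW cU ∧ mh cU cI = mh cI cU := by
  decide +kernel

theorem parts_facts : ∀ v < 81,
    vadd v (lz v) = vec (2 * dg v 0) (2 * dg v 1) 0 0 ∧
    (dg v 0 = 0 → dg v 1 = 0 → vadd v (lw v) = vec 0 0 (2 * dg v 2) 0) ∧
    (dg v 0 = 0 → dg v 1 = 0 → lb (lb (vec 0 0 (2 * dg v 2) 0)) = vec 0 (2 * dg v 2) 0 0) ∧
    (dg v 0 = 0 → dg v 1 = 0 → dg v 2 = 0 → lb v = vec 0 (dg v 3) 0 0) ∧
    v = vec (dg v 0) (dg v 1) (dg v 2) (dg v 3) ∧
    (vec (2 * dg v 0) (2 * dg v 1) 0 0 = 0 → dg v 0 = 0 ∧ dg v 1 = 0) ∧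
    (vec 0 (2 * dg v 2) 0 0 = 0 → dg v 2 = 0) ∧
    (vec 0 (dg v 3) 0 0 = 0 → dg v 3 = 0) := by
  decide +kernel

theorem norm_of_le {G : Type*} [Group G] [Finite G] {T : Subgroup G} {g : G}
    (h : ∀ x ∈ T, g * x * g⁻¹ ∈ T) : g ∈ Subgroup.normalizer (T : Set G) := by
  have e : T.map (MulAut.conj g).toMonoidHom = T := by
    refine Subgroup.eq_of_le_of_card_ge ?_ ?_
    · rintro _ ⟨x, hx, rfl⟩
      exact h x hx
    · exact (Nat.card_congr (Subgroup.equivMapOfInjective T _ (MulAut.conj g).injective).toEquiv).le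
  rw [Subgroup.mem_normalizer_iff]
  refine fun x => ⟨h x, fun hx => ?_⟩
  rw [← e] at hx
  obtain ⟨y, hy, hxy⟩ := hx
  have : y = x := (MulAut.conj g).injective (by simpa using hxy)
  rwa [← this]

namespace Hyp

variable {G : Type*} [Group G] [Finite G] {z : G} (K : Hyp z)

/-- the value of a letter -/
def lv (b c : G) (k : ℕ) : G :=
  match k with
  | 0 => z
  | 1 => K.p cW
  | 2 => K.p cI
  | 3 => b
  | _ => c

/-- the value of a word -/
def wv (b c : G) : List ℕ → G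
  | [] => 1
  | k :: l => K.lv b c k * wv b c l

omit [Finite G] in
theorem wv_append (b c : G) (l l' : List ℕ) : K.wv b c (l ++ l') = K.wv b c l * K.wv b c l' := by
  induction l with
  | nil => exact (one_mul _).symm
  | cons k l ih =>
    show K.lv b c k * K.wv b c (l ++ l') = K.lv b c k * K.wv b c l * K.wv b c l'
    rw [ih, mul_assoc]

variable {T : Subgroup G} {b c : G} (C : K.Coords T b c)
include C

theorem lv_act (k v : ℕ) : K.lv b c k * K.psi b v * (K.lv b c k)⁻¹ = K.psi b (lk k v) := by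
  rcases k with _ | _ | _ | _ | k
  · exact K.conj_z C.pre v
  · exact K.conj_w C.pre v
  · exact K.conj_i C v
  · exact K.conj_b C.pre v
  · exact K.conj_c C v

theorem wv_act (l : List ℕ) (v : ℕ) :
    K.wv b c l * K.psi b v * (K.wv b c l)⁻¹ = K.psi b (act l v) := by
  induction l generalizing v with
  | nil => show (1 : G) * K.psi b v * 1⁻¹ = K.psi b v; group
  | cons k l ih =>
    show K.lv b c k * K.wv b c l * K.psi b v * (K.lv b c k * K.wv b c l)⁻¹ = _
    rw [act, ← K.lv_act C, ← ih]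
    group

theorem act_lt (l : List ℕ) {v : ℕ} (hv : v < 81) : act l v < 81 := by
  induction l with
  | nil => exact hv
  | cons k l _ => rcases k with _ | _ | _ | _ | k <;> exact lin_lt ..

theorem conj_u_lv (k : ℕ) : K.p cU * K.lv b c k * (K.p cU)⁻¹ = K.wv b c (th [k]) := by
  obtain ⟨lU, lW, lI, -, -, -, lZU⟩ := coord_facts.2.1
  have h1 : ∀ k, k < 4 → K.wv b c (th [k]) = K.lv b c k := fun k hk => by
    show K.wv b c ((if k < 4 then [k] else [0, 4, 0]) ++ []) = _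
    rw [if_pos hk]
    exact mul_one _
  rcases k with _ | _ | _ | _ | k
  · rw [h1 0 (by norm_num)]
    show K.p cU * z * (K.p cU)⁻¹ = z
    rw [K.p_comm_z, mul_inv_cancel_right]
  · rw [h1 1 (by norm_num)]
    show K.p cU * K.p cW * (K.p cU)⁻¹ = K.p cW
    rw [(K.com lU lW u_facts.2.2.1).eq, mul_inv_cancel_right]
  · rw [h1 2 (by norm_num)]
    show K.p cU * K.p cI * (K.p cU)⁻¹ = K.p cI
    rw [(K.com lU lI u_facts.2.2.2).eq, mul_inv_cancel_right]
  · rw [h1 3 (by norm_num)]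
    show K.p cU * b * (K.p cU)⁻¹ = b
    rw [← C.pre.hb.comm_d1, mul_inv_cancel_right]
  · have e : K.lv b c (k + 4) = c := rfl
    have hc := C.hc.comm_d1
    have hZU : K.p cZU = z * K.p cU := by
      rw [coord_facts.2.2.2.2.2.1, K.p_mh (by decide +kernel) lU, K.p_z]
    rw [hZU] at hc
    have key : K.p cU * c * (K.p cU)⁻¹ = z⁻¹ * c * z := by
      calc K.p cU * c * (K.p cU)⁻¹ = z⁻¹ * (z * K.p cU * c) * (K.p cU)⁻¹ := by group
        _ = z⁻¹ * (c * (z * K.p cU)) * (K.p cU)⁻¹ := by rw [hc]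
        _ = _ := by group
    have zi : z⁻¹ = z := inv_eq_of_mul_eq_one_right K.raw.z_sq
    rw [zi] at key
    rw [show K.wv b c (th [k + 4]) = z * (c * (z * 1)) by
      show K.wv b c ((if k + 4 < 4 then [k + 4] else [0, 4, 0]) ++ []) = _
      rw [if_neg (by omega)]
      rfl, mul_one, ← mul_assoc]
    exact key

omit C in
theorem th_cons (k : ℕ) (l : List ℕ) : th (k :: l) = th [k] ++ th l := by
  show _ ++ th l = (_ ++ []) ++ th l
  rw [List.append_nil]

theorem conj_u (l : List ℕ) : K.p cU * K.wv b c l * (K.p cU)⁻¹ = K.wv b c (th l) := by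
  induction l with
  | nil => show K.p cU * 1 * (K.p cU)⁻¹ = (1 : G); group
  | cons k l ih =>
    rw [th_cons, K.wv_append, ← K.conj_u_lv C, ← ih]
    show K.p cU * (K.lv b c k * K.wv b c l) * (K.p cU)⁻¹ = _
    group

theorem wv_norm (l : List ℕ) : K.wv b c l ∈ Subgroup.normalizer (T : Set G) :=
  norm_of_le fun _ hx => K.conj_mem C.pre (K.wv_act C l) hx

omit C in
/-- the condition defining the complement -/
def InN (T : Subgroup G) (g : G) : Prop :=
  g ∈ Subgroup.normalizer (T : Set G) ∧ K.p cU * g * (K.p cU)⁻¹ ∈ Subgroup.normalizer (T : Set G)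

omit C in
theorem inN_mul {g h : G} (hg : K.InN T g) (hh : K.InN T h) : K.InN T (g * h) :=
  ⟨mul_mem hg.1 hh.1, by
    have := mul_mem hg.2 hh.2
    rwa [show K.p cU * g * (K.p cU)⁻¹ * (K.p cU * h * (K.p cU)⁻¹) =
      K.p cU * (g * h) * (K.p cU)⁻¹ by group] at this⟩

omit C in
theorem inN_inv {g : G} (hg : K.InN T g) : K.InN T g⁻¹ :=
  ⟨inv_mem hg.1, by
    have := inv_mem hg.2
    rwa [show (K.p cU * g * (K.p cU)⁻¹)⁻¹ = K.p cU * g⁻¹ * (K.p cU)⁻¹ by group] at this⟩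

theorem inN_wv (l : List ℕ) : K.InN T (K.wv b c l) :=
  ⟨K.wv_norm C l, by rw [K.conj_u C]; exact K.wv_norm C _⟩

/-- vectors in the kernel set -/
def InD (b : G) (v : ℕ) : Prop := K.InN T (K.psi b v)

theorem inD_add {u v : ℕ} (hu : K.InD (T := T) b u) (hv : K.InD (T := T) b v) :
    K.InD (T := T) b (vadd u v) := by
  unfold Hyp.InD at *
  rw [K.psi_add C.pre]
  exact K.inN_mul hu hv

theorem inD_act {v : ℕ} (hv : K.InD (T := T) b v) (l : List ℕ) : K.InD (T := T) b (act l v) := by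
  unfold Hyp.InD at *
  rw [← K.wv_act C]
  exact K.inN_mul (K.inN_mul (K.inN_wv C l) hv) (K.inN_inv (K.inN_wv C l))

theorem inD_A {p q : ℕ} (h : K.InD (T := T) b (vec p q 0 0)) : vec p q 0 0 = 0 := by
  have P := C.pre
  have hx : K.InA (K.psi b (vec p q 0 0)) := by
    refine K.cent_z_T P.hT (K.psi_mem P _) ?_
    have e : lz (vec p q 0 0) = vec p q 0 0 := by
      have : ∀ v < 81, dg v 2 = 0 → dg v 3 = 0 → lz v = v := by decide +kernel
      have f : ∀ p < 3, ∀ q < 3, dg (vec p q 0 0) 2 = 0 ∧ dg (vec p q 0 0) 3 = 0 := by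
        decide +kernel
      have e : vec p q 0 0 = vec (p % 3) (q % 3) 0 0 := by
        show p % 3 + 3 * (q % 3) + _ = (p % 3) % 3 + 3 * ((q % 3) % 3) + _
        rw [Nat.mod_mod, Nat.mod_mod]
      rw [e]
      obtain ⟨f1, f2⟩ := f (p % 3) (Nat.mod_lt _ (by norm_num)) (q % 3) (Nat.mod_lt _ (by norm_num))
      exact this _ (vec_lt ..) f1 f2
    have := K.conj_z P (vec p q 0 0)
    rw [e] at this
    exact (mul_inv_eq_iff_eq_mul.1 this).symm
  obtain ⟨n, hn, en⟩ := hx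
  obtain ⟨hN, hN'⟩ := h
  rw [← en] at hN'
  have hn0 : n = 0 := by
    refine u_facts.1 n hn fun m hm => ?_
    obtain ⟨lU, -, -, -, -, -, -⟩ := coord_facts.2.1
    have ln := (listA_ok.1 n hn).1
    have lm := (listA_ok.1 m hm).1
    have lun := Hyp.mh_lt (Hyp.mh_lt lU ln) lU
    have euu : K.p cU * K.p cU = 1 := by rw [← K.p_mh lU lU, u_facts.2.1, K.p_zero]
    have hiu : (K.p cU)⁻¹ = K.p cU := inv_eq_of_mul_eq_one_right euu
    set y := K.p cU * K.p n * (K.p cU)⁻¹ with hy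
    have eyz : Commute y z := by
      rw [hy, hiu, ← K.p_mh lU ln, ← K.p_mh (Hyp.mh_lt lU ln) lU]
      exact K.com_z _
    have hyT : y * K.p m * y⁻¹ ∈ T :=
      (Subgroup.mem_normalizer_iff.1 hN' _).1 (K.inA_T P.hT ⟨m, hm, rfl⟩)
    have hmz : Commute (K.p m) z := K.com_z m
    obtain ⟨m', hm', em'⟩ := K.cent_z_T P.hT hyT ((eyz.mul_left hmz).mul_left eyz.inv_left)
    refine ⟨m', hm', ?_⟩
    refine K.p_inj (Hyp.mh_lt lun lm) (Hyp.mh_lt (listA_ok.1 m' hm').1 lun) ?_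
    rw [K.p_mh lun lm, K.p_mh (listA_ok.1 m' hm').1 lun, K.p_mh (Hyp.mh_lt lU ln) lU,
      K.p_mh lU ln, em', hy, hiu]
    rw [show K.p cU * K.p n * K.p cU * K.p m * (K.p cU * K.p n * K.p cU)⁻¹ *
      (K.p cU * K.p n * K.p cU) = K.p cU * K.p n * K.p cU * K.p m by group]
  refine K.psi_inj P (vec_lt ..) (by norm_num) ?_
  rw [← en, hn0, K.p_zero, K.psi_zero P]

theorem inD_zero {v : ℕ} (hv : v < 81) (h : K.InD (T := T) b v) : v = 0 := by
  obtain ⟨f1, f2, f3, f4, f5, f6, f7, f8⟩ := parts_facts v hv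
  have a1 := K.inD_add C h (K.inD_act C h [0])
  rw [show act [0] v = lz v from rfl, f1] at a1
  obtain ⟨d0, d1⟩ := f6 (K.inD_A C a1)
  have a2 := K.inD_add C h (K.inD_act C h [1])
  rw [show act [1] v = lw v from rfl, f2 d0 d1] at a2
  have a3 := K.inD_act C a2 [3, 3]
  rw [show act [3, 3] (vec 0 0 (2 * dg v 2) 0) = lb (lb (vec 0 0 (2 * dg v 2) 0)) from rfl,
    f3 d0 d1] at a3
  have d2 := f7 (K.inD_A C a3)
  have a4 := K.inD_act C h [3]
  rw [show act [3] v = lb v from rfl, f4 d0 d1 d2] at a4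
  have d3 := f8 (K.inD_A C a4)
  rw [f5, d0, d1, d2, d3]
  decide +kernel

theorem inN_T {x : G} (hx : x ∈ T) (h : K.InN T x) : x = 1 := by
  obtain ⟨v, hv, rfl⟩ := K.psi_surj C.pre hx
  rw [K.inD_zero C hv h, K.psi_zero C.pre]

theorem cent_T {g : G} (h : ∀ v < 81, g * K.psi b v * g⁻¹ = K.psi b v) : g ∈ T := by
  have P := C.pre
  have hcom : ∀ {x : G}, x ∈ T → g * x = x * g := fun {x} hx => by
    obtain ⟨v, hv, rfl⟩ := K.psi_surj P hx
    exact mul_inv_eq_iff_eq_mul.1 (h v hv)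
  have hCA : g ∈ K.CA := K.mem_CA.2
    ⟨hcom (K.inA_T P.hT ⟨cA1, pk_facts.2.2.2.2.2.2.2.1, rfl⟩),
      hcom (K.inA_T P.hT ⟨cA2, pk_facts.2.2.2.2.2.2.2.2, rfl⟩)⟩
  rcases P.hT.cover g hCA with hg | hg
  · exact hg
  exfalso
  have h1 := K.T_comm P hg (K.psi_mem P 9)
  have h2 := hcom (K.psi_mem P 9)
  have hz : z * K.psi b 9 = K.psi b 9 * z := by
    calc z * K.psi b 9 = g⁻¹ * (g * z * K.psi b 9) := by group
      _ = g⁻¹ * (K.psi b 9 * g * z) := by rw [h1]; group
      _ = g⁻¹ * (g * K.psi b 9 * z) := by rw [← h2]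
      _ = _ := by group
  have := K.conj_z P 9
  rw [hz, mul_inv_cancel_right] at this
  exact absurd (K.psi_inj P (by norm_num) (lin_lt ..) this) (by decide +kernel)

/-- an element of the complement is determined by its action on `T` -/
theorem eq_one_of_act {g : G} (hg : K.InN T g) (h : ∀ v < 81, g * K.psi b v * g⁻¹ = K.psi b v) :
    g = 1 := K.inN_T C (K.cent_T C h) hg

/-- two words with the same action are equal -/
theorem word_eq (l l' : List ℕ) (h : ∀ v < 81, act l v = act l' v) : K.wv b c l = K.wv b c l' := by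
  refine inv_mul_eq_one.1 (K.eq_one_of_act C (K.inN_mul (K.inN_inv (K.inN_wv C l)) (K.inN_wv C l'))
    fun v hv => ?_)
  calc (K.wv b c l)⁻¹ * K.wv b c l' * K.psi b v * ((K.wv b c l)⁻¹ * K.wv b c l')⁻¹ =
      (K.wv b c l)⁻¹ * (K.wv b c l' * K.psi b v * (K.wv b c l')⁻¹) * K.wv b c l := by group
    _ = (K.wv b c l)⁻¹ * (K.wv b c l * K.psi b v * (K.wv b c l)⁻¹) * K.wv b c l := by
      rw [K.wv_act C, K.wv_act C, h v hv]
    _ = _ := by group

end Hyp

end Cfsg.Agent.H66.UFour
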