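import Cfsg.Agent.H66.UFour.LGroup

/-!
The two elements `y₁, y₂` and their relation with `s`.
-/

set_option autoImplicit false
set_option synthInstance.maxSize 4000
set_option synthInstance.maxHeartbeats 400000
set_option maxRecDepth 10000

namespace Cfsg.Agent.H66.UFour

/-- the vector of `a₁` -/
def vA1 : ℕ := 8
/-- the vector of `a₂` -/
def vA2 : ℕ := 5
/-- the word of `y₁` -/
def wY1 : List ℕ := [2, 1, 3, 4, 3]
/-- the word of `y₂` -/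
def wY2 : List ℕ := [1, 3, 4, 3, 2]

/-- the computed properties of a word `y` paired with the vector `x` -/
def YOK (y : List ℕ) (x : ℕ) : Prop :=
  x < 81 ∧ lz x = vsc 2 x ∧
    (∀ v < 81, act (y ++ (y ++ y)) v = act [] v) ∧
    (∀ v < 81, act ([0] ++ (y ++ ([0] ++ y))) v = act [] v) ∧
    act y vA1 = vA1 ∧ act (th y) vA2 = vA2 ∧ act y vA2 = vadd (vadd vA2 vA1) x

theorem y_ok : YOK wY1 9 ∧ YOK wY2 27 := by unfold YOK; decide +kernel

theorem levi_facts : (cS < 1152 ∧ cU < 1152 ∧ cA1 < 1152 ∧ cA2 < 1152 ∧ cA < 1152 ∧ cA' < 1152) ∧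
    (cA1 = mh (mh cA cA) (mh cA' cA') ∧ cA2 = mh (mh cA cA) cA') ∧
    (vA1 = vec 2 2 0 0 ∧ vA2 = vec 2 1 0 0) ∧
    (mh cS cS = cZ ∧ mh cS cA1 = mh cA1 cS ∧ mh cU cU = 0) ∧
    (mh (mh cS cA2) cS = mh (mh (mh cA2 cA2) (mh cZ cS)) (mh cA2 cA2) ∧
      mh cS cA2 = mh (mh (mh cU cA2) cU) cS ∧
      mh (mh cA2 (mh (mh (mh cU cA2) cU) (mh (mh cU cA2) cU)))
        (mh cA2 (mh (mh (mh cU cA2) cU) (mh (mh cU cA2) cU))) = cZ ∧
      mh (mh (mh cU cA2) cU) cS = mh cS cA2 ∧ mh cA2 cS = mh cS (mh (mh cU cA2) cU)) := by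
  decide +kernel

theorem nu_zero : ∀ v < 81, lz v = v → lz v = vsc 2 v → v = 0 := by decide +kernel

theorem lz_lin : ∀ u < 81, ∀ v < 81, lz u = vsc 2 u → lz v = vsc 2 v →
    lz (vadd u v) = vsc 2 (vadd u v) := by
  decide +kernel

theorem lz_neg : ∀ u < 81, lz u = vsc 2 u → lz (vsc 2 u) = vsc 2 (vsc 2 u) := by decide +kernel

namespace Hyp

variable {G : Type*} [Group G] [Finite G] {z : G} (K : Hyp z)
variable {T : Subgroup G} {b c : G} (C : K.Coords T b c)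
include C

theorem psi_A1 : K.psi b vA1 = K.p cA1 := by
  obtain ⟨-, -, -, -, lA, lA'⟩ := levi_facts.1
  rw [levi_facts.2.2.1.1, K.psi_vec C.pre, pow_two, pow_two, ← K.p_mh lA lA, ← K.p_mh lA' lA',
    ← K.p_mh (Hyp.mh_lt lA lA) (Hyp.mh_lt lA' lA'), ← levi_facts.2.1.1]
  group

theorem psi_A2 : K.psi b vA2 = K.p cA2 := by
  obtain ⟨-, -, -, -, lA, lA'⟩ := levi_facts.1
  rw [levi_facts.2.2.1.2, K.psi_vec C.pre, pow_two, pow_one, ← K.p_mh lA lA,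
    ← K.p_mh (Hyp.mh_lt lA lA) lA', ← levi_facts.2.1.2]
  group

theorem psi_sq {v : ℕ} : K.psi b (vsc 2 v) = (K.psi b v)⁻¹ := by
  rw [K.psi_sc C.pre, pow_two]
  refine (inv_eq_of_mul_eq_one_left ?_).symm
  have e : vsc 3 v = 0 := by
    show 3 * dg v 0 % 3 + 3 * (3 * dg v 1 % 3) + (9 * (3 * dg v 2 % 3) + 27 * (3 * dg v 3 % 3)) = 0
    omega
  have h := K.psi_sc C.pre 3 v
  rw [e, K.psi_zero C.pre, pow_succ, pow_two] at h
  exact h.symm

theorem s_conj {y : List ℕ} {xk : ℕ} (ok : YOK y xk) :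
    K.p cS * K.psi b xk * (K.p cS)⁻¹ = K.wv b c y ∧
      K.p cS * K.wv b c y * (K.p cS)⁻¹ = (K.psi b xk)⁻¹ := by
  have P := C.pre
  obtain ⟨hxk, hxz, h3, hz, ha1, hth, hd⟩ := ok
  obtain ⟨lS, lU, lA1, lA2, -, -⟩ := levi_facts.1
  obtain ⟨fss, fsa1, fuu⟩ := levi_facts.2.2.2.1
  obtain ⟨fbraid, fsa2, fz, fsa2', fa2s⟩ := levi_facts.2.2.2.2
  have lUA := Hyp.mh_lt (Hyp.mh_lt lU lA2) lU
  have s_one := K.psi_A1 C
  have a2e := K.psi_A2 C
  set Y := K.wv b c y with hY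
  set s := K.p cS with hs
  set a1 := K.p cA1 with ha1d
  set a2 := K.p cA2 with ha2d
  set u := K.p cU with hu
  set a2' := K.p (mh (mh cU cA2) cU) with ha2'd
  have hY3 : Y * (Y * Y) = 1 := by
    have := K.word_eq C _ [] h3
    rwa [K.wv_append, K.wv_append] at this
  have hYi : Y⁻¹ = K.wv b c (y ++ y) := by
    rw [K.wv_append]; exact inv_eq_of_mul_eq_one_right hY3
  have hzY : z * Y * z⁻¹ = Y⁻¹ := by
    have := K.word_eq C _ [] hz
    rw [K.wv_append, K.wv_append, K.wv_append] at this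
    change z * 1 * (Y * (z * 1 * Y)) = 1 at this
    rw [mul_one, ← mul_assoc] at this
    have zi : z⁻¹ = z := inv_eq_of_mul_eq_one_right K.raw.z_sq
    rw [zi]
    refine eq_inv_of_mul_eq_one_left ?_
    calc z * Y * z * Y = z * Y * (z * Y) := by group
      _ = 1 := this
  have hssz : s * s = z := by rw [hs, ← K.p_mh lS lS, fss, K.p_z]
  have hsi : s⁻¹ = z * s := by
    refine inv_eq_of_mul_eq_one_left ?_
    rw [mul_assoc, hssz, K.raw.z_sq]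
  have hsz : Commute s z := K.com_z _
  have huu : u * u = 1 := by rw [hu, ← K.p_mh lU lU, fuu, K.p_zero]
  have hua : a2' = u * a2 * u⁻¹ := by
    rw [inv_eq_of_mul_eq_one_right huu, ha2'd, hu, ha2d, ← K.p_mh lU lA2,
      ← K.p_mh (Hyp.mh_lt lU lA2) lU]
  have hsa1 : Commute s a1 := K.com lS lA1 fsa1
  have hsa2 : s * a2 * s⁻¹ = a2' := by
    rw [hs, ha2d, ha2'd, ← K.p_mh lS lA2, fsa2, K.p_mh lUA lS, mul_inv_cancel_right]
  have hsa2' : s⁻¹ * a2 * s = a2' := by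
    rw [hs, ha2d, ha2'd, mul_assoc, ← K.p_mh lA2 lS, fa2s, K.p_mh lS lUA, inv_mul_cancel_left]
  have hYa1 : Commute Y a1 := by
    have e := K.wv_act C y vA1
    rw [ha1, s_one] at e
    exact mul_inv_eq_iff_eq_mul.1 e
  have hYa2' : Commute Y a2' := by
    have hui : u⁻¹ = u := inv_eq_of_mul_eq_one_right huu
    have hth' : K.wv b c (th y) = u * Y * u⁻¹ := (K.conj_u C y).symm
    have e := K.wv_act C (th y) vA2
    rw [hth, a2e, hth'] at e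
    refine mul_inv_eq_iff_eq_mul.1 ?_
    rw [hua]
    calc Y * (u * a2 * u⁻¹) * Y⁻¹ = u * (u * Y * u⁻¹ * a2 * (u * Y * u⁻¹)⁻¹) * u⁻¹ := by
          simp only [hui, mul_inv_rev, mul_assoc]
          simp only [← mul_assoc u u, huu, one_mul, mul_one]
      _ = _ := by rw [e]
  -- the preimage of `Y`
  set x := s⁻¹ * Y * s with hx
  have hxa1 : Commute x a1 := by
    refine mul_inv_eq_iff_eq_mul.1 ?_
    calc x * a1 * x⁻¹ = s⁻¹ * (Y * (s * a1 * s⁻¹) * Y⁻¹) * s := by rw [hx]; group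
      _ = a1 := by
        rw [hsa1.eq, mul_inv_cancel_right, hYa1.eq, mul_inv_cancel_right, mul_assoc, ← hsa1.eq,
          inv_mul_cancel_left]
  have hxa2 : Commute x a2 := by
    refine mul_inv_eq_iff_eq_mul.1 ?_
    calc x * a2 * x⁻¹ = s⁻¹ * (Y * (s * a2 * s⁻¹) * Y⁻¹) * s := by rw [hx]; group
      _ = s⁻¹ * a2' * s := by rw [hsa2, hYa2'.eq, mul_inv_cancel_right]
      _ = a2 := by rw [← hsa2]; group
  have hxT : x ∈ T := by
    refine P.hT.odd_mem x (K.mem_CA.2 ⟨hxa1, hxa2⟩) ?_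
    have hx3 : x ^ 3 = 1 := by
      calc x ^ 3 = x * x * x := by rw [pow_succ, pow_two]
        _ = s⁻¹ * (Y * (Y * Y)) * s := by rw [hx]; group
        _ = 1 := by rw [hY3]; group
    exact Odd.of_dvd_nat (by decide) (orderOf_dvd_of_pow_eq_one hx3)
  have hzx : z * x * z⁻¹ = x⁻¹ := by
    calc z * x * z⁻¹ = (s * z⁻¹)⁻¹ * Y * (s * z⁻¹) := by rw [hx]; group
      _ = (z⁻¹ * s)⁻¹ * Y * (z⁻¹ * s) := by rw [hsz.inv_right.eq]
      _ = s⁻¹ * (z * Y * z⁻¹) * s := by group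
      _ = x⁻¹ := by rw [hzY, hx]; group
  have hsx : s * x * s⁻¹ = Y := by rw [hx]; group
  have hsY : s * Y * s⁻¹ = x⁻¹ := by
    rw [← hzx, ← hssz, ← hsx]; group
  have hsx' : s⁻¹ * x * s = Y⁻¹ := by
    have zi : z⁻¹ = z := inv_eq_of_mul_eq_one_right K.raw.z_sq
    calc s⁻¹ * x * s = z * s * x * (z * s)⁻¹ := by rw [← hsi, inv_inv]
      _ = z * (s * x * s⁻¹) * z⁻¹ := by group
      _ = Y⁻¹ := by rw [hsx, hzY]
  obtain ⟨v, hv, ev⟩ := K.psi_surj P hxT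
  have hvz : lz v = vsc 2 v := by
    refine K.psi_inj P (lin_lt ..) (vsc_lt ..) ?_
    rw [← K.conj_z P, K.psi_sq C, ev, hzx]
  -- the braid relation
  have braid : s * a2 * s = a2⁻¹ * s⁻¹ * a2⁻¹ := by
    have la := Hyp.mh_lt lA2 lA2
    have lZ : cZ < 1152 := zW'.2.2.1
    have ha : a2⁻¹ = K.p (mh cA2 cA2) := by
      rw [K.p_mh lA2 lA2, ← ha2d]
      refine inv_eq_of_mul_eq_one_right ?_
      rw [← mul_assoc]; exact K.inA_cube ⟨cA2, pk_facts.2.2.2.2.2.2.2.2, rfl⟩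
    rw [ha, hsi, hs, ha2d, ← K.p_mh lS lA2, ← K.p_mh (Hyp.mh_lt lS lA2) lS, fbraid,
      K.p_mh (Hyp.mh_lt la (Hyp.mh_lt lZ lS)) la, K.p_mh la (Hyp.mh_lt lZ lS), K.p_mh lZ lS, K.p_z]
  have eY : a2 * Y * a2⁻¹ = (a1 * K.psi b xk)⁻¹ * Y := by
    have e := K.wv_act C y vA2
    rw [hd, K.psi_add P, K.psi_add P, a2e, s_one, ← hY] at e
    calc a2 * Y * a2⁻¹ = a2 * (Y * a2 * Y⁻¹)⁻¹ * Y := by group
      _ = a2 * (a2 * a1 * K.psi b xk)⁻¹ * Y := by rw [e]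
      _ = _ := by
        have c1 : Commute a2 (a1 * K.psi b xk) := by
          rw [← a2e, ← s_one, ← K.psi_add P]
          exact K.T_comm_psi P _ _
        rw [mul_assoc a2 a1, c1.eq]; group
  set d' := K.psi b (vadd (vsc 2 vA2) (act (y ++ y) vA2)) with hd'
  have eY' : a2⁻¹ * Y⁻¹ * a2 = d' * Y⁻¹ := by
    rw [hd', K.psi_add P, K.psi_sq C, a2e, ← K.wv_act C, ← hYi, a2e]
    group
  set t0 := a1 * d' * K.psi b (act (y ++ y) v) with ht0
  have main : s * (K.psi b xk)⁻¹ * s⁻¹ = t0 * Y⁻¹ := by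
    have h : s * (a2 * (s * x * s⁻¹) * a2⁻¹) * s⁻¹ = a2⁻¹ * (s⁻¹ * x * s) * a2 := by
      calc s * (a2 * (s * x * s⁻¹) * a2⁻¹) * s⁻¹ = s * a2 * s * x * (s * a2 * s)⁻¹ := by group
        _ = a2⁻¹ * s⁻¹ * (a2⁻¹ * x * a2) * s * a2 := by rw [braid]; group
        _ = a2⁻¹ * s⁻¹ * x * s * a2 := by rw [mul_assoc a2⁻¹ x a2, hxa2.eq, inv_mul_cancel_left]
        _ = _ := by group
    rw [hsx, eY, hsx', eY'] at h
    have hd'x : Y⁻¹ * x = K.psi b (act (y ++ y) v) * Y⁻¹ := by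
      rw [← K.wv_act C, ← hYi, ev]; group
    have hXa1 : Commute a1 (K.psi b xk) := by rw [← s_one]; exact K.T_comm_psi P _ _
    calc s * (K.psi b xk)⁻¹ * s⁻¹ = a1 * (a1⁻¹ * s * (K.psi b xk)⁻¹ * s⁻¹) := by group
      _ = a1 * (s * (a1⁻¹ * (K.psi b xk)⁻¹) * s⁻¹) := by
        rw [← hsa1.inv_right.eq]; group
      _ = a1 * (s * ((a1 * K.psi b xk)⁻¹ * Y) * s⁻¹ * (s * Y * s⁻¹)⁻¹) := by
        rw [hXa1.inv_inv.eq]; group
      _ = a1 * (d' * Y⁻¹ * x) := by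
        rw [h, hsY, inv_inv]
      _ = _ := by rw [mul_assoc d', hd'x, ht0]; group
  have hst : s * K.psi b xk * s⁻¹ = Y * t0⁻¹ := by
    calc s * K.psi b xk * s⁻¹ = (s * (K.psi b xk)⁻¹ * s⁻¹)⁻¹ := by group
      _ = _ := by rw [main]; group
  obtain ⟨τ, hτ⟩ : ∃ τ, t0 = K.psi b τ := ⟨vadd (vadd vA1 (vadd (vsc 2 vA2) (act (y ++ y) vA2)))
    (act (y ++ y) v), by rw [K.psi_add P, K.psi_add P vA1, s_one]⟩
  set ν := vadd (vsc 2 v) xk with hν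
  have hν' : K.psi b ν = x⁻¹ * K.psi b xk := by rw [hν, K.psi_add P, K.psi_sq C, ev]
  have hsν : s * K.psi b ν * s⁻¹ = t0⁻¹ := by
    calc s * K.psi b ν * s⁻¹ = (s * x * s⁻¹)⁻¹ * (s * K.psi b xk * s⁻¹) := by rw [hν']; group
      _ = _ := by rw [hsx, hst, inv_mul_cancel_left]
  have cν2 : Commute (K.psi b ν) a2 := by rw [← a2e]; exact K.T_comm_psi P _ _
  have cν2' : Commute (K.psi b ν) a2' := by
    have c0 : Commute t0⁻¹ a2 := by
      rw [hτ, ← a2e]; exact Commute.inv_left (K.T_comm_psi P _ _)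
    rw [← hsν] at c0
    refine mul_inv_eq_iff_eq_mul.1 ?_
    calc K.psi b ν * a2' * (K.psi b ν)⁻¹ =
        s⁻¹ * (s * K.psi b ν * s⁻¹ * (s * a2' * s⁻¹) * (s * K.psi b ν * s⁻¹)⁻¹) * s := by group
      _ = a2' := by
        have : s * a2' * s⁻¹ = a2 := by rw [← hsa2']; group
        rw [this, c0.eq, mul_inv_cancel_right, hsa2']
  have cνz : Commute (K.psi b ν) z := by
    have lU2 := Hyp.mh_lt lUA lUA
    have e : z = a2 * (a2' * a2') * (a2 * (a2' * a2')) := by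
      rw [ha2d, ha2'd, ← K.p_mh lUA lUA, ← K.p_mh lA2 lU2,
        ← K.p_mh (Hyp.mh_lt lA2 lU2) (Hyp.mh_lt lA2 lU2), fz, K.p_z]
    have := (cν2.mul_right (cν2'.mul_right cν2')).mul_right (cν2.mul_right (cν2'.mul_right cν2'))
    rwa [← e] at this
  have hν0 : ν = 0 := by
    refine nu_zero ν (vadd_lt ..) ?_ (lz_lin _ (vsc_lt ..) _ hxk (lz_neg v hv hvz) hxz)
    refine K.psi_inj P (lin_lt ..) (vadd_lt ..) ?_
    rw [← K.conj_z P, cνz.symm.eq, mul_inv_cancel_right]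
  have hxe : K.psi b xk = x := by
    have := hν'
    rw [hν0, K.psi_zero P] at this
    exact (inv_mul_eq_one.1 this.symm).symm
  rw [hxe]
  exact ⟨hsx, hsY⟩

theorem s_x1 : K.p cS * K.psi b 9 * (K.p cS)⁻¹ = K.wv b c wY1 ∧
    K.p cS * K.wv b c wY1 * (K.p cS)⁻¹ = (K.psi b 9)⁻¹ := K.s_conj C y_ok.1

theorem s_x2 : K.p cS * K.psi b 27 * (K.p cS)⁻¹ = K.wv b c wY2 ∧
    K.p cS * K.wv b c wY2 * (K.p cS)⁻¹ = (K.psi b 27)⁻¹ := K.s_conj C y_ok.2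

end Hyp

end Cfsg.Agent.H66.UFour
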