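import Cfsg.Agent.H66.UFour.Frame

/-!
From the raw hypotheses to a frame.
-/

set_option autoImplicit false

namespace Cfsg.Agent.H66.UFour

variable {G : Type*} [Group G]

theorem slG_slG (v : S2) : slG (slG v) = v := by
  obtain ⟨a, ha, rfl⟩ := sl_surj v
  rw [← sl_sg ha, ← sl_sg (sg_lt a ha)]
  congr 1
  exact (show ∀ a < 24, sg (sg a) = a by decide +kernel) a ha

namespace Raw

variable {z : G} {e1 e2 : S2 →* G} (R : Raw z e1 e2)
include R

theorem centre {h : G} (hz : h * z = z * h) (h1 : ∀ A, h * e1 A = e1 A * h)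
    (h2 : ∀ B, h * e2 B = e2 B * h) : h = 1 ∨ h = z := by
  have hQ : InQ e1 e2 h := R.centQ h hz (by
    rintro _ ⟨a, -, b, -, -, -, rfl⟩
    rw [pp, ← mul_assoc, h1, mul_assoc, h2, mul_assoc])
  obtain ⟨a, ha, b, hb, -, -, rfl⟩ := hQ
  have step : ∀ {k : ℕ}, k < 24 → sm a k = sm k a ∧ sm b k = sm k b := by
    intro k hk
    have p := h1 (sl k); have q := h2 (sl k)
    constructor
    · rw [pp, mul_assoc, ← R.comm, ← mul_assoc, ← mul_assoc, mul_right_cancel_iff, ← map_mul,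
        ← map_mul, ← sl_mul ha hk, ← sl_mul hk ha] at p
      exact sl_inj (sm_lt a ha k hk) (sm_lt k hk a ha) (R.inj1 p)
    · rw [pp, mul_assoc, ← mul_assoc (e2 (sl k)), ← R.comm, mul_assoc, mul_left_cancel_iff,
        ← map_mul, ← map_mul, ← sl_mul hb hk, ← sl_mul hk hb] at q
      exact sl_inj (sm_lt b hb k hk) (sm_lt k hk b hb) (R.inj2 q)
  have n5 : (5 : ℕ) < 24 := by norm_num
  have n8 : (8 : ℕ) < 24 := by norm_num
  rcases comm_gens a ha (step n5).1 (step n8).1 with rfl | rfl <;>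
    rcases comm_gens b hb (step n5).2 (step n8).2 with rfl | rfl
  · exact Or.inl R.pp_one
  · exact Or.inr R.pp_z2
  · exact Or.inr R.pp_z1
  · left
    exact (show pp e1 e2 12 12 = 1 by
      rw [show (12 : ℕ) = sn 0 from rfl, R.pp_sn (by norm_num) (by norm_num), R.pp_one])

/-- replace the second factor by the conjugate of the first under a swapping involution -/
theorem change {w : G} (hw : w * z = z * w) (ww : w * w = 1) (sw : Swp e1 e2 w) :
    ∃ e2' : S2 →* G, (∀ B, e2' B = w * e1 B * w) ∧ Raw z e1 e2' ∧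
      ∀ x, InQ e1 e2' x ↔ InQ e1 e2 x := by
  have wi : w⁻¹ = w := inv_eq_of_mul_eq_one_right ww
  let e2' : S2 →* G := (MulAut.conj w).toMonoidHom.comp e1
  have he : ∀ B, e2' B = w * e1 B * w := fun B => by
    show w * e1 B * w⁻¹ = _
    rw [wi]
  have to2 : ∀ B, ∃ D, e2' B = e2 D := fun B => sw.1 B
  have of2 : ∀ D, ∃ B, e2 D = e2' B := fun D => by
    obtain ⟨B, hB⟩ := sw.2 D
    refine ⟨B, ?_⟩
    rw [wi] at hB
    rw [he, ← hB]
    simp only [← mul_assoc, ww, one_mul]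
    rw [mul_assoc, ww, mul_one]
  have he' : ∀ B, e2' (-1) * e2' B = e2' (-1 * B) := fun B => (map_mul _ _ _).symm
  have hneg : e2' (-1) = z := by rw [he, R.neg1, hw, mul_assoc, ww, mul_one]
  have four_iff : ∀ {x : G}, (∃ A B, x = e1 A * e2' B) ↔ InK e1 e2 x := by
    intro x
    constructor
    · rintro ⟨A, B, rfl⟩
      obtain ⟨D, hD⟩ := to2 B
      exact ⟨A, D, by rw [hD]⟩
    · rintro ⟨A, D, rfl⟩
      obtain ⟨B, hB⟩ := of2 D
      exact ⟨A, B, by rw [hB]⟩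
  have comm' : ∀ A B, e1 A * e2' B = e2' B * e1 A := fun A B => by
    obtain ⟨D, hD⟩ := to2 B
    rw [hD]; exact R.comm A D
  have Qiff : ∀ x, InQ e1 e2' x ↔ InQ e1 e2 x := by
    intro x
    constructor
    · rintro ⟨a, ha, b, hb, qa, qb, rfl⟩
      refine R.inQ_of_pow (four_iff.1 ⟨_, _, rfl⟩) ?_
      have e4 : e2' (sl b) ^ 4 = 1 := by
        simp only [isQ, Nat.beq_eq] at qb
        rw [← map_pow, pow_succ, pow_succ, pow_succ, pow_one, mul_assoc, ← sl_mul hb hb,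
          ← sl_mul (sm_lt b hb b hb) (sm_lt b hb b hb), qb, sl_zero, map_one]
      have e4' : e1 (sl a) ^ 4 = 1 := by
        simp only [isQ, Nat.beq_eq] at qa
        rw [← map_pow, pow_succ, pow_succ, pow_succ, pow_one, mul_assoc, ← sl_mul ha ha,
          ← sl_mul (sm_lt a ha a ha) (sm_lt a ha a ha), qa, sl_zero, map_one]
      rw [pp, Commute.mul_pow (show Commute (e1 (sl a)) (e2' (sl b)) from comm' _ _), e4, e4', one_mul]
    · rintro ⟨a, ha, d, hd, qa, qd, rfl⟩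
      obtain ⟨B, hB⟩ := of2 (sl d)
      obtain ⟨b, hb, rfl⟩ := sl_surj B
      refine ⟨a, ha, b, hb, qa, ?_, by rw [pp, pp, hB]⟩
      have hi : Function.Injective e2' := (MulAut.conj w).injective.comp R.inj1
      simp only [isQ, Nat.beq_eq] at qd ⊢
      refine sl_inj (sm_lt _ (sm_lt b hb b hb) _ (sm_lt b hb b hb)) (by norm_num) (hi ?_)
      rw [sl_mul (sm_lt b hb b hb) (sm_lt b hb b hb), sl_mul hb hb, map_mul, map_mul, ← hB,
        ← map_mul, ← map_mul, ← sl_mul hd hd, ← sl_mul (sm_lt d hd d hd) (sm_lt d hd d hd), qd,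
        sl_zero, map_one, map_one]
  refine ⟨e2', he, ?_, Qiff⟩
  refine
    { z_ne := R.z_ne
      z_sq := R.z_sq
      neg1 := R.neg1
      neg2 := hneg
      inj1 := R.inj1
      inj2 := (MulAut.conj w).injective.comp R.inj1
      comm := comm'
      meet := ?_
      card := R.card
      conjK := ?_
      conjQ := ?_
      centQ := ?_
      nwc := ?_
      inter := ?_ }
  · intro A B h
    obtain ⟨D, hD⟩ := to2 B
    rcases R.meet A D (h.trans hD) with ⟨rfl, -⟩ | ⟨rfl, -⟩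
    · left; refine ⟨rfl, (MulAut.conj w).injective.comp R.inj1 ?_⟩
      show e2' B = e2' 1
      rw [← h, map_one, map_one]
    · right; refine ⟨rfl, (MulAut.conj w).injective.comp R.inj1 ?_⟩
      show e2' B = e2' (-1)
      rw [← h, R.neg1, hneg]
  · intro h hh A B
    obtain ⟨D, hD⟩ := to2 B
    obtain ⟨C', D', e⟩ := R.conjK h hh A D
    rw [hD]
    exact four_iff.2 ⟨C', D', e⟩
  · intro h hh x hx
    exact (Qiff _).2 (R.conjQ h hh x ((Qiff x).1 hx))
  · intro h hh hc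
    exact (Qiff _).2 (R.centQ h hh fun x hx => hc x ((Qiff x).2 hx))
  · obtain ⟨g, h1, h2⟩ := R.nwc
    exact ⟨g, (Qiff _).2 h1, h2⟩
  · intro g h1 h2
    refine Eq.trans (Nat.card_congr (Equiv.subtypeEquivRight fun x => ?_))
      (R.inter g ((Qiff _).1 h1) h2)
    rw [Qiff, Qiff]

end Raw

/-- a frame together with the raw hypotheses for its factors -/
theorem Raw.exists_frame_hom [Finite G] {z : G} {e1 e2 : S2 →* G} (R : Raw z e1 e2) :
    ∃ e < 2, ∃ f < 2, ∃ F : Frame z e f, Raw z F.hom F.hom2 ∧ F.hom = e1 := by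
  obtain ⟨g, hg1, hg2⟩ := R.nwc
  have hg : Good e1 e2 z g := ⟨hg1, hg2⟩
  obtain ⟨w, hw, ww, sw⟩ := R.exists_w hg
  obtain ⟨e2', he, R', Qiff⟩ := R.change hw ww sw
  have hg' : Good e1 e2' z g := ⟨(Qiff _).2 hg1, hg2⟩
  obtain ⟨x, k1, k2, hx, x1, x2, fx, nx⟩ := R'.exists_outer hg'
  have wi : w⁻¹ = w := inv_eq_of_mul_eq_one_right ww
  set k := e1 k1 * e2' k2 with hk
  have hkK : InK e1 e2' k := ⟨_, _, rfl⟩
  set i := k⁻¹ * x with hi
  have hiz : i * z = z * i :=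
    mem_H.1 (mul_mem (inv_mem (mem_H.2 (R'.inK_comm_z hkK))) (mem_H.2 hx))
  have i1 : ∀ v, i * e1 v * i⁻¹ = e1 (slG v) := by
    intro v
    calc i * e1 v * i⁻¹ = k⁻¹ * (x * e1 v * x⁻¹) * k := by rw [hi]; group
      _ = k⁻¹ * e1 (k1 * slG v * k1⁻¹) * k := by rw [x1]
      _ = (e2' k2)⁻¹ * ((e1 k1)⁻¹ * e1 (k1 * slG v * k1⁻¹) * e1 k1) * e2' k2 := by rw [hk]; group
      _ = (e2' k2)⁻¹ * e1 (slG v) * e2' k2 := by
        rw [map_mul, map_mul, map_inv]; group
      _ = _ := by rw [mul_assoc, R'.comm, inv_mul_cancel_left]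
  have i2 : ∀ v, i * e2' v * i⁻¹ = e2' (slG v) := by
    intro v
    calc i * e2' v * i⁻¹ = k⁻¹ * (x * e2' v * x⁻¹) * k := by rw [hi]; group
      _ = k⁻¹ * e2' (k2 * slG v * k2⁻¹) * k := by rw [x2]
      _ = (e2' k2)⁻¹ * ((e1 k1)⁻¹ * (e2' (k2 * slG v * k2⁻¹) * e1 k1)) * e2' k2 := by
        rw [hk]; group
      _ = (e2' k2)⁻¹ * e2' (k2 * slG v * k2⁻¹) * e2' k2 := by
        rw [← R'.comm, inv_mul_cancel_left]
      _ = _ := by rw [map_mul, map_mul, map_inv]; group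
  have ki : ∀ {f : S2 →* G}, (∀ v, i * f v * i⁻¹ = f (slG v)) → ∀ v, i⁻¹ * f v * i = f (slG v) := by
    intro f h v
    conv_lhs => rw [← slG_slG v, ← h (slG v)]
    group
  have hw1 : ∀ v, w * e1 v * w⁻¹ = e2' v := fun v => by rw [he, wi]
  have hw2 : ∀ v, w * e2' v * w⁻¹ = e1 v := fun v => by
    rw [wi, he]; simp only [← mul_assoc, ww, one_mul]; rw [mul_assoc, ww, mul_one]
  have hiisq : i * i = 1 ∨ i * i = z := by
    refine R'.centre (by rw [mul_assoc, hiz, ← mul_assoc, hiz, mul_assoc]) (fun v => ?_)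
      (fun v => ?_)
    · calc i * i * e1 v = i * (i * e1 v * i⁻¹) * i⁻¹ * (i * i) := by group
        _ = _ := by rw [i1, i1, slG_slG]
    · calc i * i * e2' v = i * (i * e2' v * i⁻¹) * i⁻¹ * (i * i) := by group
        _ = _ := by rw [i2, i2, slG_slG]
  have hcomm : w * i * (i * w)⁻¹ = 1 ∨ w * i * (i * w)⁻¹ = z := by
    refine R'.centre ?_ (fun v => ?_) (fun v => ?_)
    · exact mem_H.1 (mul_mem (mul_mem (mem_H.2 hw) (mem_H.2 hiz))
        (inv_mem (mul_mem (mem_H.2 hiz) (mem_H.2 hw))))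
    · calc w * i * (i * w)⁻¹ * e1 v =
          w * (i * (w⁻¹ * (i⁻¹ * e1 v * i) * w) * i⁻¹) * w⁻¹ * (w * i * (i * w)⁻¹) := by group
        _ = _ := by
          rw [ki i1, show w⁻¹ * e1 (slG v) * w = e2' (slG v) by rw [wi, he], i2, slG_slG, hw2]
    · calc w * i * (i * w)⁻¹ * e2' v =
          w * (i * (w⁻¹ * (i⁻¹ * e2' v * i) * w) * i⁻¹) * w⁻¹ * (w * i * (i * w)⁻¹) := by group
        _ = _ := by
          rw [ki i2, show w⁻¹ * e2' (slG v) * w = e1 (slG v) by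
            rw [← hw2 (slG v), wi], i1, slG_slG, hw1]
  obtain ⟨e, he2, hii⟩ : ∃ e < 2, i * i = z ^ e := by
    rcases hiisq with h | h
    · exact ⟨0, by norm_num, by rw [h, pow_zero]⟩
    · exact ⟨1, by norm_num, by rw [h, pow_one]⟩
  obtain ⟨f, hf2, hwi⟩ : ∃ f < 2, w * i = z ^ f * (i * w) := by
    rcases hcomm with h | h
    · exact ⟨0, by norm_num, by rw [pow_zero, one_mul]; exact mul_inv_eq_one.1 h⟩
    · exact ⟨1, by norm_num, by rw [pow_one]; exact mul_inv_eq_iff_eq_mul.1 h⟩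
  have ni : ¬InK e1 e2' i := fun h => nx (by
    have := R'.Kgrp.mul_mem hkK h
    rwa [hi, mul_inv_cancel_left] at this)
  have fi : Fix e1 e2' i := ⟨fun v => ⟨_, i1 v⟩, fun v => ⟨_, i2 v⟩⟩
  have sw' : Swp e1 e2' w := ⟨fun v => ⟨_, hw1 v⟩, fun v => ⟨_, hw2 v⟩⟩
  have left : ∀ {h y : G}, h * z = z * h → InK e1 e2' (h⁻¹ * y) →
      ∃ A B, y = e1 A * e2' B * h := by
    intro h y hh hK
    obtain ⟨A, B, e⟩ := hK
    obtain ⟨C, D, e'⟩ := R'.conjK h hh A B
    refine ⟨C, D, ?_⟩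
    rw [← e', ← e]
    group
  have surj : ∀ y : G, y * z = z * y → ∃ A B, ∃ p q : ℕ,
      y = e1 A * (w * e1 B * w) * (i ^ p * w ^ q) := by
    have fixcase : ∀ y : G, y * z = z * y → Fix e1 e2' y →
        ∃ A B, ∃ p : ℕ, p < 2 ∧ y = e1 A * e2' B * i ^ p := by
      intro y hy fy
      by_cases ny : InK e1 e2' y
      · obtain ⟨A, B, e⟩ := ny
        exact ⟨A, B, 0, by norm_num, by rw [pow_zero, mul_one, e]⟩
      · obtain ⟨A, B, e⟩ := left hiz (R'.fix_coset hg' hiz hy fi fy ni ny)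
        exact ⟨A, B, 1, by norm_num, by rw [pow_one, e]⟩
    intro y hy
    rcases R'.permute hy with fy | sy
    · obtain ⟨A, B, p, -, e⟩ := fixcase y hy fy
      exact ⟨A, B, p, 0, by rw [pow_zero, mul_one, ← he, e]⟩
    · have hyw : y * w * z = z * (y * w) := mem_H.1 (mul_mem (mem_H.2 hy) (mem_H.2 hw))
      obtain ⟨A, B, p, -, e⟩ := fixcase (y * w) hyw (sy.mul sw')
      refine ⟨A, B, p, 1, ?_⟩
      rw [pow_one, ← he, ← mul_assoc, ← e, mul_assoc, ww, mul_one]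
  let F : Frame z e f :=
    { hom := e1, w := w, i := i, z_ne := R.z_ne, z_sq := R.z_sq, neg := R.neg1
      comm := fun A B => by rw [← he]; exact R'.comm A B
      w_sq := ww, wz := hw, iz := hiz, i_conj := i1, i_sq := hii, wi := hwi, card := R.card
      surj' := surj }
  refine ⟨e, he2, f, hf2, F, ?_, rfl⟩
  have : F.hom2 = e2' := MonoidHom.ext fun B => (he B).symm
  rw [this]
  exact R'

theorem Raw.exists_frame [Finite G] {z : G} {e1 e2 : S2 →* G} (R : Raw z e1 e2) :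
    ∃ e < 2, ∃ f < 2, ∃ F : Frame z e f, Raw z F.hom F.hom2 :=
  let ⟨e, he, f, hf, F, RF, _⟩ := R.exists_frame_hom
  ⟨e, he, f, hf, F, RF⟩

end Cfsg.Agent.H66.UFour
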