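import Cfsg.Agent.H66.UFour.ModelData
import Cfsg.Agent.H95.UFourThreeData
import Cfsg.Agent.H95.PermIso

/-!
Kernel checks on the generated data.
-/

set_option autoImplicit false
set_option maxRecDepth 100000
set_option Elab.async false

namespace Cfsg.Agent.H66.UFour.Model

open Cfsg.Agent.Compute Cfsg.Agent.H95

/-- entry of the program -/
noncomputable def ent (k : ℕ) : ℕ × ℕ := (nth ((0, 0), 0, 0) slp k).1

/-- code of a letter -/
noncomputable def lc' (k : ℕ) : ℕ :=
  bif Nat.ble 9 k then (ent (Nat.sub k 9)).2 else (ent k).1

/-- image of a point under a word -/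
noncomputable def wap (l : List ℕ) (j : ℕ) : ℕ :=
  List.rec j (fun k _ r => getP 7 (lc' k) r) l

/-- all letters below 18 -/
noncomputable def small (l : List ℕ) : Bool := Compute.lall l (fun k => Nat.ble (Nat.add k 1) 18)

/-- agreement of two words on all points -/
noncomputable def sameW (l r : List ℕ) : Bool :=
  small l && small r && allN 112 (fun j => Nat.beq (wap l j) (wap r j))

theorem slp_ok : PermIso.slpOK 7 112 9 (nextGens UFourThree.u43Chain) slp = true := by
  decide +kernel

theorem slp_len : Nat.ble 9 slp.length = true := by decide +kernel

theorem rels_ok : Compute.lall rels (fun p => sameW p.1 p.2) = true := by decide +kernel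

theorem rels_len : rels.length = 51 := by decide +kernel

theorem five_ok : (small five && sameW (five ++ five ++ five ++ five ++ five) [] &&
    allN 112 (fun j => (Nat.beq (wap five j) j) == (Nat.beq j 1 || Nat.beq j 82))) = true := by
  decide +kernel

theorem seven_ok : (small seven &&
    sameW (seven ++ seven ++ seven ++ seven ++ seven ++ seven ++ seven) [] &&
    allN 112 (fun j => !Nat.beq (wap seven j) j)) = true := by
  decide +kernel

end Cfsg.Agent.H66.UFour.Model
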