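import Mathlib

/-!
Relations for a group with a split BN-pair of type U4(3), and the resulting bound on its order.
-/

set_option autoImplicit false

namespace Cfsg.Agent.H66.UFour

/-- the table for `w (y₁^p y₂^q) w` -/
def wtab (p q : ℕ) : ℕ × ℕ × ℕ :=
  [(0, 0, 0), (0, 2, 0), (0, 1, 0), (1, 0, 2), (2, 1, 1), (2, 2, 3), (2, 0, 2), (1, 1, 3),
    (1, 2, 1)].getD (3 * p + q) (0, 0, 0)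

/-- nine elements with the relations -/
structure Rel {G : Type*} [Group G] (a1 a2 x1 x2 y1 y2 i w s : G) : Prop where
  c12 : Commute a1 a2
  c13 : Commute a1 x1
  c14 : Commute a1 x2
  c23 : Commute a2 x1
  c24 : Commute a2 x2
  c34 : Commute x1 x2
  cy : Commute y1 y2
  o1 : a1 ^ 3 = 1
  o2 : a2 ^ 3 = 1
  o3 : x1 ^ 3 = 1
  o4 : x2 ^ 3 = 1
  o5 : y1 ^ 3 = 1
  o6 : y2 ^ 3 = 1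
  y1a1 : y1 * a1 * y1⁻¹ = a1
  y2a1 : y2 * a1 * y2⁻¹ = a1
  y1a2 : y1 * a2 * y1⁻¹ = a2 * a1 * x1
  y2a2 : y2 * a2 * y2⁻¹ = a2 * a1 * x2
  y1x1 : y1 * x1 * y1⁻¹ = a1⁻¹ * x1
  y1x2 : y1 * x2 * y1⁻¹ = x2
  y2x1 : y2 * x1 * y2⁻¹ = x1
  y2x2 : y2 * x2 * y2⁻¹ = a1⁻¹ * x2
  i4 : i ^ 4 = 1
  ia1 : i * a1 * i⁻¹ = a1⁻¹
  ia2 : i * a2 * i⁻¹ = a2⁻¹
  ix1 : i * x1 * i⁻¹ = x2
  ix2 : i * x2 * i⁻¹ = x1⁻¹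
  iy1 : i * y1 * i⁻¹ = y2⁻¹
  iy2 : i * y2 * i⁻¹ = y1
  w2 : w * w = 1
  wa1 : w * a1 * w = a2
  wx1 : w * x1 * w = x1
  wx2 : w * x2 * w = x2⁻¹
  wi : w * i * w = i⁻¹
  wY : ∀ p < 3, ∀ q < 3, p ≠ 0 ∨ q ≠ 0 → w * (y1 ^ p * y2 ^ q) * w =
    y1 ^ (wtab p q).1 * y2 ^ (wtab p q).2.1 * i ^ (wtab p q).2.2 * w *
      (y1 ^ (wtab p q).1 * y2 ^ (wtab p q).2.1)
  s2 : s * s = i * i
  sa1 : s * a1 * s⁻¹ = a1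
  sx1 : s * x1 * s⁻¹ = y1
  sx2 : s * x2 * s⁻¹ = y2
  sy1 : s * y1 * s⁻¹ = x1⁻¹
  sy2 : s * y2 * s⁻¹ = x2⁻¹
  si : s * i * s⁻¹ = i⁻¹
  sa2 : s * a2 * s⁻¹ = a2⁻¹ * s * a2⁻¹
  sa2' : s * a2⁻¹ * s⁻¹ = a2 * (i * i) * s * a2
  ws : (w * s) ^ 4 = 1

end Cfsg.Agent.H66.UFour
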