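import Cfsg.Agent.H66.UFour.Levi
import Cfsg.Agent.H66.UFour.Rel

/-!
The relations hold in a group with the centraliser of U4(3) type.
-/

set_option autoImplicit false
set_option synthInstance.maxSize 4000
set_option synthInstance.maxHeartbeats 400000
set_option maxRecDepth 10000

namespace Cfsg.Agent.H66.UFour

/-- repeated word -/
def rep : ℕ → List ℕ → List ℕ
  | 0, _ => []
  | n + 1, l => l ++ rep n l

/-- the word `y₁^p y₂^q` -/
def wYpq (p q : ℕ) : List ℕ := rep p wY1 ++ rep q wY2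

theorem rel_words : (∀ v < 81, act (wY1 ++ wY2) v = act (wY2 ++ wY1) v) ∧
    (∀ v < 81, act ([2] ++ (wY1 ++ [2, 0])) v = act (wY2 ++ wY2) v) ∧
    (∀ v < 81, act ([2] ++ (wY2 ++ [2, 0])) v = act wY1 v) ∧
    (∀ v < 81, act [1, 2, 1] v = act [2, 0] v) ∧
    (∀ p < 3, ∀ q < 3, p ≠ 0 ∨ q ≠ 0 → ∀ v < 81,
      act ([1] ++ (wYpq p q ++ [1])) v =
        act (wYpq (wtab p q).1 (wtab p q).2.1 ++
          (rep (wtab p q).2.2 [2] ++ ([1] ++ wYpq (wtab p q).1 (wtab p q).2.1))) v) := by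
  decide +kernel

theorem rel_vecs : act wY1 vA2 = vadd (vadd vA2 vA1) 9 ∧ act wY2 vA2 = vadd (vadd vA2 vA1) 27 ∧
    act wY1 9 = vadd (vsc 2 vA1) 9 ∧ act wY1 27 = 27 ∧ act wY2 9 = 9 ∧
    act wY2 27 = vadd (vsc 2 vA1) 27 ∧
    li vA1 = vsc 2 vA1 ∧ li vA2 = vsc 2 vA2 ∧ li 9 = 27 ∧ li 27 = vsc 2 9 ∧
    lw vA1 = vA2 ∧ lw 9 = 9 ∧ lw 27 = vsc 2 27 ∧ act wY1 vA1 = vA1 ∧ act wY2 vA1 = vA1 := by
  decide +kernel

theorem rel_codes : (mh cS cS = mh cI cI ∧ mh cS cA1 = mh cA1 cS ∧ mh cI cI = cZ ∧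
    mh cS cI = mh (mh cI cZ) cS ∧
    mh cS cA2 = mh (mh (mh (mh cA2 cA2) cS) (mh cA2 cA2)) cS ∧
    mh cS (mh cA2 cA2) = mh (mh (mh (mh cA2 (mh cI cI)) cS) cA2) cS ∧
    mh (mh (mh cW cS) (mh cW cS)) (mh (mh cW cS) (mh cW cS)) = 0 ∧ mh cW cW = 0) := by
  decide +kernel

namespace Hyp

variable {G : Type*} [Group G] [Finite G] {z : G} (K : Hyp z)
variable {T : Subgroup G} {b c : G} (C : K.Coords T b c)

omit [Finite G] in
theorem wv_rep (n : ℕ) (l : List ℕ) : K.wv b c (rep n l) = K.wv b c l ^ n := by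
  induction n with
  | zero => exact (pow_zero _).symm
  | succ n ih => rw [rep, K.wv_append, ih, pow_succ']

omit [Finite G] in
theorem wv_one (k : ℕ) : K.wv b c [k] = K.lv b c k := mul_one _

include C

theorem psi_conj_of {g : G} {u v : ℕ} {f : ℕ → ℕ}
    (h : ∀ v, g * K.psi b v * g⁻¹ = K.psi b (f v)) (e : f u = v) :
    g * K.psi b u * g⁻¹ = K.psi b v := by rw [h, e]

/-- the relations -/
theorem rel : Rel (K.p cA1) (K.p cA2) (K.psi b 9) (K.psi b 27) (K.wv b c wY1) (K.wv b c wY2)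
    (K.p cI) (K.p cW) (K.p cS) := by
  have P := C.pre
  obtain ⟨lS, lU, lA1, lA2, -, -⟩ := levi_facts.1
  have lZ : cZ < 1152 := zW'.2.2.1
  have lI : cI < 1152 := zW'.2.1
  have lW : cW < 1152 := coord_facts.2.1.2.1
  obtain ⟨g1, g2, g3, g4, g5, g6, g7, g8⟩ := rel_codes
  obtain ⟨v1, v2, v3, v4, v5, v6, v7, v8, v9, v10, v11, v12, v13, v14, v15⟩ := rel_vecs
  obtain ⟨w1, w2, w3, w4, w5⟩ := rel_words
  have e1 := (K.psi_A1 C).symm
  have e2 := (K.psi_A2 C).symm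
  have cm : ∀ u v, Commute (K.psi b u) (K.psi b v) := fun u v => K.T_comm_psi P u v
  have cube : ∀ v, K.psi b v ^ 3 = 1 := fun v => by
    have e : vsc 3 v = 0 := by
      show 3 * dg v 0 % 3 + 3 * (3 * dg v 1 % 3) + (9 * (3 * dg v 2 % 3) + 27 * (3 * dg v 3 % 3)) = 0
      omega
    rw [← K.psi_sc P, e, K.psi_zero P]
  have hi : (K.p cI)⁻¹ = K.p cI * z := K.i_inv
  have hwi : (K.p cW)⁻¹ = K.p cW := inv_eq_of_mul_eq_one_right (by
    rw [← K.p_mh lW lW, g8, K.p_zero])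
  have ei : K.wv b c [2, 0] = K.p cI * z := by
    show K.p cI * (z * 1) = _
    rw [mul_one]
  have ew : ∀ x : G, K.p cW * x * K.p cW = K.p cW * x * (K.p cW)⁻¹ := fun x => by rw [hwi]
  have inv2 : ∀ {l : List ℕ}, (∀ v < 81, act (l ++ (l ++ l)) v = act [] v) →
      K.wv b c (l ++ l) = (K.wv b c l)⁻¹ := fun {l} h => by
    have := K.word_eq C _ [] h
    rw [K.wv_append] at this
    exact (inv_eq_of_mul_eq_one_right this).symm
  have Ypq : ∀ p q, K.wv b c (wYpq p q) = K.wv b c wY1 ^ p * K.wv b c wY2 ^ q := fun p q => by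
    rw [wYpq, K.wv_append, K.wv_rep, K.wv_rep]
  have cS' : ∀ {m n : ℕ}, m < 1152 → n < 1152 → mh cS m = mh n cS →
      K.p cS * K.p m * (K.p cS)⁻¹ = K.p n := fun {m n} hm hn h => by
    rw [← K.p_mh lS hm, h, K.p_mh hn lS, mul_inv_cancel_right]
  have la := Hyp.mh_lt lA2 lA2
  have a2i : (K.p cA2)⁻¹ = K.p (mh cA2 cA2) := by
    rw [K.p_mh lA2 lA2]
    refine inv_eq_of_mul_eq_one_right ?_
    rw [← mul_assoc]; exact K.inA_cube ⟨cA2, pk_facts.2.2.2.2.2.2.2.2, rfl⟩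
  refine
    { c12 := by rw [e1, e2]; exact cm _ _
      c13 := by rw [e1]; exact cm _ _
      c14 := by rw [e1]; exact cm _ _
      c23 := by rw [e2]; exact cm _ _
      c24 := by rw [e2]; exact cm _ _
      c34 := cm _ _
      cy := by
        have := K.word_eq C _ _ w1
        rwa [K.wv_append, K.wv_append] at this
      o1 := by rw [e1]; exact cube _
      o2 := by rw [e2]; exact cube _
      o3 := cube _
      o4 := cube _
      o5 := ?o5
      o6 := ?o6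
      y1a1 := by rw [e1]; exact K.psi_conj_of C (K.wv_act C _) v14
      y2a1 := by rw [e1]; exact K.psi_conj_of C (K.wv_act C _) v15
      y1a2 := by rw [e1, e2, ← K.psi_add P, ← K.psi_add P]; exact K.psi_conj_of C (K.wv_act C _) v1
      y2a2 := by rw [e1, e2, ← K.psi_add P, ← K.psi_add P]; exact K.psi_conj_of C (K.wv_act C _) v2
      y1x1 := by rw [e1, ← K.psi_sq C, ← K.psi_add P]; exact K.psi_conj_of C (K.wv_act C _) v3
      y1x2 := K.psi_conj_of C (K.wv_act C _) v4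
      y2x1 := K.psi_conj_of C (K.wv_act C _) v5
      y2x2 := by rw [e1, ← K.psi_sq C, ← K.psi_add P]; exact K.psi_conj_of C (K.wv_act C _) v6
      i4 := ?i4
      ia1 := by rw [e1, ← K.psi_sq C]; exact K.psi_conj_of C (K.conj_i C) v7
      ia2 := by rw [e2, ← K.psi_sq C]; exact K.psi_conj_of C (K.conj_i C) v8
      ix1 := K.psi_conj_of C (K.conj_i C) v9
      ix2 := by rw [← K.psi_sq C]; exact K.psi_conj_of C (K.conj_i C) v10
      iy1 := ?iy1
      iy2 := ?iy2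
      w2 := by rw [← K.p_mh lW lW, g8, K.p_zero]
      wa1 := by rw [ew, e1, e2]; exact K.psi_conj_of C (K.conj_w P) v11
      wx1 := by rw [ew]; exact K.psi_conj_of C (K.conj_w P) v12
      wx2 := by rw [ew, ← K.psi_sq C]; exact K.psi_conj_of C (K.conj_w P) v13
      wi := ?wi
      wY := ?wY
      s2 := by rw [← K.p_mh lS lS, ← K.p_mh lI lI, g1]
      sa1 := cS' lA1 lA1 g2
      sx1 := (K.s_x1 C).1
      sx2 := (K.s_x2 C).1
      sy1 := (K.s_x1 C).2
      sy2 := (K.s_x2 C).2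
      si := ?si
      sa2 := ?sa2
      sa2' := ?sa2'
      ws := ?ws }
  case o5 =>
    have := K.word_eq C _ [] y_ok.1.2.2.1
    rw [K.wv_append, K.wv_append] at this
    rw [pow_succ, pow_two, mul_assoc]; exact this
  case o6 =>
    have := K.word_eq C _ [] y_ok.2.2.2.1
    rw [K.wv_append, K.wv_append] at this
    rw [pow_succ, pow_two, mul_assoc]; exact this
  case i4 =>
    rw [pow_succ, pow_succ, pow_two, mul_assoc (K.p cI * K.p cI), K.i_sq, K.raw.z_sq]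
  case iy1 =>
    have := K.word_eq C _ _ w2
    rw [K.wv_append, K.wv_append, ei, inv2 y_ok.2.2.2.1, K.wv_one] at this
    rw [hi, ← this, mul_assoc (K.p cI)]
    rfl
  case iy2 =>
    have := K.word_eq C _ _ w3
    rw [K.wv_append, K.wv_append, ei, K.wv_one] at this
    rw [hi, ← this, mul_assoc (K.p cI)]
    rfl
  case wi =>
    have := K.word_eq C _ _ w4
    rw [ei] at this
    rw [hi, ← this]
    show K.p cW * K.p cI * K.p cW = K.p cW * (K.p cI * (K.p cW * 1))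
    rw [mul_one, mul_assoc]
  case wY =>
    intro p hp q hq hpq
    have := K.word_eq C _ _ (w5 p hp q hq hpq)
    rw [K.wv_append, K.wv_append, K.wv_one, K.wv_append, K.wv_append, K.wv_append, K.wv_one,
      Ypq, Ypq, K.wv_rep, K.wv_one] at this
    change K.p cW * (_ * K.p cW) = _ * (K.p cI ^ _ * (K.p cW * _)) at this
    simp only [← mul_assoc] at this ⊢
    exact this
  case si =>
    rw [hi, show K.p cI * z = K.p (mh cI cZ) by rw [K.p_mh lI lZ, K.p_z]]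
    exact cS' lI (Hyp.mh_lt lI lZ) g4
  case sa2 =>
    rw [a2i, ← K.p_mh la lS, ← K.p_mh (Hyp.mh_lt la lS) la]
    exact cS' lA2 (Hyp.mh_lt (Hyp.mh_lt la lS) la) g5
  case sa2' =>
    have l1 := Hyp.mh_lt lA2 (Hyp.mh_lt lI lI)
    rw [a2i, ← K.p_mh lI lI, ← K.p_mh lA2 (Hyp.mh_lt lI lI), ← K.p_mh l1 lS,
      ← K.p_mh (Hyp.mh_lt l1 lS) lA2]
    exact cS' la (Hyp.mh_lt (Hyp.mh_lt l1 lS) lA2) g6
  case ws =>
    have l1 := Hyp.mh_lt lW lS
    rw [← K.p_mh lW lS, show (4 : ℕ) = 2 + 2 from rfl, pow_add, pow_two, ← K.p_mh l1 l1,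
      ← K.p_mh (Hyp.mh_lt l1 l1) (Hyp.mh_lt l1 l1), g7, K.p_zero]

end Hyp

end Cfsg.Agent.H66.UFour
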