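import Cfsg.Agent.H66.UFour.Code

/-! `SL(2,3)` by codes. -/

set_option autoImplicit false

namespace Cfsg.Agent.H66.UFour

open Matrix


notation "S2" => Matrix.SpecialLinearGroup (Fin 2) (ZMod 3)

/-- an entry of the matrix with code `a` -/
def sent (a k : ℕ) : ℕ := Nat.mod (Nat.shiftRight etab (Nat.add (Nat.mul 8 a) (Nat.mul 2 k))) 4

/-- the matrix with code `a` -/
def slM (a : ℕ) : Matrix (Fin 2) (Fin 2) (ZMod 3) :=
  !![(sent a 0 : ℕ), (sent a 1 : ℕ); (sent a 2 : ℕ), (sent a 3 : ℕ)]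

theorem slM_det : ∀ a < 24, (slM a).det = 1 := by decide +kernel

theorem slM_mul : ∀ a < 24, ∀ b < 24, slM (sm a b) = slM a * slM b := by decide +kernel

theorem slM_sg : ∀ a < 24, slM (sg a) = !![1, 0; 0, -1] * slM a * !![1, 0; 0, -1] := by
  decide +kernel

theorem slM_sn : ∀ a < 24, slM (sn a) = -slM a := by decide +kernel

theorem slM_inj : ∀ a < 24, ∀ b < 24, slM a = slM b → a = b := by decide +kernel

theorem slM_surj : ∀ a b c d : ZMod 3, a * d - b * c = 1 → ∃ n : Fin 24, slM n = !![a, b; c, d] := by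
  decide +kernel

theorem slM_zero : slM 0 = 1 := by decide +kernel

/-- the element with code `a` -/
def sl (a : ℕ) : S2 := ⟨slM (a % 24), slM_det _ (Nat.mod_lt a (by norm_num))⟩

theorem sl_val {a : ℕ} (ha : a < 24) :
    (sl a : Matrix (Fin 2) (Fin 2) (ZMod 3)) = slM a :=
  congrArg slM (Nat.mod_eq_of_lt ha)

theorem sl_ext {g h : S2} (e : (g : Matrix (Fin 2) (Fin 2) (ZMod 3)) = h) : g = h := Subtype.ext e

theorem sl_mul {a b : ℕ} (ha : a < 24) (hb : b < 24) : sl (sm a b) = sl a * sl b :=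
  sl_ext (((sl_val (sm_lt a ha b hb)).trans (slM_mul a ha b hb)).trans
    (congrArg₂ (· * ·) (sl_val ha).symm (sl_val hb).symm))

theorem sl_zero : sl 0 = 1 := sl_ext ((sl_val (by norm_num)).trans slM_zero)

theorem sl_inj {a b : ℕ} (ha : a < 24) (hb : b < 24) (h : sl a = sl b) : a = b :=
  slM_inj a ha b hb (by rw [← sl_val ha, ← sl_val hb, h])

theorem sl_inv {a : ℕ} (ha : a < 24) : sl (si a) = (sl a)⁻¹ := by
  obtain ⟨h1, h2, -⟩ := si_spec a ha
  refine eq_inv_of_mul_eq_one_left ?_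
  rw [← sl_mul h1 ha, h2, sl_zero]

theorem sl_surj (g : S2) : ∃ a < 24, sl a = g := by
  have h := g.2
  rw [Matrix.det_fin_two] at h
  obtain ⟨n, hn⟩ := slM_surj _ _ _ _ h
  refine ⟨n, n.2, sl_ext ?_⟩
  rw [sl_val n.2, hn]
  exact (Matrix.eta_fin_two g.1).symm

theorem sl_twelve : sl 12 = -1 :=
  sl_ext ((sl_val (by norm_num)).trans
    ((show slM 12 = -slM 0 from slM_sn 0 (by norm_num)).trans (congrArg Neg.neg slM_zero)))

theorem sl_sn {a : ℕ} (ha : a < 24) : sl (sn a) = sl 12 * sl a :=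
  sl_ext (((sl_val (sn_lt a ha)).trans (slM_sn a ha)).trans ((neg_one_mul (slM a)).symm.trans
    (congrArg₂ (· * ·) ((sl_val (show (12 : ℕ) < 24 by norm_num)).trans
      ((show slM 12 = -slM 0 from slM_sn 0 (by norm_num)).trans
        (congrArg Neg.neg slM_zero))).symm (sl_val ha).symm)))

/-- conjugation by `diag(1,-1)` as an automorphism -/
def slG : S2 →* S2 where
  toFun g := ⟨!![1, 0; 0, -1] * (g : Matrix (Fin 2) (Fin 2) (ZMod 3)) * !![1, 0; 0, -1], by
    rw [Matrix.det_mul, Matrix.det_mul, g.2, Matrix.det_fin_two]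
    simp⟩
  map_one' := by
    refine sl_ext ?_
    show !![1, 0; 0, -1] * (1 : Matrix (Fin 2) (Fin 2) (ZMod 3)) * !![1, 0; 0, -1] = 1
    decide
  map_mul' g h := by
    refine sl_ext ?_
    have e : (!![1, 0; 0, -1] : Matrix (Fin 2) (Fin 2) (ZMod 3)) * !![1, 0; 0, -1] = 1 := by decide
    show !![1, 0; 0, -1] * ((g : Matrix (Fin 2) (Fin 2) (ZMod 3)) * (h : Matrix (Fin 2) (Fin 2) (ZMod 3))) * !![1, 0; 0, -1] =
      (!![1, 0; 0, -1] * (g : Matrix (Fin 2) (Fin 2) (ZMod 3)) * !![1, 0; 0, -1]) * (!![1, 0; 0, -1] * (h : Matrix (Fin 2) (Fin 2) (ZMod 3)) * !![1, 0; 0, -1])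
    simp only [mul_assoc]
    rw [← mul_assoc (!![1, 0; 0, -1] : Matrix (Fin 2) (Fin 2) (ZMod 3)) !![1, 0; 0, -1], e, one_mul]

theorem sl_sg {a : ℕ} (ha : a < 24) : sl (sg a) = slG (sl a) := by
  refine sl_ext ?_
  show _ = !![1, 0; 0, -1] * (sl a : Matrix (Fin 2) (Fin 2) (ZMod 3)) * !![1, 0; 0, -1]
  rw [sl_val ha, sl_val (sg_lt a ha), slM_sg a ha]

theorem gen_list : ∀ a < 24, ∃ l ∈ ([[], [0], [0, 0], [1], [1, 1], [0, 1, 1, 0], [0, 1, 1],
    [1, 0, 1, 1], [1, 0], [1, 1, 0], [1, 0, 0], [1, 1, 0, 0], [0, 1, 0, 1], [0, 0, 1, 0, 1],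
    [1, 0, 1], [0, 1, 0, 1, 1], [0, 1, 0], [1, 0, 0, 1], [0, 0, 1, 0], [0, 0, 1], [0, 0, 1, 1],
    [0, 1, 0, 0], [1, 1, 0, 1], [0, 1]] : List (List (Fin 2))),
    l.foldl (fun c k => sm c (if k = 0 then 1 else 3)) 0 = a := by
  decide +kernel

/-- the two transvections generate -/
theorem sl_closure : Subgroup.closure {sl 1, sl 3} = (⊤ : Subgroup S2) := by
  rw [eq_top_iff]
  intro g _
  obtain ⟨a, ha, rfl⟩ := sl_surj g
  obtain ⟨l, -, hl⟩ := gen_list a ha
  have key : ∀ (l : List (Fin 2)) c, c < 24 → sl c ∈ Subgroup.closure {sl 1, sl 3} →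
      sl (l.foldl (fun c k => sm c (if k = 0 then 1 else 3)) c) ∈
        Subgroup.closure {sl 1, sl 3} := by
    intro l
    induction l with
    | nil => intro c _ h; exact h
    | cons k l ih =>
      intro c hc h
      have hd : (if k = 0 then 1 else 3) < 24 := by split <;> norm_num
      refine ih _ (sm_lt c hc _ hd) ?_
      rw [sl_mul hc hd]
      refine mul_mem h (Subgroup.subset_closure ?_)
      split <;> simp
  rw [← hl]
  exact key l 0 (by norm_num) (by rw [sl_zero]; exact one_mem _)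

end Cfsg.Agent.H66.UFour
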