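import Cfsg.Agent.H66.UFour.JGroup
import Cfsg.Agent.H39.StronglyEmbedded

/-!
`T = A` is impossible: `A` would be a Sylow subgroup and `a` would be fused to `a'`.
-/

set_option autoImplicit false
set_option synthInstance.maxSize 4000
set_option synthInstance.maxHeartbeats 400000
set_option maxRecDepth 10000

namespace Cfsg.Agent.H66.UFour

theorem inA_kinds : ∀ x ∈ listA, x = 0 ∨ x = cA ∨ x = mh cA cA ∨ x = cA' ∨ x = mh cA' cA' ∨
    x = cA1 ∨ x = mh cA1 cA1 ∨ x = cA2 ∨ x = mh cA2 cA2 := by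
  decide +kernel

namespace Hyp

variable {G : Type*} [Group G] [Finite G] {z : G} (K : Hyp z)

omit [Finite G] in
theorem inA_p {n : ℕ} (h : n ∈ listA) : K.InA (K.p n) := ⟨n, h, rfl⟩

theorem inA_one : K.InA (1 : G) := ⟨0, by decide +kernel, K.p_zero⟩

theorem inA_mul {x y : G} (hx : K.InA x) (hy : K.InA y) : K.InA (x * y) := by
  obtain ⟨m, hm, rfl⟩ := hx
  obtain ⟨n, hn, rfl⟩ := hy
  exact ⟨mh m n, listA_ok.2.1 m hm n hn, K.p_mh (listA_ok.1 m hm).1 (listA_ok.1 n hn).1⟩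

theorem inA_inv {x : G} (hx : K.InA x) : K.InA x⁻¹ := by
  have h3 := K.inA_cube hx
  rw [inv_eq_of_mul_eq_one_right (show x * (x * x) = 1 by rw [← mul_assoc]; exact h3)]
  exact K.inA_mul hx hx

/-- `A` as a subgroup -/
def Agrp : Subgroup G where
  carrier := {x | K.InA x}
  one_mem' := K.inA_one
  mul_mem' := K.inA_mul
  inv_mem' := K.inA_inv

theorem card_Agrp : Nat.card K.Agrp = 9 := by
  classical
  have hn : listA.Nodup := by decide +kernel
  let f : listA.toFinset → K.Agrp := fun n => ⟨K.p n.1, n.1, List.mem_toFinset.1 n.2, rfl⟩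
  have hb : Function.Bijective f := by
    constructor
    · intro m n h
      exact Subtype.ext (K.p_inj (listA_ok.1 _ (List.mem_toFinset.1 m.2)).1
        (listA_ok.1 _ (List.mem_toFinset.1 n.2)).1 (Subtype.ext_iff.1 h))
    · rintro ⟨x, n, hn, rfl⟩
      exact ⟨⟨n, List.mem_toFinset.2 hn⟩, rfl⟩
  rw [← Nat.card_congr (Equiv.ofBijective f hb), Nat.card_eq_fintype_card, Fintype.card_coe,
    List.toFinset_card_of_nodup hn]
  rfl

/-- a centraliser of `a₁` or `a₂` has no four-group -/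
theorem no_four_a {c : ℕ} (hc : c = cA1 ∨ c = cA2) {s t : G} (hs : s * K.p c = K.p c * s)
    (ht : t * K.p c = K.p c * t) (hss : s * s = 1) (htt : t * t = 1) (hs1 : s ≠ 1) (ht1 : t ≠ 1)
    (hst : s * t = t * s) : s = t := by
  have mem : ∀ {x : G}, x ∈ Subgroup.centralizer ({K.p c} : Set G) ↔ x * K.p c = K.p c * x :=
    Subgroup.mem_centralizer_singleton_iff
  refine no_four (Y := Subgroup.centralizer ({K.p c} : Set G)) (mem.2 (K.p_comm_z c).symm)
    K.raw.z_sq K.raw.z_ne (fun x hx hxz hxx => ?_) (mem.2 hs) (mem.2 ht) hss htt hs1 ht1 hst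
  obtain ⟨n, hn, rfl⟩ := K.surj hxz
  have hc' : c < 1152 := by rcases hc with rfl | rfl <;> decide +kernel
  have h1 := (K.comm_iff hn hc').1 (mem.1 hx)
  have h2 : mh n n = 0 := K.p_inj (Hyp.mh_lt hn hn) (by norm_num) (by
    rw [K.p_mh hn hn, hxx, K.p_zero])
  have := a_facts n hn
  rcases hc with rfl | rfl
  · rcases this.1 h1 h2 with h | h <;> subst h
    · exact Or.inl K.p_zero
    · exact Or.inr K.p_z
  · rcases this.2.1 h1 h2 with h | h <;> subst h
    · exact Or.inl K.p_zero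
    · exact Or.inr K.p_z

variable {T : Subgroup G} (hT : K.IsT T) {b : G}
  (hb : IsFus z (K.p cA) (K.p cW) (K.p cU) (K.p 1100) b)
include hT hb

theorem not_small (hA : ∀ x ∈ T, K.InA x) : False := by
  classical
  have l1 : cA1 < 1152 ∧ cA2 < 1152 ∧ cA < 1152 ∧ cA' < 1152 ∧ cW < 1152 ∧ cU < 1152 ∧
      480 < 1152 ∧ 1100 < 1152 ∧ 49 < 1152 := by decide +kernel
  obtain ⟨lA1, lA2, lA, lA', lW, lU, lt, lU2, l49⟩ := l1
  haveI : Fact (Nat.Prime 3) := ⟨Nat.prime_three⟩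
  -- the normaliser of `A` lies in `C(z)`
  have normA : ∀ n : G, (∀ x, K.InA x → K.InA (n * x * n⁻¹)) → n * z = z * n := by
    intro n hn
    have invA : ∀ x, K.InA x → ∃ y, K.InA y ∧ n * y * n⁻¹ = x := by
      let f : K.Agrp → K.Agrp := fun x => ⟨n * x.1 * n⁻¹, hn _ x.2⟩
      have hf : Function.Surjective f := Finite.surjective_of_injective fun x y h =>
        Subtype.ext (mul_left_cancel (mul_right_cancel (Subtype.ext_iff.1 h)))
      intro x hx
      obtain ⟨y, hy⟩ := hf ⟨x, hx⟩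
      exact ⟨y.1, y.2, Subtype.ext_iff.1 hy⟩
    have hcom : ∀ {c : ℕ}, c ∈ listA → n * z * n⁻¹ * K.p c = K.p c * (n * z * n⁻¹) := by
      intro c hc
      obtain ⟨y, hy, e⟩ := invA _ ⟨c, hc, rfl⟩
      obtain ⟨q, -, rfl⟩ := hy
      rw [← e, show n * z * n⁻¹ * (n * K.p q * n⁻¹) = n * (z * K.p q) * n⁻¹ by group,
        ← K.p_comm_z]
      group
    have hmem : n * z * n⁻¹ ∈ K.CA := K.mem_CA.2
      ⟨hcom pk_facts.2.2.2.2.2.2.2.1, hcom pk_facts.2.2.2.2.2.2.2.2⟩
    have hsq : n * z * n⁻¹ * (n * z * n⁻¹) = 1 := by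
      calc n * z * n⁻¹ * (n * z * n⁻¹) = n * (z * z) * n⁻¹ := by group
        _ = 1 := by rw [K.raw.z_sq]; group
    have hzc : n * z * n⁻¹ * z = z * (n * z * n⁻¹) := by
      rcases hT.cover _ hmem with h | h
      · obtain ⟨q, -, e⟩ := hA _ h
        rw [← e]; exact K.p_comm_z q
      · obtain ⟨q, -, e⟩ := hA _ h
        have e' : n * z * n⁻¹ = K.p q * z := by rw [e, mul_assoc _ z z, K.raw.z_sq, mul_one]
        rw [e', ← mul_assoc, ← K.p_comm_z q]
    rcases K.CA_invol hmem hzc hsq with h | h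
    · exfalso
      exact K.raw.z_ne (by
        calc z = n⁻¹ * (n * z * n⁻¹) * n := by group
          _ = 1 := by rw [h]; group)
    · exact mul_inv_eq_iff_eq_mul.1 h
  -- normalisers in the model
  have codeN : ∀ n : G, (∀ x, K.InA x → K.InA (n * x * n⁻¹)) →
      ∃ m < 1152, K.p m = n ∧ (∃ y ∈ listA, mh m cA1 = mh y m) ∧
        ∃ y ∈ listA, mh m cA2 = mh y m := by
    intro n hn
    obtain ⟨m, hm, rfl⟩ := K.surj (normA n hn)
    refine ⟨m, hm, rfl, ?_, ?_⟩
    · obtain ⟨y, hy, e⟩ := hn _ (K.inA_p pk_facts.2.2.2.2.2.2.2.1)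
      have hy1 := (listA_ok.1 y hy).1
      refine ⟨y, hy, K.p_inj (Hyp.mh_lt hm lA1) (Hyp.mh_lt hy1 hm) ?_⟩
      rw [K.p_mh hm lA1, K.p_mh hy1 hm, e, inv_mul_cancel_right]
    · obtain ⟨y, hy, e⟩ := hn _ (K.inA_p pk_facts.2.2.2.2.2.2.2.2)
      have hy1 := (listA_ok.1 y hy).1
      refine ⟨y, hy, K.p_inj (Hyp.mh_lt hm lA2) (Hyp.mh_lt hy1 hm) ?_⟩
      rw [K.p_mh hm lA2, K.p_mh hy1 hm, e, inv_mul_cancel_right]
  -- `A` is a Sylow subgroup
  have hAp : IsPGroup 3 K.Agrp := IsPGroup.of_card (n := 2) (by rw [K.card_Agrp]; norm_num)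
  obtain ⟨P, hP⟩ := hAp.exists_le_sylow
  have hPA : (P : Subgroup G) = K.Agrp := by
    refine le_antisymm ?_ hP
    by_contra hne
    have hlt : K.Agrp < (P : Subgroup G) := lt_of_le_of_ne hP (fun e => hne e.ge)
    obtain ⟨x, hxP, hxA, hxN⟩ := H39.exists_mem_normalizer_not_mem P.2 hlt
    have hx' : ∀ y, K.InA y → K.InA (x * y * x⁻¹) := fun y hy =>
      (Subgroup.mem_normalizer_iff.1 hxN y).1 hy
    obtain ⟨m, hm, rfl, e1, e2⟩ := codeN x hx'
    obtain ⟨k, hk⟩ := P.2 ⟨K.p m, hxP⟩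
    have hk' : K.p m ^ 3 ^ k = 1 := congrArg (fun s : (P : Subgroup G) => (s : G)) hk
    have hH : K.p m ^ 1152 = 1 := by
      have hmem : K.p m ∈ Subgroup.centralizer ({z} : Set G) :=
        Subgroup.mem_centralizer_singleton_iff.2 (K.p_comm_z m)
      have := pow_card_eq_one' (x := (⟨K.p m, hmem⟩ : Subgroup.centralizer ({z} : Set G)))
      rw [K.raw.card] at this
      exact congrArg Subtype.val this
    have h9 : K.p m ^ 9 = 1 := by
      rw [← orderOf_dvd_iff_pow_eq_one] at hk' hH ⊢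
      obtain ⟨j, -, hjeq⟩ := (Nat.dvd_prime_pow Nat.prime_three).1 hk'
      rw [hjeq] at hH ⊢
      have : j ≤ 2 := by
        by_contra hj
        exact absurd ((pow_dvd_pow 3 (show 3 ≤ j by omega)).trans hH) (by norm_num)
      exact pow_dvd_pow 3 this
    apply hxA
    refine ⟨m, ((norm_facts m hm e1 e2).2.1 ?_), rfl⟩
    have c2 := Hyp.mh_lt hm hm
    have c3 := Hyp.mh_lt hm c2
    have c6 := Hyp.mh_lt c3 c3
    refine K.p_inj (Hyp.mh_lt c6 c3) (by norm_num) ?_
    rw [K.p_zero]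
    show K.p (mh (mh (mh m (mh m m)) (mh m (mh m m))) (mh m (mh m m))) = 1
    rw [K.p_mh c6 c3, K.p_mh c3 c3, K.p_mh hm c2, K.p_mh hm hm, ← h9]
    simp only [pow_succ, pow_zero, one_mul, mul_assoc]
  -- the group `⟨a, b⟩` is conjugate into `A`
  set a := K.p cA with ha
  have haA : K.InA a := K.inA_p pk_facts.2.2.2.2.2.1
  have ha3 := K.inA_cube haA
  have hba : Commute b a := hb.comm_a
  let Q : Subgroup G := Subgroup.closure {a, b}
  haveI : IsMulCommutative Q := Subgroup.isMulCommutative_closure (by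
    rintro x (rfl | rfl) y (rfl | rfl) <;> first | rfl | exact hba.eq | exact hba.eq.symm)
  have hQ3 : IsPGroup 3 Q := by
    intro x
    refine ⟨1, Subtype.ext ?_⟩
    show (x : G) ^ 3 ^ 1 = 1
    refine Subgroup.closure_induction (p := fun y _ => y ^ 3 ^ 1 = 1) ?_ (one_pow _) ?_ ?_ x.2
    · rintro y (rfl | rfl)
      · rw [pow_one, pow_succ, pow_two]; exact ha3
      · rw [pow_one, pow_succ, pow_two]; exact hb.cube
    · intro y y' hy hy' e e'
      have hc : (⟨y, hy⟩ : Q) * ⟨y', hy'⟩ = ⟨y', hy'⟩ * ⟨y, hy⟩ :=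
        Std.Commutative.comm (op := fun s t : Q => s * t) _ _
      rw [Commute.mul_pow (congrArg Subtype.val hc), e, e', one_mul]
    · intro y _ e
      rw [inv_pow, e, inv_one]
  obtain ⟨S, hS⟩ := hQ3.exists_le_sylow
  obtain ⟨g, hg⟩ := MulAction.exists_smul_eq G S P
  have intoA : ∀ {x : G}, x ∈ Q → K.InA (g * x * g⁻¹) := by
    intro x hx
    have : g * x * g⁻¹ ∈ (P : Subgroup G) := by
      rw [← hg]; exact ⟨x, hS hx, rfl⟩
    rw [hPA] at this
    exact this
  set sb := g * b * g⁻¹ with hsb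
  set sa := g * a * g⁻¹ with hsa
  have hsaA : K.InA sa := intoA (Subgroup.subset_closure (by simp))
  have hsbA : K.InA sb := intoA (Subgroup.subset_closure (by simp))
  have hW2 : K.p cW * K.p cW = 1 := K.w_sq sideA hb
  have hU2 : K.p cU * K.p cU = 1 := by
    rw [← K.p_mh lU lU, show mh cU cU = 0 by decide +kernel, K.p_zero]
  have hU22 : K.p 1100 * K.p 1100 = 1 := by
    rw [← K.p_mh lU2 lU2, show mh 1100 1100 = 0 by decide +kernel, K.p_zero]
  have pne : ∀ {m n : ℕ}, m < 1152 → n < 1152 → m ≠ n → K.p m ≠ K.p n :=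
    fun hm hn h e => h (K.p_inj hm hn e)
  -- a line of type `a₁` cannot be the image
  have notA1 : ∀ {x : G} {s t : G}, s * x = x * s → t * x = x * t → s * s = 1 → t * t = 1 →
      s ≠ 1 → t ≠ 1 → s * t = t * s → s ≠ t → ∀ {c : ℕ}, (c = cA1 ∨ c = cA2) →
      g * x * g⁻¹ ≠ K.p c ∧ g * x * g⁻¹ ≠ K.p (mh c c) := by
    intro x s t h1 h2 h3 h4 h5 h6 h7 h8 c hc
    have hc' : c < 1152 := by rcases hc with rfl | rfl <;> decide +kernel
    have hc3 : K.p c * K.p c * K.p c = 1 := K.inA_cube (K.inA_p (by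
      rcases hc with rfl | rfl
      exacts [pk_facts.2.2.2.2.2.2.2.1, pk_facts.2.2.2.2.2.2.2.2]))
    have main : (g * s * g⁻¹) * K.p c = K.p c * (g * s * g⁻¹) →
        (g * t * g⁻¹) * K.p c = K.p c * (g * t * g⁻¹) → False := by
      intro f1 f2
      apply h8
      have := K.no_four_a hc f1 f2
        (by rw [show g * s * g⁻¹ * (g * s * g⁻¹) = g * (s * s) * g⁻¹ by group, h3]; group)
        (by rw [show g * t * g⁻¹ * (g * t * g⁻¹) = g * (t * t) * g⁻¹ by group, h4]; group)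
        (fun e => h5 (by rw [show s = g⁻¹ * (g * s * g⁻¹) * g by group, e]; group))
        (fun e => h6 (by rw [show t = g⁻¹ * (g * t * g⁻¹) * g by group, e]; group))
        (by rw [show g * s * g⁻¹ * (g * t * g⁻¹) = g * (s * t) * g⁻¹ by group, h7]; group)
      exact mul_left_cancel (mul_right_cancel this)
    have cs : ∀ {u : G}, u * x = x * u → g * u * g⁻¹ * (g * x * g⁻¹) = g * x * g⁻¹ * (g * u * g⁻¹) := by
      intro u h
      rw [show g * u * g⁻¹ * (g * x * g⁻¹) = g * (u * x) * g⁻¹ by group, h]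
      group
    refine ⟨fun e => ?_, fun e => ?_⟩
    · exact main (e ▸ cs h1) (e ▸ cs h2)
    · rw [K.p_mh hc' hc'] at e
      have inv : ∀ {u : G}, g * u * g⁻¹ * (K.p c * K.p c) = K.p c * K.p c * (g * u * g⁻¹) →
          g * u * g⁻¹ * K.p c = K.p c * (g * u * g⁻¹) := by
        intro u h
        have hh : Commute (g * u * g⁻¹) (K.p c * K.p c) := h
        have h4' := hh.mul_right hh
        rw [show K.p c * K.p c * (K.p c * K.p c) = K.p c * K.p c * K.p c * K.p c by group, hc3,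
          one_mul] at h4'
        exact h4'.eq
      exact main (inv (e ▸ cs h1)) (inv (e ▸ cs h2))
  have lZ : cZ < 1152 := by decide +kernel
  have zne1 := K.raw.z_ne
  have Wne1 : K.p cW ≠ 1 := fun e => pne lW (by norm_num) (by decide) (e.trans K.p_zero.symm)
  have Une1 : K.p cU ≠ 1 := fun e => pne lU (by norm_num) (by decide) (e.trans K.p_zero.symm)
  have U2ne1 : K.p 1100 ≠ 1 := fun e => pne lU2 (by norm_num) (by decide) (e.trans K.p_zero.symm)
  have na : ∀ {c : ℕ}, (c = cA1 ∨ c = cA2) → sa ≠ K.p c ∧ sa ≠ K.p (mh c c) :=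
    fun hc => notA1 (K.p_comm_z _).symm ((K.comm_iff lW lA).2 sideA.wa) K.raw.z_sq hW2 zne1 Wne1
      (K.p_comm_z _).symm (fun e => pne lZ lW (by decide) (K.p_z.trans e)) hc
  have nb : ∀ {c : ℕ}, (c = cA1 ∨ c = cA2) → sb ≠ K.p c ∧ sb ≠ K.p (mh c c) :=
    fun hc => notA1 hb.comm_d1.symm hb.comm_d2.symm hU2 hU22 Une1 U2ne1
      ((K.comm_iff lU lU2).2 (by decide +kernel)) (pne lU lU2 (by decide)) hc
  have kinds : ∀ {s : G}, K.InA s → s ≠ 1 →
      (∀ {c : ℕ}, (c = cA1 ∨ c = cA2) → s ≠ K.p c ∧ s ≠ K.p (mh c c)) →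
      s = K.p cA ∨ s = (K.p cA) ^ 2 ∨ s = K.p cA' ∨ s = (K.p cA') ^ 2 := by
    intro s hs hs1 hn
    obtain ⟨m, hm, rfl⟩ := hs
    rcases inA_kinds m hm with rfl | rfl | rfl | rfl | rfl | rfl | rfl | rfl | rfl
    · exact absurd K.p_zero hs1
    · exact Or.inl rfl
    · exact Or.inr (Or.inl (by rw [K.p_mh lA lA, pow_two]))
    · exact Or.inr (Or.inr (Or.inl rfl))
    · exact Or.inr (Or.inr (Or.inr (by rw [K.p_mh lA' lA', pow_two])))
    · exact absurd rfl (hn (Or.inl rfl)).1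
    · exact absurd rfl (hn (Or.inl rfl)).2
    · exact absurd rfl (hn (Or.inr rfl)).1
    · exact absurd rfl (hn (Or.inr rfl)).2
  have hb1 : b ≠ 1 := fun e => by
    have := hb.conj_z
    rw [e] at this
    simp only [one_mul, inv_one, mul_one] at this
    exact pne lZ lW (by decide) (K.p_z.trans this)
  have hbnA : ¬K.InA b := by
    rintro ⟨q, -, e⟩
    have := hb.conj_z
    rw [← e, K.p_comm_z, mul_inv_cancel_right] at this
    exact pne lZ lW (by decide) (K.p_z.trans this)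
  have ane1 : a ≠ 1 := fun e => pne lA (by norm_num) (by decide) (e.trans K.p_zero.symm)
  have sane1 : sa ≠ 1 := fun e => ane1 (by
    rw [show a = g⁻¹ * sa * g by rw [hsa]; group, e]; group)
  have sbne1 : sb ≠ 1 := fun e => hb1 (by
    rw [show b = g⁻¹ * sb * g by rw [hsb]; group, e]; group)
  -- `a` is fused to `b` by a word normalising `E`
  obtain ⟨n, hn⟩ : ∃ n, n * a * n⁻¹ = b := by
    have lE : ∀ k < 16, eCode k < 1152 := fun k hk => (e_ok k hk).1
    have cz' : cZ < 1152 := lZ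
    have at_ : ∀ k < 16, K.p 480 * K.p (eCode k) * (K.p 480)⁻¹ = K.p (eCode (actT k)) := by
      intro k hk
      obtain ⟨h1, -, -, h2, -, -, h3, -⟩ := e_ok k hk
      rw [← K.p_mh lt h1, h3, K.p_mh (lE _ h2) lt, mul_inv_cancel_right]
    have aa : ∀ k < 16, a * K.p (eCode k) * a⁻¹ = K.p (eCode (actA k)) := by
      intro k hk
      obtain ⟨h1, -, -, -, h2, -, -, h3, -⟩ := e_ok k hk
      rw [ha, ← K.p_mh lA h1, h3, K.p_mh (lE _ h2) lA, mul_inv_cancel_right]
    have ab : ∀ k < 16, b * K.p (eCode k) * b⁻¹ = K.p (eCode (actB k)) := by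
      intro k hk
      obtain ⟨-, -, -, -, -, -, -, -, h3, h4⟩ := e_ok k hk
      have bz := hb.conj_z
      have bw : b * K.p cW * b⁻¹ = K.p 49 := by
        rw [hb.conj_w, show (49 : ℕ) = mh cZ cW by decide +kernel, K.p_mh lZ lW, K.p_z]
      have bu : b * K.p cU * b⁻¹ = K.p cU := by rw [hb.comm_d1, mul_inv_cancel_right]
      have bu2 : b * K.p 1100 * b⁻¹ = K.p 1100 := by rw [hb.comm_d2, mul_inv_cancel_right]
      have cl : ∀ {p : Bool} {x : ℕ}, x < 1152 → cond p 0 x < 1152 := fun {p} _ hx => by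
        cases p <;> simp [hx]
      have sel : ∀ (p : Bool) (x y : ℕ), b * K.p x * b⁻¹ = K.p y →
          b * K.p (cond p 0 x) * b⁻¹ = K.p (cond p 0 y) := by
        intro p x y h
        cases p
        · exact h
        · show b * K.p 0 * b⁻¹ = K.p 0
          rw [K.p_zero]; group
      rw [h4, h3, K.p_mh (Hyp.mh_lt (cl cz') (cl lW)) (Hyp.mh_lt (cl lU) (cl lU2)),
        K.p_mh (cl cz') (cl lW), K.p_mh (cl lU) (cl lU2),
        K.p_mh (Hyp.mh_lt (cl lW) (cl l49)) (Hyp.mh_lt (cl lU) (cl lU2)),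
        K.p_mh (cl lW) (cl l49), K.p_mh (cl lU) (cl lU2)]
      have bz' : b * K.p cZ * b⁻¹ = K.p cW := by rw [K.p_z]; exact bz
      conv_rhs => rw [← sel _ cZ cW bz', ← sel _ cW 49 bw, ← sel _ cU cU bu, ← sel _ 1100 1100 bu2]
      group
    have comp : ∀ {u v : G} {f h : ℕ → ℕ}, (∀ k < 16, h k < 16) →
        (∀ k < 16, u * K.p (eCode k) * u⁻¹ = K.p (eCode (f k))) →
        (∀ k < 16, v * K.p (eCode k) * v⁻¹ = K.p (eCode (h k))) →
        ∀ k < 16, u * v * K.p (eCode k) * (u * v)⁻¹ = K.p (eCode (f (h k))) := by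
      intro u v f h hh hu hv k hk
      calc u * v * K.p (eCode k) * (u * v)⁻¹ = u * (v * K.p (eCode k) * v⁻¹) * u⁻¹ := by group
        _ = _ := by rw [hv k hk, hu _ (hh k hk)]
    have lT : ∀ k < 16, actT k < 16 := fun k hk => (e_ok k hk).2.2.2.1
    have lAc : ∀ k < 16, actA k < 16 := fun k hk => (e_ok k hk).2.2.2.2.1
    have lB : ∀ k < 16, actB k < 16 := fun k hk => (e_ok k hk).2.2.2.2.2.1
    set n := K.p 480 * (b * (a * (K.p 480 * (b * (a * (a * K.p 480))))))
    have an : ∀ k < 16, n * K.p (eCode k) * n⁻¹ = K.p (eCode (actN k)) := by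
      have r1 := comp lT aa at_
      have r2 := comp (fun k hk => lAc _ (lT k hk)) aa r1
      have r3 := comp (fun k hk => lAc _ (lAc _ (lT k hk))) ab r2
      have r4 := comp (fun k hk => lB _ (lAc _ (lAc _ (lT k hk)))) at_ r3
      have r5 := comp (fun k hk => lT _ (lB _ (lAc _ (lAc _ (lT k hk))))) aa r4
      have r6 := comp (fun k hk => lAc _ (lT _ (lB _ (lAc _ (lAc _ (lT k hk)))))) ab r5
      have r7 := comp (fun k hk => lB _ (lAc _ (lT _ (lB _ (lAc _ (lAc _ (lT k hk))))))) at_ r6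
      exact r7
    have lN : ∀ k < 16, actN k < 16 := fun k hk =>
      lT _ (lB _ (lAc _ (lT _ (lB _ (lAc _ (lAc _ (lT k hk)))))))
    have surjN : ∀ k < 16, ∃ j < 16, k = actN j := by decide +kernel
    -- `b⁻¹ (n a n⁻¹)` centralises `E`
    set x := b⁻¹ * (n * a * n⁻¹) with hx
    have fix : ∀ k < 16, x * K.p (eCode k) * x⁻¹ = K.p (eCode k) := by
      intro k hk
      obtain ⟨j, hj, rfl⟩ := surjN k hk
      calc x * K.p (eCode (actN j)) * x⁻¹ =
          b⁻¹ * (n * (a * (n⁻¹ * K.p (eCode (actN j)) * n) * a⁻¹) * n⁻¹) * b := by rw [hx]; group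
        _ = b⁻¹ * (n * (a * K.p (eCode j) * a⁻¹) * n⁻¹) * b := by rw [← an j hj]; group
        _ = b⁻¹ * K.p (eCode (actN (actA j))) * b := by rw [aa j hj, an _ (lAc j hj)]
        _ = _ := by rw [word_ok j hj, ← ab _ (lN j hj)]; group
    have fz : x * z = z * x := by
      have h := fix 1 (by norm_num)
      rw [show eCode 1 = cZ by decide +kernel, K.p_z] at h
      exact mul_inv_eq_iff_eq_mul.1 h
    obtain ⟨m, hm, em⟩ := K.surj fz
    have fc : ∀ k < 16, ∀ c, eCode k = c → mh m c = mh c m := by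
      intro k hk c hc
      have h := mul_inv_eq_iff_eq_mul.1 (fix k hk)
      rw [hc, ← em] at h
      exact (K.comm_iff hm (hc ▸ lE k hk)).1 h
    obtain ⟨k, hk, rfl⟩ := e_cover m hm (fc 2 (by norm_num) cW (by decide +kernel))
      (fc 4 (by norm_num) cU (by decide +kernel)) (fc 8 (by norm_num) 1100 (by decide +kernel))
    have hna : n * a * n⁻¹ = b * K.p (eCode k) := by rw [em, hx, mul_inv_cancel_left]
    have hcube : b * K.p (eCode k) * (b * K.p (eCode k)) * (b * K.p (eCode k)) = 1 := by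
      rw [← hna]
      calc n * a * n⁻¹ * (n * a * n⁻¹) * (n * a * n⁻¹) = n * (a * a * a) * n⁻¹ := by group
        _ = 1 := by rw [ha3]; group
    have hb2 := ab _ (lB k hk)
    have hrel : mh (mh (eCode (actB k)) (eCode (actB (actB k)))) (eCode k) = 0 := by
      have l1 := lE _ (lB k hk)
      have l2 := lE _ (lB _ (lB k hk))
      refine K.p_inj (Hyp.mh_lt (Hyp.mh_lt l1 l2) (lE k hk)) (by norm_num) ?_
      rw [K.p_mh (Hyp.mh_lt l1 l2) (lE k hk), K.p_mh l1 l2, ← hb2, ← ab k hk, K.p_zero]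
      calc b * K.p (eCode k) * b⁻¹ * (b * (b * K.p (eCode k) * b⁻¹) * b⁻¹) * K.p (eCode k) =
          b * K.p (eCode k) * (b * K.p (eCode k) * b⁻¹ * b⁻¹) * K.p (eCode k) := by group
        _ = b * K.p (eCode k) * (b * K.p (eCode k)) * (b⁻¹ * b⁻¹) * K.p (eCode k) := by group
        _ = b * K.p (eCode k) * (b * K.p (eCode k)) * b * K.p (eCode k) := by
          rw [show b⁻¹ * b⁻¹ = b from by
            rw [← mul_inv_rev]; exact inv_eq_of_mul_eq_one_right hb.cube]
        _ = _ := by rw [← hcube]; group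
    obtain ⟨j, hj, ej⟩ := split_ok k hk hrel
    set f := K.p (eCode j) with hf
    have hff : f * f = 1 := by
      rw [hf, ← K.p_mh (lE j hj) (lE j hj), (e_ok j hj).2.2.1, K.p_zero]
    have hbb : b⁻¹ * f * b = K.p (eCode (actB (actB j))) := by
      rw [← ab _ (lB j hj), ← ab j hj]
      rw [show b * (b * K.p (eCode j) * b⁻¹) * b⁻¹ = (b * b) * K.p (eCode j) * (b * b)⁻¹ by group,
        show b * b = b⁻¹ from (inv_eq_of_mul_eq_one_right (by rw [← mul_assoc]; exact hb.cube)).symm,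
        inv_inv]
    refine ⟨f⁻¹ * n, ?_⟩
    rw [show f⁻¹ * n * a * (f⁻¹ * n)⁻¹ = f⁻¹ * (n * a * n⁻¹) * f by group, hna, ej,
      K.p_mh (lE _ (lB _ (lB j hj))) (lE j hj), ← hbb, ← hf,
      show f⁻¹ * (b * (b⁻¹ * f * b * f)) * f = b * (f * f) by group, hff, mul_one]
  -- conclusion
  have conjA : ∀ {s t : G}, K.InA s → K.InA t → (∃ q, q * s * q⁻¹ = t) →
      ∃ m, m < 1152 ∧ (∃ y ∈ listA, mh m cA1 = mh y m) ∧ (∃ y ∈ listA, mh m cA2 = mh y m) ∧
        K.p m * s * (K.p m)⁻¹ = t := by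
    intro s t hs ht ⟨q, hq⟩
    have hPmem : ∀ x : G, x ∈ (P : Subgroup G) ↔ K.InA x := fun x => by rw [hPA]; rfl
    haveI : IsMulCommutative (P : Subgroup G) := ⟨⟨fun x y => Subtype.ext
      (K.CA_comm_A (K.inA_mem_CA ((hPmem _).1 x.2)) ((hPmem _).1 y.2))⟩⟩
    obtain ⟨m, hm, e⟩ := P.conj_eq_normalizer_conj_of_mem s q⁻¹ ((hPmem s).2 hs)
      (by rw [inv_inv, hq]; exact (hPmem t).2 ht)
    rw [inv_inv, hq] at e
    have hn' : ∀ y, K.InA y → K.InA (m⁻¹ * y * m) := by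
      intro y hy
      have hm' := Subgroup.mem_normalizer_iff.1 (inv_mem hm) y
      rw [inv_inv] at hm'
      have := hm'.1 (by rw [hPA]; exact hy)
      rw [hPA] at this
      exact this
    obtain ⟨r, hr, er, e1, e2⟩ := codeN m⁻¹ (fun y hy => by rw [inv_inv]; exact hn' y hy)
    exact ⟨r, hr, e1, e2, by rw [er, inv_inv, e]⟩
  have sab : ∃ q, q * sa * q⁻¹ = sb :=
    ⟨g * n * g⁻¹, by rw [hsa, hsb, ← hn]; group⟩
  have contra : ∀ {s t : G}, (s = K.p cA ∨ s = (K.p cA) ^ 2) →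
      (t = K.p cA' ∨ t = (K.p cA') ^ 2) → (∃ q, q * s * q⁻¹ = t) → False := by
    intro s t hs ht hq
    have hsA : K.InA s := by
      rcases hs with rfl | rfl
      · exact haA
      · rw [pow_two]; exact K.inA_mul haA haA
    have htA : K.InA t := by
      have := K.inA_p pk_facts.2.2.2.2.2.2.1
      rcases ht with rfl | rfl
      · exact this
      · rw [pow_two]; exact K.inA_mul this this
    obtain ⟨m, hm, e1, e2, e⟩ := conjA hsA htA hq
    obtain ⟨-, -, f1, f2⟩ := norm_facts m hm e1 e2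
    have sq : ∀ {v : G}, v * v * v = 1 → (v ^ 2) ^ 2 = v := fun h => by
      rw [pow_two, pow_two, show _ * _ * (_ * _) = _ * _ * _ * _ from (mul_assoc _ _ _).symm, h,
        one_mul]
    have conjsq : K.p m * a ^ 2 * (K.p m)⁻¹ = (K.p m * a * (K.p m)⁻¹) ^ 2 := by rw [conj_pow]
    have hcases : K.p m * a * (K.p m)⁻¹ = K.p cA' ∨ K.p m * a * (K.p m)⁻¹ = (K.p cA') ^ 2 := by
      have hc3 : K.p m * a * (K.p m)⁻¹ * (K.p m * a * (K.p m)⁻¹) * (K.p m * a * (K.p m)⁻¹) = 1 := by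
        calc _ = K.p m * (a * a * a) * (K.p m)⁻¹ := by group
          _ = 1 := by rw [ha3]; group
      rcases hs with rfl | rfl
      · rw [e]; exact ht
      · rw [conjsq] at e
        rcases ht with rfl | rfl
        · right; rw [← sq hc3, e]
        · left; rw [← sq hc3, e, sq (K.inA_cube (K.inA_p pk_facts.2.2.2.2.2.2.1))]
    rcases hcases with h | h
    · apply f1
      refine K.p_inj (Hyp.mh_lt hm lA) (Hyp.mh_lt lA' hm) ?_
      rw [K.p_mh hm lA, K.p_mh lA' hm, ← h, inv_mul_cancel_right]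
    · apply f2
      refine K.p_inj (Hyp.mh_lt hm lA) (Hyp.mh_lt (Hyp.mh_lt lA' lA') hm) ?_
      rw [K.p_mh hm lA, K.p_mh (Hyp.mh_lt lA' lA') hm, K.p_mh lA' lA', ← pow_two, ← h,
        inv_mul_cancel_right]
  obtain ⟨q, hq⟩ := sab
  -- two powers of one element would force `b ∈ A`
  have same : ∀ {v : G}, v * v * v = 1 → (sa = v ∨ sa = v ^ 2) → (sb = v ∨ sb = v ^ 2) → False := by
    intro v hv h1 h2
    apply hbnA
    have : sb = sa ∨ sb = sa * sa := by
      rcases h1 with h1 | h1 <;> rcases h2 with h2 | h2 <;> rw [h1, h2]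
      · exact Or.inl rfl
      · exact Or.inr (pow_two v)
      · right
        rw [pow_two, ← mul_assoc, hv, one_mul]
      · exact Or.inl rfl
    rcases this with h | h
    · rw [show b = g⁻¹ * sb * g by rw [hsb]; group, h, hsa,
        show g⁻¹ * (g * a * g⁻¹) * g = a by group]
      exact haA
    · rw [show b = g⁻¹ * sb * g by rw [hsb]; group, h, hsa,
        show g⁻¹ * (g * a * g⁻¹ * (g * a * g⁻¹)) * g = a * a by group]
      exact K.inA_mul haA haA
  rcases kinds hsaA sane1 na with r | r | r | r <;> rcases kinds hsbA sbne1 nb with r' | r' | r' | r'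
  all_goals first
    | exact same ha3 (Or.inl r) (Or.inl r')
    | exact same ha3 (Or.inl r) (Or.inr r')
    | exact same ha3 (Or.inr r) (Or.inl r')
    | exact same ha3 (Or.inr r) (Or.inr r')
    | exact same (K.inA_cube (K.inA_p pk_facts.2.2.2.2.2.2.1)) (Or.inl r) (Or.inl r')
    | exact same (K.inA_cube (K.inA_p pk_facts.2.2.2.2.2.2.1)) (Or.inl r) (Or.inr r')
    | exact same (K.inA_cube (K.inA_p pk_facts.2.2.2.2.2.2.1)) (Or.inr r) (Or.inl r')
    | exact same (K.inA_cube (K.inA_p pk_facts.2.2.2.2.2.2.1)) (Or.inr r) (Or.inr r')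
    | exact contra (Or.inl r) (Or.inl r') ⟨q, hq⟩
    | exact contra (Or.inl r) (Or.inr r') ⟨q, hq⟩
    | exact contra (Or.inr r) (Or.inl r') ⟨q, hq⟩
    | exact contra (Or.inr r) (Or.inr r') ⟨q, hq⟩
    | exact contra (Or.inl r') (Or.inl r) ⟨q⁻¹, by rw [← hq]; group⟩
    | exact contra (Or.inl r') (Or.inr r) ⟨q⁻¹, by rw [← hq]; group⟩
    | exact contra (Or.inr r') (Or.inl r) ⟨q⁻¹, by rw [← hq]; group⟩
    | exact contra (Or.inr r') (Or.inr r) ⟨q⁻¹, by rw [← hq]; group⟩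

end Hyp

end Cfsg.Agent.H66.UFour
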