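import Cfsg.Agent.H66.UFour.Cosets

/-!
An involution interchanging the factors and an element inducing an outer automorphism on both.
-/

set_option autoImplicit false

namespace Cfsg.Agent.H66.UFour

variable {G : Type*} [Group G]

/-- `x` maps `v` to `v'` up to the sign `z` -/
def Sgn (z x v v' : G) : Prop := x * v * x⁻¹ = v' ∨ x * v * x⁻¹ = z * v'

theorem Sgn.div {z x y v v' : G} (hz : z * z = 1) (hxz : x * z = z * x) (hx : Sgn z x v v')
    (hy : Sgn z y v v') : Sgn z (x⁻¹ * y) v v := by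
  have hxz' : x⁻¹ * z * x = z := by rw [mul_assoc, ← hxz, inv_mul_cancel_left]
  have e : ∀ t, x⁻¹ * (z * t) * x = z * (x⁻¹ * t * x) := by
    intro t
    calc x⁻¹ * (z * t) * x = x⁻¹ * z * x * (x⁻¹ * t * x) := by group
      _ = _ := by rw [hxz']
  have key : x⁻¹ * y * v * (x⁻¹ * y)⁻¹ = x⁻¹ * (y * v * y⁻¹) * x := by group
  have hv : x⁻¹ * v' * x = v ∨ x⁻¹ * v' * x = z * v := by
    rcases hx with h | h
    · left; rw [← h]; group
    · right
      have : v' = z * (x * v * x⁻¹) := by rw [h, ← mul_assoc, hz, one_mul]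
      rw [this, e]; congr 1; group
  rcases hy with h | h <;> rcases hv with h' | h'
  · left; rw [key, h, h']
  · right; rw [key, h, h']
  · right; rw [key, h, e, h']
  · left; rw [key, h, e, h', ← mul_assoc, hz, one_mul]

/-- the data of a conjugate of `z` in `Q` -/
structure Ucode (e1 e2 : S2 →* G) (z g : G) (a b c d : ℕ) : Prop where
  ha : a < 24
  hb : b < 24
  hc : c < 24
  hd : d < 24
  sa : sm a a = 12
  sb : sm b b = 12
  qa : isQ a = true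
  qb : isQ b = true
  qc : isQ c = true
  qd : isQ d = true
  na : sm a c ≠ sm c a
  nb : sm b d ≠ sm d b
  eu : g * z * g⁻¹ = pp e1 e2 a b
  com : pp e1 e2 c d * (g * z * g⁻¹) = g * z * g⁻¹ * pp e1 e2 c d

namespace Raw

variable {z : G} {e1 e2 : S2 →* G} (R : Raw z e1 e2)
include R

theorem e1_sn {k : ℕ} (hk : k < 24) : e1 (sl (sn k)) = z * e1 (sl k) := by
  rw [sl_sn hk, sl_twelve, map_mul, R.neg1]

theorem e2_sn {k : ℕ} (hk : k < 24) : e2 (sl (sn k)) = z * e2 (sl k) := by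
  rw [sl_sn hk, sl_twelve, map_mul, R.neg2]

theorem two_cosets [Finite G] : ∃ h k : G, h * z = z * h ∧ k * z = z * k ∧ ¬InK e1 e2 h ∧
    ¬InK e1 e2 k ∧ ¬InK e1 e2 (h⁻¹ * k) := by
  classical
  haveI := R.K_normal
  have h4 : Nat.card (cz z ⧸ R.Kgrp.subgroupOf (cz z)) = 4 := by
    rw [← Subgroup.index_eq_card, R.K_index]
  haveI := Fintype.ofFinite (cz z ⧸ R.Kgrp.subgroupOf (cz z))
  rw [Nat.card_eq_fintype_card] at h4
  obtain ⟨p, hp⟩ := Fintype.exists_ne_of_one_lt_card (by omega)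
    (1 : cz z ⧸ R.Kgrp.subgroupOf (cz z))
  obtain ⟨q, hq, hq'⟩ : ∃ q, q ≠ 1 ∧ q ≠ p := by
    by_contra hcon
    push_neg at hcon
    have : (Finset.univ : Finset (cz z ⧸ R.Kgrp.subgroupOf (cz z))) ⊆ {1, p} := by
      intro q _
      simp only [Finset.mem_insert, Finset.mem_singleton]
      by_cases h : q = 1
      · exact Or.inl h
      · exact Or.inr (hcon q h)
    have := (Finset.card_le_card this).trans Finset.card_le_two
    rw [Finset.card_univ] at this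
    omega
  obtain ⟨⟨h, hh⟩, rfl⟩ := QuotientGroup.mk_surjective p
  obtain ⟨⟨k, hk⟩, rfl⟩ := QuotientGroup.mk_surjective q
  refine ⟨h, k, mem_H.1 hh, mem_H.1 hk, fun e => hp ?_, fun e => hq ?_, fun e => hq' ?_⟩
  · exact (QuotientGroup.eq_one_iff _).2 e
  · exact (QuotientGroup.eq_one_iff _).2 e
  · exact (QuotientGroup.eq.2 e).symm

theorem exists_ucode [Finite G] {g : G} (hg : Good e1 e2 z g) :
    ∃ a b c d, Ucode e1 e2 z g a b c d := by
  obtain ⟨a, ha, b, hb, sa, sb, qa, qb, hu⟩ :=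
    R.invol_codes hg.1 (R.u_sq g) (R.u_ne_one g) hg.2
  obtain ⟨c, hc, qc, -, ea, na⟩ := anticomm a ha sa
  obtain ⟨d, hd, qd, -, eb, nb⟩ := anticomm b hb sb
  refine ⟨a, b, c, d, ha, hb, hc, hd, sa, sb, qa, qb, qc, qd, na, nb, hu, ?_⟩
  rw [hu, R.pp_com_iff hc hd ha hb, pcom, peq_spec, ea, eb]
  have : ∀ k < 24, sn (sn k) = k := by decide +kernel
  right
  exact ⟨(this _ (sm_lt c hc a ha)).symm, (this _ (sm_lt d hd b hb)).symm⟩

variable {g : G} {a b c d : ℕ}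

theorem fix_a (U : Ucode e1 e2 z g a b c d) {x : G} (hx : InB e1 e2 z g x) (hf : Fix e1 e2 x) :
    Sgn z x (e1 (sl a)) (e1 (sl a)) ∧ Sgn z x (e2 (sl b)) (e2 (sl b)) := by
  obtain ⟨A, hA⟩ := hf.1 (sl a)
  obtain ⟨B, hB⟩ := hf.2 (sl b)
  obtain ⟨m, hm, rfl⟩ := sl_surj A
  obtain ⟨n, hn, rfl⟩ := sl_surj B
  have e : pp e1 e2 m n = pp e1 e2 a b := by
    rw [← U.eu]
    calc pp e1 e2 m n = e1 (sl m) * e2 (sl n) := rfl
      _ = x * e1 (sl a) * x⁻¹ * (x * e2 (sl b) * x⁻¹) := by rw [hA, hB]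
      _ = x * pp e1 e2 a b * x⁻¹ := by rw [pp]; group
      _ = x * (g * z * g⁻¹) * x⁻¹ := by rw [U.eu]
      _ = _ := by rw [R.inB_comm_u hx]; group
  rw [R.pp_eq_iff hm hn U.ha U.hb, peq_spec] at e
  rcases e with ⟨rfl, rfl⟩ | ⟨rfl, rfl⟩
  · exact ⟨Or.inl hA, Or.inl hB⟩
  · exact ⟨Or.inr (hA.trans (R.e1_sn U.ha)), Or.inr (hB.trans (R.e2_sn U.hb))⟩

/-- the action on the second generators -/
def Triv (_R : Raw z e1 e2) (c d : ℕ) (x : G) : Prop :=
  Sgn z x (e1 (sl c)) (e1 (sl c)) ∧ Sgn z x (e2 (sl d)) (e2 (sl d))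

/-- the transvection -/
def Move (_R : Raw z e1 e2) (a b c d : ℕ) (x : G) : Prop :=
  Sgn z x (e1 (sl c)) (e1 (sl a) * e1 (sl c)) ∧ Sgn z x (e2 (sl d)) (e2 (sl b) * e2 (sl d))

theorem kind [Finite G] (hg : Good e1 e2 z g) (U : Ucode e1 e2 z g a b c d) {x : G}
    (hx : InB e1 e2 z g x) (hf : Fix e1 e2 x) : R.Triv c d x ∨ R.Move a b c d x := by
  set p := pp e1 e2 c d with hp
  have hpQ : InQ e1 e2 p := R.inQ_pp U.hc U.hd U.qc U.qd
  have hq : InQ e1 e2 (x * p⁻¹ * x⁻¹) := R.conjQ x hx.1 _ (R.inQ_inv hpQ)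
  have hpB : InB e1 e2 z g (p * x * p⁻¹) := by
    refine ⟨?_, ?_⟩
    · exact mem_H.1 (mul_mem (mul_mem (mem_H.2 (R.inQ_comm_z hpQ)) (mem_H.2 hx.1))
        (inv_mem (mem_H.2 (R.inQ_comm_z hpQ))))
    · have h1 : g⁻¹ * p * g * z = z * (g⁻¹ * p * g) := R.back_comm hg U.com
      have := R.conjQ _ h1 _ hx.2
      have e : g⁻¹ * (p * x * p⁻¹) * g =
          g⁻¹ * p * g * (g⁻¹ * x * g) * (g⁻¹ * p * g)⁻¹ := by group
      rw [e]
      exact this
  set t := p * x * p⁻¹ * x⁻¹ with ht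
  have htB : InB e1 e2 z g t := (R.Bgrp g).mul_mem hpB ((R.Bgrp g).inv_mem hx)
  have htQ : InQ e1 e2 t := by
    rw [ht, show p * x * p⁻¹ * x⁻¹ = p * (x * p⁻¹ * x⁻¹) by group]
    exact R.inQ_mul hpQ hq
  have hxp : x * p * x⁻¹ = t⁻¹ * p := by rw [ht]; group
  obtain ⟨A, hA⟩ := hf.1 (sl c)
  obtain ⟨B, hB⟩ := hf.2 (sl d)
  obtain ⟨m, hm, rfl⟩ := sl_surj A
  obtain ⟨n, hn, rfl⟩ := sl_surj B
  have hmn : x * p * x⁻¹ = pp e1 e2 m n := by
    rw [pp, ← hA, ← hB, hp, pp]; group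
  have hu := R.u_sq g
  have hne : ∀ k < 24, sm 0 k = k ∧ sm 12 k = sn k := by decide +kernel
  have hac := sm_lt a U.ha c U.hc
  have hbd := sm_lt b U.hb d U.hd
  have hcase : (m = c ∧ n = d) ∨ (m = sn c ∧ n = sn d) ∨ (m = sn c ∧ n = d) ∨
      (m = c ∧ n = sn d) ∨ (m = sm a c ∧ n = sm b d) ∨ (m = sn (sm a c) ∧ n = sn (sm b d)) ∨
      (m = sn (sm a c) ∧ n = sm b d) ∨ (m = sm a c ∧ n = sn (sm b d)) := by
    have hsn : ∀ k < 24, sn (sn k) = k := by decide +kernel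
    rcases R.four hg htQ htB.2 with h | h | h | h <;> rw [hxp, h] at hmn
    · rw [inv_one, one_mul, hp, R.pp_eq_iff U.hc U.hd hm hn, peq_spec] at hmn
      rcases hmn with ⟨rfl, rfl⟩ | ⟨h1, h2⟩
      · exact Or.inl ⟨rfl, rfl⟩
      · exact Or.inr (Or.inl ⟨by rw [h1, hsn m hm], by rw [h2, hsn n hn]⟩)
    · rw [R.z_inv, ← R.pp_z1, hp, R.pp_mul (by norm_num) (by norm_num) U.hc U.hd,
        (hne d U.hd).1, (hne c U.hc).2, R.pp_eq_iff (sn_lt c U.hc) U.hd hm hn, peq_spec] at hmn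
      rcases hmn with ⟨rfl, rfl⟩ | ⟨h1, h2⟩
      · exact Or.inr (Or.inr (Or.inl ⟨rfl, rfl⟩))
      · refine Or.inr (Or.inr (Or.inr (Or.inl ⟨?_, ?_⟩)))
        · rw [← hsn c U.hc, h1, hsn m hm]
        · rw [h2, hsn n hn]
    · rw [inv_eq_of_mul_eq_one_right hu, U.eu, hp, R.pp_mul U.ha U.hb U.hc U.hd,
        R.pp_eq_iff hac hbd hm hn, peq_spec] at hmn
      rcases hmn with ⟨rfl, rfl⟩ | ⟨h1, h2⟩
      · exact Or.inr (Or.inr (Or.inr (Or.inr (Or.inl ⟨rfl, rfl⟩))))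
      · exact Or.inr (Or.inr (Or.inr (Or.inr (Or.inr (Or.inl
          ⟨by rw [h1, hsn m hm], by rw [h2, hsn n hn]⟩)))))
    · rw [mul_inv_rev, inv_eq_of_mul_eq_one_right hu, R.z_inv, mul_assoc, hp, U.eu, ← R.pp_z1,
        R.pp_mul (by norm_num) (by norm_num) U.hc U.hd, (hne d U.hd).1, (hne c U.hc).2,
        R.pp_mul U.ha U.hb (sn_lt c U.hc) U.hd] at hmn
      have hasn : ∀ i < 24, ∀ j < 24, sm i (sn j) = sn (sm i j) := by decide +kernel
      rw [hasn a U.ha c U.hc, R.pp_eq_iff (sn_lt _ hac) hbd hm hn, peq_spec] at hmn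
      rcases hmn with ⟨rfl, rfl⟩ | ⟨h1, h2⟩
      · exact Or.inr (Or.inr (Or.inr (Or.inr (Or.inr (Or.inr (Or.inl ⟨rfl, rfl⟩))))))
      · refine Or.inr (Or.inr (Or.inr (Or.inr (Or.inr (Or.inr (Or.inr ⟨?_, ?_⟩))))))
        · rw [← hsn _ hac, h1, hsn m hm]
        · rw [h2, hsn n hn]
  have s1 : ∀ {k}, k < 24 → (m = k ∨ m = sn k) → Sgn z x (e1 (sl c)) (e1 (sl k)) := by
    rintro k hk (rfl | rfl)
    · exact Or.inl hA
    · exact Or.inr (hA.trans (R.e1_sn hk))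
  have s2 : ∀ {k}, k < 24 → (n = k ∨ n = sn k) → Sgn z x (e2 (sl d)) (e2 (sl k)) := by
    rintro k hk (rfl | rfl)
    · exact Or.inl hB
    · exact Or.inr (hB.trans (R.e2_sn hk))
  have mv : (m = sm a c ∨ m = sn (sm a c)) → (n = sm b d ∨ n = sn (sm b d)) →
      R.Move a b c d x := by
    intro h h'
    refine ⟨?_, ?_⟩
    · rw [← map_mul, ← sl_mul U.ha U.hc]; exact s1 hac h
    · rw [← map_mul, ← sl_mul U.hb U.hd]; exact s2 hbd h'
  rcases hcase with h | h | h | h | h | h | h | h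
  · exact Or.inl ⟨s1 U.hc (Or.inl h.1), s2 U.hd (Or.inl h.2)⟩
  · exact Or.inl ⟨s1 U.hc (Or.inr h.1), s2 U.hd (Or.inr h.2)⟩
  · exact Or.inl ⟨s1 U.hc (Or.inr h.1), s2 U.hd (Or.inl h.2)⟩
  · exact Or.inl ⟨s1 U.hc (Or.inl h.1), s2 U.hd (Or.inr h.2)⟩
  · exact Or.inr (mv (Or.inl h.1) (Or.inl h.2))
  · exact Or.inr (mv (Or.inr h.1) (Or.inr h.2))
  · exact Or.inr (mv (Or.inr h.1) (Or.inl h.2))
  · exact Or.inr (mv (Or.inl h.1) (Or.inr h.2))

/-- an element fixing four generators up to sign lies in `Q` -/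
theorem inQ_of_signs (U : Ucode e1 e2 z g a b c d) {x : G} (hx : x * z = z * x)
    (p1 : Sgn z x (e1 (sl a)) (e1 (sl a))) (p2 : Sgn z x (e1 (sl c)) (e1 (sl c)))
    (p3 : Sgn z x (e2 (sl b)) (e2 (sl b))) (p4 : Sgn z x (e2 (sl d)) (e2 (sl d))) :
    InQ e1 e2 x := by
  have bit : ∀ {v : G}, Sgn z x v v → ∃ s < 2, x * v * x⁻¹ = z ^ s * v := by
    rintro v (h | h)
    · exact ⟨0, by norm_num, by rw [h, pow_zero, one_mul]⟩
    · exact ⟨1, by norm_num, by rw [h, pow_one]⟩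
  obtain ⟨s1, hs1, q1⟩ := bit p1
  obtain ⟨t1, ht1, r1⟩ := bit p2
  obtain ⟨s2, hs2, q2⟩ := bit p3
  obtain ⟨t2, ht2, r2⟩ := bit p4
  obtain ⟨y, hy, qy, ya, yc⟩ := sign_inner a U.ha U.qa c U.hc U.qc U.na s1 hs1 t1 ht1
  obtain ⟨y', hy', qy', yb, yd⟩ := sign_inner b U.hb U.qb d U.hd U.qd U.nb s2 hs2 t2 ht2
  set Y := pp e1 e2 y y' with hY
  have sk : ∀ {f : S2 →* G} (hn : ∀ k < 24, f (sl (sn k)) = z * f (sl k)) {s k : ℕ}, s < 2 →
      k < 24 → f (sl (snk s k)) = z ^ s * f (sl k) := by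
    intro f hn s k hs hk
    interval_cases s
    · simp [snk, Nat.beq_eq]
    · rw [pow_one, ← hn k hk]
      rfl
  have c1 : ∀ {v s : ℕ}, v < 24 → s < 2 → sm y v = snk s (sm v y) →
      Y * e1 (sl v) * Y⁻¹ = z ^ s * e1 (sl v) := by
    intro v s hv hs he
    rw [mul_inv_eq_iff_eq_mul, hY, pp, mul_assoc, ← R.comm, ← mul_assoc, ← map_mul,
      ← sl_mul hy hv, he, sk (fun k hk => R.e1_sn hk) hs (sm_lt v hv y hy), sl_mul hv hy, map_mul]
    simp only [mul_assoc]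
  have c2 : ∀ {v s : ℕ}, v < 24 → s < 2 → sm y' v = snk s (sm v y') →
      Y * e2 (sl v) * Y⁻¹ = z ^ s * e2 (sl v) := by
    intro v s hv hs he
    rw [mul_inv_eq_iff_eq_mul, hY, pp, mul_assoc, ← map_mul, ← sl_mul hy' hv, he,
      sk (fun k hk => R.e2_sn hk) hs (sm_lt v hv y' hy'), sl_mul hv hy', map_mul, ← mul_assoc,
      ← mul_assoc, ← mul_assoc, (Commute.pow_right (R.comm_z1 (sl y)) s).eq,
      mul_assoc (z ^ s), R.comm (sl y) (sl v)]
    simp only [mul_assoc]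
  have hYQ : InQ e1 e2 Y := R.inQ_pp hy hy' qy qy'
  have fixv : ∀ {v : G} {s : ℕ}, x * v * x⁻¹ = z ^ s * v → Y * v * Y⁻¹ = z ^ s * v →
      Y⁻¹ * x * v = v * (Y⁻¹ * x) := by
    intro v s hxv hYv
    calc Y⁻¹ * x * v = Y⁻¹ * (x * v * x⁻¹) * x := by group
      _ = Y⁻¹ * (Y * v * Y⁻¹) * x := by rw [hxv, hYv]
      _ = _ := by group
  have f1 := fixv q1 (c1 U.ha hs1 ya)
  have f2 := fixv r1 (c1 U.hc ht1 yc)
  have f3 := fixv q2 (c2 U.hb hs2 yb)
  have f4 := fixv r2 (c2 U.hd ht2 yd)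
  have hwz : Y⁻¹ * x * z = z * (Y⁻¹ * x) :=
    mem_H.1 (mul_mem (inv_mem (mem_H.2 (R.inQ_comm_z hYQ))) (mem_H.2 hx))
  have hcent : InQ e1 e2 (Y⁻¹ * x) := by
    refine R.centQ _ hwz ?_
    rintro _ ⟨m, hm, n, hn, qm, qn, rfl⟩
    let C : Subgroup G := Subgroup.centralizer ({Y⁻¹ * x} : Set G)
    have memC : ∀ {v : G}, Y⁻¹ * x * v = v * (Y⁻¹ * x) → v ∈ C := fun h =>
      Subgroup.mem_centralizer_singleton_iff.2 h.symm
    have g1 : ∀ {f : S2 →* G} {a c : ℕ}, a < 24 → c < 24 → isQ a = true → isQ c = true →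
        sm a c ≠ sm c a → f (sl a) ∈ C → f (sl c) ∈ C → ∀ k < 24, isQ k = true →
        f (sl k) ∈ C := by
      intro f a c ha hc qa qc hne ma mc k hk qk
      have maa := C.mul_mem ma ma
      rcases q_gen a ha qa c hc qc hne k hk qk with rfl | rfl | rfl | rfl | rfl | rfl | rfl | rfl
      · rw [sl_zero, map_one]; exact C.one_mem
      · rw [sl_mul ha ha, map_mul]; exact maa
      · exact ma
      · exact mc
      · rw [sl_mul ha hc, map_mul]; exact C.mul_mem ma mc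
      · rw [sl_mul hc ha, map_mul]; exact C.mul_mem mc ma
      · rw [sl_mul (sm_lt a ha a ha) ha, sl_mul ha ha, map_mul, map_mul]; exact C.mul_mem maa ma
      · rw [sl_mul (sm_lt a ha a ha) hc, sl_mul ha ha, map_mul, map_mul]; exact C.mul_mem maa mc
    have := C.mul_mem (g1 U.ha U.hc U.qa U.qc U.na (memC f1) (memC f2) m hm qm)
      (g1 U.hb U.hd U.qb U.qd U.nb (memC f3) (memC f4) n hn qn)
    exact (Subgroup.mem_centralizer_singleton_iff.1 this).symm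
  have := R.inQ_mul hYQ hcent
  rwa [mul_inv_cancel_left] at this

theorem move_of_notK [Finite G] (hg : Good e1 e2 z g) (U : Ucode e1 e2 z g a b c d) {x : G}
    (hx : InB e1 e2 z g x) (hf : Fix e1 e2 x) (hK : ¬InK e1 e2 x) : R.Move a b c d x := by
  rcases R.kind hg U hx hf with h | h
  · obtain ⟨p, p'⟩ := R.fix_a U hx hf
    exact absurd (R.inQ_inK (R.inQ_of_signs U hx.1 p h.1 p' h.2)) hK
  · exact h

omit R in
theorem inK_iff (R : Raw z e1 e2) {x : G} : x ∈ R.Kgrp ↔ InK e1 e2 x := Iff.rfl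

theorem fix_coset [Finite G] (hg : Good e1 e2 z g) {x y : G} (hx : x * z = z * x)
    (hy : y * z = z * y) (fx : Fix e1 e2 x) (fy : Fix e1 e2 y) (nx : ¬InK e1 e2 x)
    (ny : ¬InK e1 e2 y) : InK e1 e2 (x⁻¹ * y) := by
  obtain ⟨a, b, c, d, U⟩ := R.exists_ucode hg
  have rep : ∀ {x : G}, x * z = z * x → Fix e1 e2 x → ¬InK e1 e2 x →
      ∃ p, InB e1 e2 z g p ∧ InK e1 e2 (p⁻¹ * x) ∧ R.Move a b c d p ∧ Fix e1 e2 p := by
    intro x hx fx nx
    obtain ⟨p, hp, hpx⟩ := R.coset_B hg hx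
    have hk : InK e1 e2 (p⁻¹ * x)⁻¹ := R.Kgrp.inv_mem hpx
    obtain ⟨m, -, n, -, e⟩ := R.inK_code hk
    have fp : Fix e1 e2 p := by
      have := fx.mul (R.fix_pp (a := m) (b := n))
      rw [← e] at this
      simpa [mul_assoc] using this
    have np : ¬InK e1 e2 p := fun h => nx (by
      have := R.Kgrp.mul_mem h hpx
      rwa [mul_inv_cancel_left] at this)
    exact ⟨p, hp, hpx, R.move_of_notK hg U hp fp np, fp⟩
  obtain ⟨p, hp, hpx, mp, fp⟩ := rep hx fx nx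
  obtain ⟨q, hq, hqy, mq, fq⟩ := rep hy fy ny
  obtain ⟨a1, a2⟩ := R.fix_a U hp fp
  obtain ⟨b1, b2⟩ := R.fix_a U hq fq
  have hQ : InQ e1 e2 (p⁻¹ * q) := R.inQ_of_signs U
    (mem_H.1 (mul_mem (inv_mem (mem_H.2 hp.1)) (mem_H.2 hq.1)))
    (Sgn.div R.z_sq hp.1 a1 b1) (Sgn.div R.z_sq hp.1 mp.1 mq.1)
    (Sgn.div R.z_sq hp.1 a2 b2) (Sgn.div R.z_sq hp.1 mp.2 mq.2)
  have h1 : InK e1 e2 (p⁻¹ * x)⁻¹ := R.Kgrp.inv_mem hpx
  have := R.Kgrp.mul_mem (R.Kgrp.mul_mem h1 (R.inQ_inK hQ)) hqy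
  rw [show (p⁻¹ * x)⁻¹ * (p⁻¹ * q) * (q⁻¹ * y) = x⁻¹ * y by group] at this
  exact this

theorem exists_swp [Finite G] (hg : Good e1 e2 z g) : ∃ h, h * z = z * h ∧ Swp e1 e2 h := by
  obtain ⟨h, k, hh, hk, nh, nk, nhk⟩ := R.two_cosets
  rcases R.permute hh with fh | sh
  · rcases R.permute hk with fk | sk
    · exact absurd (R.fix_coset hg hh hk fh fk nh nk) nhk
    · exact ⟨k, hk, sk⟩
  · exact ⟨h, hh, sh⟩

theorem swp_notK {x : G} (hx : Swp e1 e2 x) : ¬InK e1 e2 x := fun h => by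
  obtain ⟨m, -, n, -, e⟩ := R.inK_code h
  exact R.not_fix_and_swp (e ▸ R.fix_pp) hx

theorem exists_fix_notK [Finite G] :
    ∃ h, h * z = z * h ∧ Fix e1 e2 h ∧ ¬InK e1 e2 h := by
  obtain ⟨h, k, hh, hk, nh, nk, nhk⟩ := R.two_cosets
  rcases R.permute hh with fh | sh
  · exact ⟨h, hh, fh, nh⟩
  rcases R.permute hk with fk | sk
  · exact ⟨k, hk, fk, nk⟩
  have hi : h⁻¹ * z = z * h⁻¹ := mem_H.1 (inv_mem (mem_H.2 hh))
  rcases R.permute hi with fi | si'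
  · have := fi.mul_swp sh
    rw [inv_mul_cancel] at this
    have one : Fix e1 e2 (1 : G) := ⟨fun A => ⟨A, by simp⟩, fun A => ⟨A, by simp⟩⟩
    exact absurd this (R.not_fix_and_swp one)
  · exact ⟨h⁻¹ * k, mem_H.1 (mul_mem (inv_mem (mem_H.2 hh)) (mem_H.2 hk)), si'.mul sk, nhk⟩

/-- for an involution in `B` the transvection changes the sign of `a` -/
theorem invol_sign {f : S2 →* G} (hn : f (-1) = z) (hi : Function.Injective f) {a c : ℕ}
    (ha : a < 24) (sa : sm a a = 12) {x : G} (hxz : x * z = z * x) (hx : x * x = 1)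
    (p : Sgn z x (f (sl a)) (f (sl a))) (q : Sgn z x (f (sl c)) (f (sl a) * f (sl c))) :
    x * f (sl a) * x⁻¹ = z * f (sl a) := by
  rcases p with h | h
  · exfalso
    have hx' : x⁻¹ = x := inv_eq_of_mul_eq_one_right hx
    have haa : f (sl a) * f (sl a) = z := by rw [← map_mul, ← sl_mul ha ha, sa, sl_twelve, hn]
    set A := f (sl a)
    set C := f (sl c)
    have hz' : x * z * x⁻¹ = z := by rw [hxz, mul_inv_cancel_right]
    have two : x * (x * C * x⁻¹) * x⁻¹ = C := by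
      rw [hx', show x * (x * C * x) * x = x * x * C * (x * x) by group, hx]; group
    have : z * C = C := by
      rcases q with h' | h'
      · calc z * C = A * (A * C) := by rw [← mul_assoc, haa]
          _ = (x * A * x⁻¹) * (x * C * x⁻¹) := by rw [h, h']
          _ = x * (A * C) * x⁻¹ := by group
          _ = x * (x * C * x⁻¹) * x⁻¹ := by rw [h']
          _ = C := two
      · calc z * C = (z * z) * (A * (A * C)) := by rw [R.z_sq, one_mul, ← mul_assoc, haa]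
          _ = z * (A * (z * (A * C))) := by
            have hAz : A * z = z * A := by rw [← haa]; group
            rw [← mul_assoc A z, hAz]; group
          _ = (x * z * x⁻¹) * ((x * A * x⁻¹) * (x * C * x⁻¹)) := by rw [hz', h, h']
          _ = x * (z * (A * C)) * x⁻¹ := by group
          _ = x * (x * C * x⁻¹) * x⁻¹ := by rw [h']
          _ = C := two
    exact R.z_ne (mul_eq_right.1 this)
  · exact h

theorem exists_invol [Finite G] (hg : Good e1 e2 z g) :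
    ∃ y, InB e1 e2 z g y ∧ y * y = 1 ∧ ¬InK e1 e2 y := by
  have hs : g⁻¹ * z * g * (g⁻¹ * z * g) = 1 := by
    calc g⁻¹ * z * g * (g⁻¹ * z * g) = g⁻¹ * (z * z) * g := by group
      _ = 1 := by rw [R.z_sq]; group
  have h1 : g⁻¹ * z * g ≠ 1 := fun e => R.z_ne (by
    calc z = g * (g⁻¹ * z * g) * g⁻¹ := by group
      _ = 1 := by rw [e]; group)
  have hne : g⁻¹ * z * g ≠ z := fun e => hg.2 (by
    calc g * z * g⁻¹ = g * (g⁻¹ * z * g) * g⁻¹ := by rw [e]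
      _ = z := by group)
  obtain ⟨a, ha, b, hb, sa, sb, -, -, hzc⟩ := R.invol_codes (R.symm hg) hs h1 hne
  obtain ⟨c, hc, d, hd, qc, qd, hcom, hsq, n0, n12, nab, nab'⟩ := cent_invol a ha sa b hb sb
  have hinvol : g * pp e1 e2 c d * g⁻¹ * (g * pp e1 e2 c d * g⁻¹) = 1 := by
    calc g * pp e1 e2 c d * g⁻¹ * (g * pp e1 e2 c d * g⁻¹) =
        g * (pp e1 e2 c d * pp e1 e2 c d) * g⁻¹ := by group
      _ = 1 := by
        rw [R.pp_mul hc hd hc hd, (R.pp_eq_iff (sm_lt c hc c hc) (sm_lt d hd d hd)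
          (show (0 : ℕ) < 24 by norm_num) (show (0 : ℕ) < 24 by norm_num)).2 hsq, R.pp_one]
        group
  have hB : InB e1 e2 z g (g * pp e1 e2 c d * g⁻¹) := by
    refine ⟨?_, ?_⟩
    · have := (R.pp_com_iff hc hd ha hb).2 hcom
      rw [← hzc] at this
      calc g * pp e1 e2 c d * g⁻¹ * z = g * (pp e1 e2 c d * (g⁻¹ * z * g)) * g⁻¹ := by group
        _ = g * (g⁻¹ * z * g * pp e1 e2 c d) * g⁻¹ := by rw [this]
        _ = _ := by group
    · rw [show g⁻¹ * (g * pp e1 e2 c d * g⁻¹) * g = pp e1 e2 c d by group]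
      exact R.inQ_pp hc hd qc qd
  refine ⟨_, hB, hinvol, fun hK => ?_⟩
  have back : ∀ {t : G}, g * pp e1 e2 c d * g⁻¹ = t → pp e1 e2 c d = g⁻¹ * t * g := by
    intro t h
    rw [← h]; group
  have kill : ∀ {m n : ℕ}, m < 24 → n < 24 → peq c d m n = false →
      pp e1 e2 c d ≠ pp e1 e2 m n := fun hm hn h e => by
    rw [R.pp_eq_iff hc hd hm hn, h] at e
    exact Bool.false_ne_true e
  rcases R.inB_inK hg hB hK with e | e | e | e <;> have e' := back e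
  · exact kill (by norm_num) (by norm_num) n0 (e'.trans (by rw [mul_one, inv_mul_cancel, R.pp_one]))
  · exact kill ha hb nab (e'.trans hzc)
  · exact kill (by norm_num) (by norm_num) n12 (e'.trans (by
      rw [R.pp_z1, show g⁻¹ * (g * z * g⁻¹) * g = z by group]))
  · refine kill ha (sn_lt b hb) nab' (e'.trans ?_)
    rw [show g⁻¹ * (z * (g * z * g⁻¹)) * g = g⁻¹ * z * g * z by group, hzc, ← R.pp_z2,
      R.pp_mul ha hb (by norm_num) (by norm_num)]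
    have : ∀ k < 24, sm k 0 = k ∧ sm k 12 = sn k := by decide +kernel
    rw [(this a ha).1, (this b hb).2]

/-- an involution interchanging the factors -/
theorem exists_w [Finite G] (hg : Good e1 e2 z g) :
    ∃ w, w * z = z * w ∧ w * w = 1 ∧ Swp e1 e2 w := by
  obtain ⟨a, b, c, d, U⟩ := R.exists_ucode hg
  obtain ⟨y, hy, hyy, hyK⟩ := R.exists_invol hg
  rcases R.permute hy.1 with fy | sy
  swap
  · exact ⟨y, hy.1, hyy, sy⟩
  obtain ⟨my1, my2⟩ := R.move_of_notK hg U hy fy hyK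
  obtain ⟨py1, py2⟩ := R.fix_a U hy fy
  have ya := R.invol_sign R.neg1 R.inj1 U.ha U.sa hy.1 hyy py1 my1
  have yb := R.invol_sign R.neg2 R.inj2 U.hb U.sb hy.1 hyy py2 my2
  obtain ⟨h, hh, sh⟩ := R.exists_swp hg
  obtain ⟨p, hp, hpK⟩ := R.coset_B hg hh
  have sp : Swp e1 e2 p := by
    have hk : InK e1 e2 (p⁻¹ * h)⁻¹ := R.Kgrp.inv_mem hpK
    obtain ⟨m, -, n, -, e⟩ := R.inK_code hk
    have := sh.mul_fix (R.fix_pp (a := m) (b := n))
    rw [← e] at this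
    simpa [mul_assoc] using this
  -- now find an element of `B` mapping `e1 a` to `e2 b`
  obtain ⟨q, hq, sq, hqa⟩ : ∃ q, InB e1 e2 z g q ∧ Swp e1 e2 q ∧
      q * e1 (sl a) * q⁻¹ = e2 (sl b) := by
    obtain ⟨D, hD⟩ := sp.1 (sl a)
    obtain ⟨C, hC⟩ := sp.2 (sl b)
    obtain ⟨n, hn, rfl⟩ := sl_surj D
    obtain ⟨m, hm, rfl⟩ := sl_surj C
    have e : pp e1 e2 m n = pp e1 e2 a b := by
      rw [← U.eu]
      calc pp e1 e2 m n = e1 (sl m) * e2 (sl n) := rfl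
        _ = e2 (sl n) * e1 (sl m) := R.comm _ _
        _ = p * e1 (sl a) * p⁻¹ * (p * e2 (sl b) * p⁻¹) := by rw [hC, hD]
        _ = p * pp e1 e2 a b * p⁻¹ := by rw [pp]; group
        _ = p * (g * z * g⁻¹) * p⁻¹ := by rw [U.eu]
        _ = _ := by rw [R.inB_comm_u hp]; group
    rw [R.pp_eq_iff hm hn U.ha U.hb, peq_spec] at e
    rcases e with ⟨rfl, rfl⟩ | ⟨rfl, rfl⟩
    · exact ⟨p, hp, sp, hD⟩
    · refine ⟨y * p, (R.Bgrp g).mul_mem hy hp, fy.mul_swp sp, ?_⟩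
      calc y * p * e1 (sl a) * (y * p)⁻¹ = y * (p * e1 (sl a) * p⁻¹) * y⁻¹ := by group
        _ = y * (z * e2 (sl b)) * y⁻¹ := by rw [hD, R.e2_sn U.hb]
        _ = (y * z) * e2 (sl b) * y⁻¹ := by group
        _ = z * (y * e2 (sl b) * y⁻¹) := by rw [hy.1]; group
        _ = _ := by rw [yb, ← mul_assoc, R.z_sq, one_mul]
  rcases R.inB_sq hq with h2 | h2
  · exact ⟨q, hq.1, h2, sq⟩
  refine ⟨q * (e1 (sl a))⁻¹, ?_, ?_, ?_⟩
  · exact mem_H.1 (mul_mem (mem_H.2 hq.1) (inv_mem (mem_H.2 (R.comm_z1 _))))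
  · have hqa' : q * (e1 (sl a))⁻¹ * q⁻¹ = (e2 (sl b))⁻¹ := by rw [← hqa]; group
    calc q * (e1 (sl a))⁻¹ * (q * (e1 (sl a))⁻¹) =
        q * (e1 (sl a))⁻¹ * q⁻¹ * (q * q) * (e1 (sl a))⁻¹ := by group
      _ = (e2 (sl b))⁻¹ * (e1 (sl a) * e2 (sl b)) * (e1 (sl a))⁻¹ := by
        rw [hqa', h2, U.eu, pp]
      _ = _ := by rw [R.comm]; group
  · have hfix : Fix e1 e2 (e1 (sl a))⁻¹ := by
      have h0 := R.fix_pp (a := si a) (b := 0)
      rwa [R.pp_first, sl_inv U.ha, map_inv] at h0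
    exact sq.mul_fix hfix

/-- an automorphism of one factor that moves `c` is outer -/
theorem outer_form {f : S2 →* G} (hn : f (-1) = z) (hi : Function.Injective f) {a c : ℕ}
    (ha : a < 24) (hc : c < 24) (qa : isQ a = true) (qc : isQ c = true)
    (hne : sm a c ≠ sm c a) {x : G} (hf : Into f f x) (hxz : x * z = z * x)
    (p : Sgn z x (f (sl a)) (f (sl a))) (q : Sgn z x (f (sl c)) (f (sl a) * f (sl c))) :
    ∃ k, ∀ v, x * f v * x⁻¹ = f (k * slG v * k⁻¹) := by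
  obtain ⟨A, hA⟩ := hf (sl 1)
  obtain ⟨B, hB⟩ := hf (sl 5)
  obtain ⟨A, hA', rfl⟩ := sl_surj A
  obtain ⟨B, hB', rfl⟩ := sl_surj B
  have h15 : (1 : ℕ) < 24 ∧ (5 : ℕ) < 24 := by norm_num
  let α : S2 →* G := (MulAut.conj x).toMonoidHom.comp f
  have hαi : Function.Injective α := (MulAut.conj x).injective.comp hi
  have a1 : α (sl 1) = f (sl A) := hA
  have a5 : α (sl 5) = f (sl B) := hB
  have lift : ∀ {m n : ℕ}, m < 24 → n < 24 → f (sl m) = f (sl n) → m = n :=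
    fun hm hn h => sl_inj hm hn (hi h)
  have r0 : A ≠ 0 := by
    rintro rfl
    have := hαi (show α (sl 1) = α 1 by rw [a1, map_one, sl_zero, map_one])
    rw [← sl_zero] at this
    exact absurd (sl_inj h15.1 (by norm_num) this) (by norm_num)
  have hAA := sm_lt A hA' A hA'
  have r3 : sm A (sm A A) = 0 := lift (sm_lt A hA' _ hAA) (by norm_num) (by
    rw [sl_mul hA' hAA, sl_mul hA' hA', map_mul, map_mul, ← a1, ← map_mul, ← map_mul,
      ← sl_mul h15.1 h15.1, ← sl_mul h15.1 (sm_lt _ h15.1 _ h15.1),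
      show sm 1 (sm 1 1) = 0 by decide +kernel, sl_zero, map_one, map_one])
  have r4 : sm B B = 12 := lift (sm_lt B hB' B hB') (by norm_num) (by
    rw [sl_mul hB' hB', map_mul, ← a5, ← map_mul, ← sl_mul h15.2 h15.2,
      show sm 5 5 = 12 by decide +kernel, sl_twelve, hn]
    show x * f (-1) * x⁻¹ = z
    rw [hn, hxz, mul_inv_cancel_right])
  have hBA := sm_lt B hB' A hA'
  have h51 := sm_lt 5 h15.2 1 h15.1
  have r6 : sm (sm B A) (sm (sm B A) (sm B A)) = 0 :=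
    lift (sm_lt _ hBA _ (sm_lt _ hBA _ hBA)) (by norm_num) (by
    rw [sl_mul hBA (sm_lt _ hBA _ hBA), sl_mul hBA hBA, sl_mul hB' hA', sl_zero, map_one]
    simp only [map_mul, ← a1, ← a5]
    simp only [← map_mul]
    rw [← sl_mul h15.2 h15.1, ← sl_mul h51 h51, ← sl_mul h51 (sm_lt _ h51 _ h51),
      show sm (sm 5 1) (sm (sm 5 1) (sm 5 1)) = 0 by decide +kernel, sl_zero, map_one])
  have eqhom : ∀ β : S2 →* G, β (sl 1) = f (sl A) → β (sl 5) = f (sl B) → ∀ v, α v = β v := by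
    intro β b1 b5 v
    have h : α.eqLocus β = ⊤ := by
      rw [eq_top_iff, ← sl_closure, Subgroup.closure_le]
      rintro t (rfl | rfl)
      · exact a1.trans b1.symm
      · show α (sl 3) = β (sl 3)
        rw [show sl 3 = sl (sm 5 (sm (si 1) (si 5))) from congrArg sl three_five.symm,
          sl_mul h15.2 (sm_lt _ (si_spec 1 h15.1).1 _ (si_spec 5 h15.2).1),
          sl_mul (si_spec 1 h15.1).1 (si_spec 5 h15.2).1, sl_inv h15.1, sl_inv h15.2]
        simp only [map_mul, map_inv, a1, a5, b1, b5]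
    exact (h ▸ Subgroup.mem_top v : v ∈ α.eqLocus β)
  rcases auto_images A hA' r0 r3 B hB' r4 r6 with ⟨k, hk, k1, k5⟩ | ⟨k, hk, k1, k5⟩
  · exfalso
    have key : ∀ v, α v = f (sl k * v * (sl k)⁻¹) := by
      refine eqhom (f.comp (MulAut.conj (sl k)).toMonoidHom) ?_ ?_
      · show f (sl k * sl 1 * (sl k)⁻¹) = _
        rw [← sl_mul hk h15.1, ← k1, sl_mul hA' hk, mul_inv_cancel_right]
      · show f (sl k * sl 5 * (sl k)⁻¹) = _
        rw [← sl_mul hk h15.2, ← k5, sl_mul hB' hk, mul_inv_cancel_right]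
    have kk : ∀ {v t : ℕ}, v < 24 → t < 24 → Sgn z x (f (sl v)) (f (sl t)) →
        sm k v = sm t k ∨ sm k v = sn (sm t k) := by
      intro v t hv ht h
      have e : x * f (sl v) * x⁻¹ = f (sl k * sl v * (sl k)⁻¹) := key (sl v)
      rcases h with h | h
      · left
        apply sl_inj (sm_lt k hk v hv) (sm_lt t ht k hk)
        rw [sl_mul hk hv, sl_mul ht hk, ← hi (e.symm.trans h)]
        group
      · right
        have h' : x * f (sl v) * x⁻¹ = f (sl (sn t)) := by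
          rw [h, sl_sn ht, sl_twelve, map_mul, hn]
        apply sl_inj (sm_lt k hk v hv) (sn_lt _ (sm_lt t ht k hk))
        rw [sl_mul hk hv, sl_sn (sm_lt t ht k hk), sl_mul ht hk, ← mul_assoc, ← sl_sn ht,
          ← hi (e.symm.trans h')]
        group
    have p' := kk ha ha p
    have q' := kk hc (sm_lt a ha c hc) (by rw [sl_mul ha hc, map_mul]; exact q)
    exact no_inner a ha qa c hc qc hne k hk p' q'
  · refine ⟨sl k, fun v => ?_⟩
    refine eqhom (f.comp ((MulAut.conj (sl k)).toMonoidHom.comp slG)) ?_ ?_ v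
    · show f (sl k * slG (sl 1) * (sl k)⁻¹) = _
      rw [← sl_sg h15.1, ← sl_mul hk (sg_lt 1 h15.1), ← k1, sl_mul hA' hk, mul_inv_cancel_right]
    · show f (sl k * slG (sl 5) * (sl k)⁻¹) = _
      rw [← sl_sg h15.2, ← sl_mul hk (sg_lt 5 h15.2), ← k5, sl_mul hB' hk, mul_inv_cancel_right]

/-- an element outside `K` fixing both factors induces outer automorphisms on both -/
theorem exists_outer [Finite G] (hg : Good e1 e2 z g) :
    ∃ x k1 k2, x * z = z * x ∧ (∀ v, x * e1 v * x⁻¹ = e1 (k1 * slG v * k1⁻¹)) ∧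
      (∀ v, x * e2 v * x⁻¹ = e2 (k2 * slG v * k2⁻¹)) ∧ Fix e1 e2 x ∧ ¬InK e1 e2 x := by
  obtain ⟨a, b, c, d, U⟩ := R.exists_ucode hg
  obtain ⟨h, hh, fh, nh⟩ := R.exists_fix_notK
  obtain ⟨p, hp, hpK⟩ := R.coset_B hg hh
  have hk : InK e1 e2 (p⁻¹ * h)⁻¹ := R.Kgrp.inv_mem hpK
  obtain ⟨m, -, n, -, e⟩ := R.inK_code hk
  have fp : Fix e1 e2 p := by
    have := fh.mul (R.fix_pp (a := m) (b := n))
    rw [← e] at this
    simpa [mul_assoc] using this
  have np : ¬InK e1 e2 p := fun hK => nh (by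
    have := R.Kgrp.mul_mem hK hpK
    rwa [mul_inv_cancel_left] at this)
  obtain ⟨m1, m2⟩ := R.move_of_notK hg U hp fp np
  obtain ⟨s1, s2⟩ := R.fix_a U hp fp
  obtain ⟨k1, e1'⟩ := R.outer_form R.neg1 R.inj1 U.ha U.hc U.qa U.qc U.na fp.1 hp.1 s1 m1
  obtain ⟨k2, e2'⟩ := R.outer_form R.neg2 R.inj2 U.hb U.hd U.qb U.qd U.nb fp.2 hp.1 s2 m2
  exact ⟨p, k1, k2, hp.1, e1', e2', fp, np⟩

end Raw

end Cfsg.Agent.H66.UFour
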